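import Mathlib
import Cfsg.Agent.Lib.Helper1.Inv

set_option autoImplicit false

namespace Cfsg.Agent.Lib.Helper1.BS

open Cfsg.Agent.Lib.Helper1

universe u

theorem ncard_inter_sylow {G : Type*} [Group G] [Finite G] {p : ℕ} [Fact p.Prime] (K : Set G)
    (hK : ∀ k ∈ K, ∀ g : G, g * k * g⁻¹ ∈ K) (P Q : Sylow p G) :
    {k | k ∈ K ∧ k ∈ P}.ncard = {k | k ∈ K ∧ k ∈ Q}.ncard := by
  obtain ⟨g, hg⟩ := MulAction.exists_smul_eq G P Q
  have himg : (fun k => g * k * g⁻¹) '' {k | k ∈ K ∧ k ∈ P} = {k | k ∈ K ∧ k ∈ Q} := by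
    ext y
    constructor
    · rintro ⟨k, ⟨hkK, hkP⟩, rfl⟩
      refine ⟨hK k hkK g, ?_⟩
      rw [← hg, mem_sylow_smul_iff]
      have e : g⁻¹ * (g * k * g⁻¹) * g = k := by group
      rw [e]
      exact hkP
    · rintro ⟨hyK, hyQ⟩
      rw [← hg, mem_sylow_smul_iff] at hyQ
      refine ⟨g⁻¹ * y * g, ⟨?_, hyQ⟩, by group⟩
      have h1 := hK y hyK g⁻¹
      rwa [inv_inv] at h1
  rw [← himg]
  exact (Set.ncard_image_of_injective _
    (fun a b hab => mul_left_cancel (mul_right_cancel hab))).symm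

theorem exists_normalizing_K {G : Type*} [Group G] [Finite G] {p : ℕ} [Fact p.Prime] (K : Set G)
    (P : Sylow p G) (Q : Subgroup G)
    (hne : ∃ k ∈ K, k ∈ P ∧ k ∉ Q) :
    ∃ x ∈ K, x ∈ P ∧ x ∉ Q ∧ ∀ t, t ∈ K → t ∈ P → t ∈ Q → (x * t * x⁻¹ ∈ K → x * t * x⁻¹ ∈ Q) := by
  haveI : Nonempty {E : Subgroup G // (P : Subgroup G) ⊓ Q ≤ E ∧ E ≤ P ∧
      ∀ k ∈ K, k ∈ E → k ∈ Q} :=
    ⟨⟨(P : Subgroup G) ⊓ Q, le_rfl, inf_le_left, fun k _ hk => hk.2⟩⟩
  obtain ⟨⟨E, hE1, hE2, hE3⟩, hmax⟩ := Finite.exists_max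
    (fun E : {E : Subgroup G // (P : Subgroup G) ⊓ Q ≤ E ∧ E ≤ P ∧
      ∀ k ∈ K, k ∈ E → k ∈ Q} => Nat.card (E : Subgroup G))
  have hEP : E ≠ (P : Subgroup G) := by
    rintro rfl
    obtain ⟨k, hkK, hkP, hkQ⟩ := hne
    exact hkQ (hE3 k hkK hkP)
  obtain ⟨n, hnP, hnE, hnn⟩ := exists_normalizing_not_mem E (P : Subgroup G) P.2 hE2 hEP
  have hnN : n ∈ Subgroup.normalizer (E : Set G) := Subgroup.mem_normalizer_fintype hnn
  have hEE' : E ≤ (P : Subgroup G) ⊓ Subgroup.normalizer (E : Set G) :=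
    le_inf hE2 Subgroup.le_normalizer
  have hnot : ¬ ∀ k ∈ K, k ∈ (P : Subgroup G) ⊓ Subgroup.normalizer (E : Set G) → k ∈ Q := by
    intro hall
    have h1 := hmax ⟨(P : Subgroup G) ⊓ Subgroup.normalizer (E : Set G),
      hE1.trans hEE', inf_le_left, hall⟩
    have h2 := Subgroup.eq_of_le_of_card_ge hEE' h1
    apply hnE
    rw [h2]
    exact ⟨hnP, hnN⟩
  simp only [not_forall] at hnot
  obtain ⟨x, hxK, hxE, hxQ⟩ := hnot
  refine ⟨x, hxK, hxE.1, hxQ, ?_⟩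
  intro t htK htP htQ hK'
  have h1 : t ∈ E := hE1 ⟨htP, htQ⟩
  have h2 : x * t * x⁻¹ ∈ E := (Subgroup.mem_normalizer_iff.mp hxE.2 t).mp h1
  exact hE3 _ hK' h2

theorem baer_suzuki_aux {p : ℕ} [Fact p.Prime] (n : ℕ) :
    ∀ (G : Type u) [Group G] [Finite G], Nat.card G = n → ∀ (K : Set G),
      (∀ k ∈ K, ∀ g : G, g * k * g⁻¹ ∈ K) →
      (∀ a ∈ K, ∀ b ∈ K, ∃ S : Subgroup G, IsPGroup p S ∧ a ∈ S ∧ b ∈ S) →
      ∃ S : Subgroup G, IsPGroup p S ∧ ∀ k ∈ K, k ∈ S := by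
  induction n using Nat.strong_induction_on with
  | _ n ih =>
    intro G _ _ hn K hK h2
    by_contra hcon
    have hA : ∃ P Q : Sylow p G, ¬ (∀ k ∈ K, k ∈ P ↔ k ∈ Q) := by
      by_contra hno
      simp only [not_exists, not_not] at hno
      apply hcon
      obtain ⟨P⟩ : Nonempty (Sylow p G) := inferInstance
      refine ⟨P, P.2, ?_⟩
      intro k hk
      obtain ⟨S, hS, hkS, -⟩ := h2 k hk k hk
      obtain ⟨Q, hQ⟩ := hS.exists_le_sylow
      exact (hno P Q k hk).mpr (hQ hkS)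
    haveI : Nonempty {PQ : Sylow p G × Sylow p G // ¬ (∀ k ∈ K, k ∈ PQ.1 ↔ k ∈ PQ.2)} := by
      obtain ⟨P, Q, h⟩ := hA
      exact ⟨⟨(P, Q), h⟩⟩
    obtain ⟨⟨⟨P, Q⟩, hne⟩, hmax⟩ := Finite.exists_max
      (fun PQ : {PQ : Sylow p G × Sylow p G // ¬ (∀ k ∈ K, k ∈ PQ.1 ↔ k ∈ PQ.2)} =>
        {t | t ∈ K ∧ t ∈ PQ.1.1 ∧ t ∈ PQ.1.2}.ncard)
    simp only at hne hmax
    have hcard := ncard_inter_sylow K hK P Q
    have hPQ : ∃ k ∈ K, k ∈ P ∧ k ∉ Q := by
      by_contra hno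
      have hsub : {k | k ∈ K ∧ k ∈ P} ⊆ {k | k ∈ K ∧ k ∈ Q} := by
        intro k hk
        refine ⟨hk.1, ?_⟩
        by_contra hq
        exact hno ⟨k, hk.1, hk.2, hq⟩
      have heq := Set.eq_of_subset_of_ncard_le hsub (le_of_eq hcard.symm)
      apply hne
      intro k hk
      constructor
      · intro hkP
        exact (hsub ⟨hk, hkP⟩).2
      · intro hkQ
        have h1 : k ∈ {k | k ∈ K ∧ k ∈ Q} := ⟨hk, hkQ⟩
        rw [← heq] at h1
        exact h1.2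
    have hQP : ∃ k ∈ K, k ∈ Q ∧ k ∉ P := by
      by_contra hno
      have hsub : {k | k ∈ K ∧ k ∈ Q} ⊆ {k | k ∈ K ∧ k ∈ P} := by
        intro k hk
        refine ⟨hk.1, ?_⟩
        by_contra hq
        exact hno ⟨k, hk.1, hk.2, hq⟩
      have heq := Set.eq_of_subset_of_ncard_le hsub (le_of_eq hcard)
      apply hne
      intro k hk
      constructor
      · intro hkP
        have h1 : k ∈ {k | k ∈ K ∧ k ∈ P} := ⟨hk, hkP⟩
        rw [← heq] at h1
        exact h1.2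
      · intro hkQ
        exact (hsub ⟨hk, hkQ⟩).2
    obtain ⟨x, hxK, hxP, hxQ, hxT⟩ := exists_normalizing_K K P (Q : Subgroup G) hPQ
    obtain ⟨y, hyK, hyQ, hyP, hyT⟩ := exists_normalizing_K K Q (P : Subgroup G) hQP
    have hR : ∃ S : Subgroup G, IsPGroup p S ∧ x ∈ S ∧ y ∈ S ∧
        ∀ t, t ∈ K → t ∈ P → t ∈ Q → t ∈ S := by
      have hTfin : Finite ↥{t | t ∈ K ∧ t ∈ P ∧ t ∈ Q} := inferInstance
      have hxN : x ∈ Subgroup.normalizer {t | t ∈ K ∧ t ∈ P ∧ t ∈ Q} := by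
        apply Subgroup.mem_normalizer_fintype
        rintro t ⟨htK, htP, htQ⟩
        have h1 := hK t htK x
        exact ⟨h1, Subgroup.mul_mem _ (Subgroup.mul_mem _ hxP htP) (Subgroup.inv_mem _ hxP),
          hxT t htK htP htQ h1⟩
      have hyN : y ∈ Subgroup.normalizer {t | t ∈ K ∧ t ∈ P ∧ t ∈ Q} := by
        apply Subgroup.mem_normalizer_fintype
        rintro t ⟨htK, htP, htQ⟩
        have h1 := hK t htK y
        exact ⟨h1, hyT t htK htQ htP h1,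
          Subgroup.mul_mem _ (Subgroup.mul_mem _ hyQ htQ) (Subgroup.inv_mem _ hyQ)⟩
      have htN : ∀ t, t ∈ K → t ∈ P → t ∈ Q →
          t ∈ Subgroup.normalizer {t | t ∈ K ∧ t ∈ P ∧ t ∈ Q} := by
        intro t htK htP htQ
        apply Subgroup.mem_normalizer_fintype
        rintro s ⟨hsK, hsP, hsQ⟩
        exact ⟨hK s hsK t,
          Subgroup.mul_mem _ (Subgroup.mul_mem _ htP hsP) (Subgroup.inv_mem _ htP),
          Subgroup.mul_mem _ (Subgroup.mul_mem _ htQ hsQ) (Subgroup.inv_mem _ htQ)⟩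
      by_cases hN : Subgroup.normalizer {t | t ∈ K ∧ t ∈ P ∧ t ∈ Q} = ⊤
      · obtain ⟨S0, hS0, hxS0, hyS0⟩ := h2 x hxK y hyK
        have hD : IsPGroup p (Subgroup.normalClosure {t | t ∈ K ∧ t ∈ P ∧ t ∈ Q}) := by
          apply P.2.to_le
          unfold Subgroup.normalClosure
          rw [Subgroup.closure_le]
          intro a ha
          rw [Group.mem_conjugatesOfSet_iff] at ha
          obtain ⟨b, hb, hba⟩ := ha
          rw [isConj_iff] at hba
          obtain ⟨c, hc⟩ := hba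
          have hcN : c ∈ Subgroup.normalizer {t | t ∈ K ∧ t ∈ P ∧ t ∈ Q} := by
            rw [hN]; exact Subgroup.mem_top c
          have h1 : c * b * c⁻¹ ∈ {t | t ∈ K ∧ t ∈ P ∧ t ∈ Q} := (hcN b).mp hb
          rw [hc] at h1
          exact h1.2.1
        refine ⟨Subgroup.normalClosure {t | t ∈ K ∧ t ∈ P ∧ t ∈ Q} ⊔ S0,
          hD.to_sup_of_normal_left hS0, ?_, ?_, ?_⟩
        · exact (le_sup_right : S0 ≤ _) hxS0
        · exact (le_sup_right : S0 ≤ _) hyS0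
        · intro t htK htP htQ
          exact (le_sup_left : Subgroup.normalClosure {t | t ∈ K ∧ t ∈ P ∧ t ∈ Q} ≤ _)
            (Subgroup.subset_normalClosure ⟨htK, htP, htQ⟩)
      · have hlt : Nat.card ↥(Subgroup.normalizer {t | t ∈ K ∧ t ∈ P ∧ t ∈ Q}) < n := by
          rw [← hn]
          by_contra hge
          exact hN (Subgroup.eq_top_of_le_card _ (not_lt.mp hge))
        obtain ⟨SN, hSN, hSNK⟩ := ih _ hlt
          ↥(Subgroup.normalizer {t | t ∈ K ∧ t ∈ P ∧ t ∈ Q}) rfl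
          {m | (m : G) ∈ K}
          (fun k hk g => hK (k : G) hk (g : G))
          (fun a ha b hb => by
            obtain ⟨S, hS, haS, hbS⟩ := h2 (a : G) ha (b : G) hb
            exact ⟨S.comap (Subgroup.subtype _),
              hS.comap_of_injective _ (Subgroup.subtype_injective _), haS, hbS⟩)
        refine ⟨SN.map (Subgroup.subtype _), hSN.map _, ?_, ?_, ?_⟩
        · exact ⟨⟨x, hxN⟩, hSNK ⟨x, hxN⟩ hxK, rfl⟩
        · exact ⟨⟨y, hyN⟩, hSNK ⟨y, hyN⟩ hyK, rfl⟩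
        · intro t htK htP htQ
          exact ⟨⟨t, htN t htK htP htQ⟩, hSNK ⟨t, htN t htK htP htQ⟩ htK, rfl⟩
    obtain ⟨S, hS, hxS, hyS, htS⟩ := hR
    obtain ⟨R, hSR⟩ := hS.exists_le_sylow
    have hPR : ∀ k ∈ K, k ∈ P ↔ k ∈ R := by
      by_contra hnePR
      have h1 := hmax ⟨(P, R), hnePR⟩
      simp only at h1
      have hss : {t | t ∈ K ∧ t ∈ P ∧ t ∈ Q} ⊂ {t | t ∈ K ∧ t ∈ P ∧ t ∈ R} := by
        refine ⟨?_, ?_⟩
        · rintro t ⟨htK, htP, htQ⟩
          exact ⟨htK, htP, hSR (htS t htK htP htQ)⟩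
        · intro hsub
          exact hxQ (hsub ⟨hxK, hxP, hSR hxS⟩).2.2
      have h3 := Set.ncard_lt_ncard hss
      omega
    have hQR : ∀ k ∈ K, k ∈ Q ↔ k ∈ R := by
      by_contra hneQR
      have h1 := hmax ⟨(Q, R), hneQR⟩
      simp only at h1
      have hss : {t | t ∈ K ∧ t ∈ P ∧ t ∈ Q} ⊂ {t | t ∈ K ∧ t ∈ Q ∧ t ∈ R} := by
        refine ⟨?_, ?_⟩
        · rintro t ⟨htK, htP, htQ⟩
          exact ⟨htK, htQ, hSR (htS t htK htP htQ)⟩
        · intro hsub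
          exact hyP (hsub ⟨hyK, hyQ, hSR hyS⟩).2.1
      have h3 := Set.ncard_lt_ncard hss
      omega
    apply hne
    intro k hk
    rw [hPR k hk, hQR k hk]

theorem baer_suzuki_set {G : Type u} [Group G] [Finite G] {p : ℕ} [Fact p.Prime] (K : Set G)
    (hK : ∀ k ∈ K, ∀ g : G, g * k * g⁻¹ ∈ K)
    (h2 : ∀ a ∈ K, ∀ b ∈ K, ∃ S : Subgroup G, IsPGroup p S ∧ a ∈ S ∧ b ∈ S) :
    ∃ S : Subgroup G, IsPGroup p S ∧ ∀ k ∈ K, k ∈ S :=
  baer_suzuki_aux (Nat.card G) G rfl K hK h2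

theorem baer_suzuki_subgroup {G : Type u} [Group G] [Finite G] {p : ℕ} [Fact p.Prime]
    (X : Subgroup G)
    (h : ∀ g : G, IsPGroup p ↥(X ⊔ X.map (MulAut.conj g).toMonoidHom)) :
    ∃ N : Subgroup G, N.Normal ∧ IsPGroup p N ∧ X ≤ N := by
  obtain ⟨S, hS, hKS⟩ := baer_suzuki_set (p := p) (Group.conjugatesOfSet (X : Set G))
    (fun k hk g => Group.conj_mem_conjugatesOfSet hk)
    (by
      intro a ha b hb
      rw [Group.mem_conjugatesOfSet_iff] at ha hb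
      obtain ⟨x, hx, hxa⟩ := ha
      obtain ⟨y, hy, hyb⟩ := hb
      rw [isConj_iff] at hxa hyb
      obtain ⟨c, hc⟩ := hxa
      obtain ⟨d, hd⟩ := hyb
      refine ⟨(X ⊔ X.map (MulAut.conj (c⁻¹ * d)).toMonoidHom).map (MulAut.conj c).toMonoidHom,
        (h _).map _, ?_, ?_⟩
      · refine ⟨x, (le_sup_left : X ≤ _) hx, ?_⟩
        show c * x * c⁻¹ = a
        exact hc
      · refine ⟨(c⁻¹ * d) * y * (c⁻¹ * d)⁻¹,
          (le_sup_right : X.map (MulAut.conj (c⁻¹ * d)).toMonoidHom ≤ _) ⟨y, hy, rfl⟩, ?_⟩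
        show c * ((c⁻¹ * d) * y * (c⁻¹ * d)⁻¹) * c⁻¹ = b
        rw [← hd]
        group)
  refine ⟨Subgroup.normalClosure (X : Set G), Subgroup.normalClosure_normal, ?_,
    Subgroup.le_normalClosure⟩
  apply hS.to_le
  unfold Subgroup.normalClosure
  rw [Subgroup.closure_le]
  exact fun k hk => hKS k hk

theorem isPGroup_two_closure_pair {G : Type*} [Group G] (a b : G) (ha : a * a = 1)
    (hb : b * b = 1) (k : ℕ) (hk : (a * b) ^ (2 ^ k) = 1) :
    IsPGroup 2 (Subgroup.closure ({a, b} : Set G)) := by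
  rintro ⟨d, hd⟩
  refine ⟨k + 1, ?_⟩
  apply Subtype.ext
  show d ^ 2 ^ (k + 1) = 1
  obtain ⟨j, h | h⟩ := mem_closure_pair a b ha hb d hd
  · have e : ((a * b) ^ j) ^ (2 ^ k) = 1 := by
      rw [← zpow_natCast ((a * b) ^ j) (2 ^ k), ← zpow_mul, mul_comm j _, zpow_mul,
        zpow_natCast, hk, one_zpow]
    rw [h, pow_succ, pow_mul, e, one_pow]
  · have h2 : d * d = 1 := by
      rw [h]
      calc a * (a * b) ^ j * (a * (a * b) ^ j) = (a * (a * b) ^ j * a) * (a * b) ^ j := by group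
        _ = 1 := by rw [conj_zpow_prod a b ha hb j, inv_mul_cancel]
    rw [pow_succ', pow_mul, pow_two, h2, one_pow]

theorem invol_inverts_odd {G : Type u} [Group G] [Finite G] (t : G) (ht : orderOf t = 2)
    (hO : ∀ N : Subgroup G, N.Normal → IsPGroup 2 N → t ∉ N) :
    ∃ h : G, h ≠ 1 ∧ Odd (orderOf h) ∧ t * h * t⁻¹ = h⁻¹ := by
  by_contra hcon
  haveI : Fact (Nat.Prime 2) := ⟨Nat.prime_two⟩
  have htt := mul_self_of_orderOf_two ht
  have key : ∀ s : G, IsConj t s → ∃ k : ℕ, (t * s) ^ (2 ^ k) = 1 := by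
    intro s hs
    have hs2 : orderOf s = 2 := by
      rw [isConj_iff] at hs
      obtain ⟨c, hc⟩ := hs
      rw [← hc]
      exact orderOf_conj_two ht c
    have hss := mul_self_of_orderOf_two hs2
    have hpos : orderOf (t * s) ≠ 0 := (orderOf_pos _).ne'
    obtain ⟨k, m, hm, hkm⟩ := Nat.exists_eq_two_pow_mul_odd hpos
    refine ⟨k, ?_⟩
    by_contra hne
    apply hcon
    refine ⟨(t * s) ^ (2 ^ k), hne, ?_, ?_⟩
    · have hdvd : orderOf ((t * s) ^ (2 ^ k)) ∣ m := by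
        rw [orderOf_dvd_iff_pow_eq_one, ← pow_mul, ← hkm, pow_orderOf_eq_one]
      exact hm.of_dvd_nat hdvd
    · have h1 := conj_zpow_prod t s htt hss ((2 ^ k : ℕ) : ℤ)
      rw [zpow_natCast] at h1
      rw [inv_of_orderOf_two ht]
      exact h1
  obtain ⟨S, hS, hKS⟩ := baer_suzuki_set (p := 2) (Group.conjugatesOfSet ({t} : Set G))
    (fun k hk g => Group.conj_mem_conjugatesOfSet hk)
    (by
      intro a ha b hb
      rw [Group.mem_conjugatesOfSet_iff] at ha hb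
      obtain ⟨t1, ht1, hta⟩ := ha
      obtain ⟨t2, ht2, htb⟩ := hb
      rw [Set.mem_singleton_iff] at ht1 ht2
      subst ht1
      subst ht2
      have hta' := hta
      rw [isConj_iff] at hta'
      obtain ⟨c, hc⟩ := hta'
      have hs : IsConj t2 (c⁻¹ * b * c) :=
        htb.trans (isConj_iff.mpr ⟨c⁻¹, by rw [inv_inv]⟩)
      obtain ⟨k, hk⟩ := key _ hs
      have hab2 : (a * b) ^ (2 ^ k) = 1 := by
        have e : a * b = c * (t2 * (c⁻¹ * b * c)) * c⁻¹ := by rw [← hc]; group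
        rw [e, conj_pow, hk]
        group
      have ha2 : orderOf a = 2 := by rw [← hc]; exact orderOf_conj_two ht c
      have hb2 : orderOf b = 2 := by
        rw [isConj_iff] at htb
        obtain ⟨d, hd⟩ := htb
        rw [← hd]
        exact orderOf_conj_two ht d
      exact ⟨Subgroup.closure {a, b},
        isPGroup_two_closure_pair a b (mul_self_of_orderOf_two ha2)
          (mul_self_of_orderOf_two hb2) k hab2,
        Subgroup.subset_closure (by simp), Subgroup.subset_closure (by simp)⟩)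
  apply hO (Subgroup.normalClosure ({t} : Set G)) Subgroup.normalClosure_normal
  · apply hS.to_le
    unfold Subgroup.normalClosure
    rw [Subgroup.closure_le]
    exact fun k hk => hKS k hk
  · exact Subgroup.subset_normalClosure (Set.mem_singleton t)

end Cfsg.Agent.Lib.Helper1.BS
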