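import Mathlib
import Cfsg.Agent.Lib.Helper1.Ch2
import Cfsg.Agent.Lib.Helper3.CharCore

set_option autoImplicit false

namespace Cfsg.Agent.Lib.Helper1.Ch

open Representation

theorem list_sum_apply {G : Type*} (l : List (G → ℂ)) (x : G) :
    l.sum x = (l.map (fun ψ => ψ x)).sum := by
  induction l with
  | nil => simp
  | cons a l ih => simp [List.sum_cons, ih]

theorem list_sum_one_bound {G : Type*} [One G] :
    ∀ l : List (G → ℂ), (∀ ψ ∈ l, ∃ n : ℕ, ψ 1 = n) →
      ∃ N : ℕ, l.sum 1 = N ∧ ∀ ψ ∈ l, ∀ n : ℕ, ψ 1 = n → n ≤ N := by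
  intro l
  induction l with
  | nil =>
    intro _
    exact ⟨0, by simp, by simp⟩
  | cons a l ih =>
    intro h
    obtain ⟨N, hN, hb⟩ := ih (fun ψ hψ => h ψ (List.mem_cons_of_mem _ hψ))
    obtain ⟨m, hm⟩ := h a List.mem_cons_self
    refine ⟨m + N, ?_, ?_⟩
    · rw [List.sum_cons, Pi.add_apply, hN, hm]
      push_cast
      rfl
    · intro ψ hψ n hn
      rcases List.mem_cons.mp hψ with rfl | hψ'
      · have : (n : ℂ) = (m : ℂ) := by rw [← hn, hm]
        have : n = m := by exact_mod_cast this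
        omega
      · have := hb ψ hψ' n hn
        omega

theorem end_fin_one_comm (f g : (Fin 1 → ℂ) →ₗ[ℂ] (Fin 1 → ℂ)) : f * g = g * f := by
  have key : ∀ (f : (Fin 1 → ℂ) →ₗ[ℂ] (Fin 1 → ℂ)) (v : Fin 1 → ℂ),
      f v = (v 0 * f (fun _ => 1) 0) • (fun _ => (1 : ℂ)) := by
    intro f v
    have hv : v = v 0 • (fun _ => (1 : ℂ)) := by
      ext i
      fin_cases i
      simp
    have h1 : f (fun _ => 1) = f (fun _ => 1) 0 • (fun _ => (1 : ℂ)) := by
      ext i
      fin_cases i
      simp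
    calc f v = f (v 0 • (fun _ => (1 : ℂ))) := by rw [← hv]
      _ = v 0 • f (fun _ => 1) := by rw [map_smul]
      _ = v 0 • (f (fun _ => 1) 0 • (fun _ => (1 : ℂ))) := by rw [← h1]
      _ = (v 0 * f (fun _ => 1) 0) • (fun _ => (1 : ℂ)) := by rw [smul_smul]
  apply LinearMap.ext
  intro v
  rw [Module.End.mul_apply, Module.End.mul_apply, key f (g v), key g (f v), key g v, key f v]
  funext i
  simp
  ring

theorem linear_char_commutator {G : Type*} [Group G] (σ : Representation ℂ G (Fin 1 → ℂ))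
    (a b : G) : σ.character (a * b * a⁻¹ * b⁻¹) = 1 := by
  have h1 : σ (a * b * a⁻¹ * b⁻¹) = 1 := by
    rw [map_mul, map_mul, map_mul]
    have hc : σ a * σ b = σ b * σ a := end_fin_one_comm _ _
    calc σ a * σ b * σ a⁻¹ * σ b⁻¹ = σ b * σ a * σ a⁻¹ * σ b⁻¹ := by rw [hc]
      _ = σ b * (σ a * σ a⁻¹) * σ b⁻¹ := by rw [mul_assoc (σ b)]
      _ = 1 := by
        rw [← map_mul, mul_inv_cancel, map_one, mul_one, ← map_mul, mul_inv_cancel, map_one]
  unfold Representation.character
  rw [h1, LinearMap.trace_one, Module.finrank_fin_fun]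
  simp

theorem abelian_of_faithful_small_degree {G : Type*} [Group G] [Finite G] {V : Type*}
    [AddCommGroup V] [Module ℂ V] [FiniteDimensional ℂ V] (ρ : Representation ℂ G V)
    (hfaithful : Function.Injective ρ)
    (hdeg : ∀ p : ℕ, p.Prime → p ∣ Nat.card G → Module.finrank ℂ V < p) (a b : G) :
    a * b = b * a := by
  obtain ⟨l, hl, hsum⟩ := Cfsg.Agent.Lib.Helper3.CharCore.char_decomp ρ
  have hnat : ∀ ψ ∈ l, ∃ n : ℕ, ψ 1 = n := by
    intro ψ hψ
    obtain ⟨n, _, hn⟩ := Cfsg.Agent.Lib.Helper3.Char.irr_one_pos (hl ψ hψ)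
    exact ⟨n, hn⟩
  obtain ⟨N, hN, hb⟩ := list_sum_one_bound l hnat
  have hNV : N = Module.finrank ℂ V := by
    have h1 : ρ.character 1 = (Module.finrank ℂ V : ℂ) := Representation.char_one ρ
    rw [hsum, hN] at h1
    exact_mod_cast h1
  have hlin : ∀ ψ ∈ l, ψ 1 = 1 ∧ ψ (a * b * a⁻¹ * b⁻¹) = 1 := by
    intro ψ hψ
    obtain ⟨n, σ, hirr, rfl⟩ := hl ψ hψ
    haveI := hirr
    have h1 : σ.character 1 = (n : ℂ) := by
      rw [Representation.char_one, Module.finrank_fin_fun]
    have hle : n ≤ N := hb _ hψ n h1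
    have hdvd : n ∣ Nat.card G := by
      have := finrank_dvd_card σ
      rwa [Module.finrank_fin_fun] at this
    have hpos : 0 < n := by
      obtain ⟨m, hm, hm'⟩ := Cfsg.Agent.Lib.Helper3.Char.irr_one_pos (hl _ hψ)
      have : (n : ℂ) = (m : ℂ) := by rw [← h1, hm']
      have : n = m := by exact_mod_cast this
      omega
    have hn1 : n = 1 := by
      by_contra hne
      have hp := Nat.minFac_prime hne
      have h2 := hdeg n.minFac hp ((Nat.minFac_dvd n).trans hdvd)
      have h3 := Nat.minFac_le hpos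
      omega
    subst hn1
    refine ⟨by rw [h1]; simp, linear_char_commutator σ a b⟩
  have hchar : ρ.character (a * b * a⁻¹ * b⁻¹) = (Module.finrank ℂ V : ℂ) := by
    have h1 : ρ.character 1 = (Module.finrank ℂ V : ℂ) := Representation.char_one ρ
    rw [← h1, hsum, list_sum_apply, list_sum_apply]
    congr 1
    apply List.map_congr_left
    intro ψ hψ
    rw [(hlin ψ hψ).1, (hlin ψ hψ).2]
  have hid := (char_eq_finrank_iff ρ _).mp hchar
  have hone : a * b * a⁻¹ * b⁻¹ = 1 := by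
    apply hfaithful
    rw [hid, map_one]
    rfl
  have : a * b = (a * b * a⁻¹ * b⁻¹) * (b * a) := by group
  rw [this, hone, one_mul]

end Cfsg.Agent.Lib.Helper1.Ch
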