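import Mathlib
import Cfsg.Agent.Lib.Helper1.UniqP

namespace Cfsg.Agent.Lib.Helper1.FrobC

open Subgroup
open scoped Pointwise

theorem norm_eq_one {A : Type*} [CommGroup A] (θ : MulAut A) (p : ℕ) (hθ : θ ^ p = 1)
    (hfix : ∀ k, θ k = k → k = 1) (k : A) : ∏ j ∈ Finset.range p, (θ ^ j) k = 1 := by
  apply hfix
  rw [map_prod]
  have h1 := Finset.prod_range_succ (fun j => (θ ^ j) k) p
  have h2 := Finset.prod_range_succ' (fun j => (θ ^ j) k) p
  rw [h1] at h2
  simp only [hθ, pow_zero, MulAut.one_apply] at h2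
  have h3 : ∀ j, θ ((θ ^ j) k) = (θ ^ (j + 1)) k := fun j => by
    rw [pow_succ']
    rfl
  simp only [h3]
  exact (mul_right_cancel h2).symm

theorem pow_p_eq_one {A : Type*} [CommGroup A] (p : ℕ) (hp : p.Prime) (φ ψ : MulAut A)
    (hc : Commute φ ψ) (hφ : φ ^ p = 1) (hψ : ψ ^ p = 1)
    (hfpf : ∀ i j : ℕ, ¬ (p ∣ i ∧ p ∣ j) → ∀ k, (φ ^ i * ψ ^ j) k = k → k = 1) (k : A) :
    k ^ p = 1 := by
  have h1 : ∀ i : ℕ, ∏ j ∈ Finset.range p, ((φ * ψ ^ i) ^ j) k = 1 := by
    intro i
    apply norm_eq_one (φ * ψ ^ i) p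
    · rw [(hc.pow_right i).mul_pow, hφ, ← pow_mul, mul_comm i p, pow_mul, hψ, one_pow, one_mul]
    · intro k hk
      apply hfpf 1 i (by
        rintro ⟨h, -⟩
        exact hp.one_lt.ne' (Nat.dvd_one.1 h)) k
      rw [pow_one]
      exact hk
  have h2 : ∀ j : ℕ, ¬ p ∣ j → ∏ i ∈ Finset.range p, ((ψ ^ j) ^ i) k = 1 := by
    intro j hj
    apply norm_eq_one (ψ ^ j) p
    · rw [← pow_mul, mul_comm, pow_mul, hψ, one_pow]
    · intro k hk
      apply hfpf 0 j (by
        rintro ⟨-, h⟩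
        exact hj h) k
      rw [pow_zero, one_mul]
      exact hk
  have h3 : ∏ i ∈ Finset.range p, ∏ j ∈ Finset.range p, ((φ * ψ ^ i) ^ j) k = 1 :=
    Finset.prod_eq_one (fun i _ => h1 i)
  rw [Finset.prod_comm] at h3
  have h4 : ∀ j ∈ Finset.range p, ∏ i ∈ Finset.range p, ((φ * ψ ^ i) ^ j) k =
      if j = 0 then k ^ p else 1 := by
    intro j hj
    have e : ∀ i, ((φ * ψ ^ i) ^ j) k = (φ ^ j) (((ψ ^ j) ^ i) k) := by
      intro i
      rw [(hc.pow_right i).mul_pow, ← pow_mul, mul_comm i j, pow_mul]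
      rfl
    simp only [e]
    rw [← map_prod]
    split_ifs with h0
    · subst h0
      simp
    · rw [h2 j (by
        intro hd
        have := Nat.le_of_dvd (by omega) hd
        have := Finset.mem_range.1 hj
        omega), map_one]
  rw [Finset.prod_congr rfl h4] at h3
  simpa [hp.pos] using h3

theorem pow_p_eq_one' {A : Type*} [Group A] (hcomm : ∀ x y : A, x * y = y * x) (p : ℕ)
    (hp : p.Prime) (φ ψ : MulAut A)
    (hc : Commute φ ψ) (hφ : φ ^ p = 1) (hψ : ψ ^ p = 1)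
    (hfpf : ∀ i j : ℕ, ¬ (p ∣ i ∧ p ∣ j) → ∀ k, (φ ^ i * ψ ^ j) k = k → k = 1) (k : A) :
    k ^ p = 1 := by
  letI : CommGroup A := { (inferInstance : Group A) with mul_comm := hcomm }
  exact pow_p_eq_one p hp φ ψ hc hφ hψ hfpf k

variable {G : Type*} [Group G] [Finite G]

theorem exists_invariant_pgroup (K : Subgroup G) [K.Normal] (p q : ℕ) [Fact p.Prime]
    [Fact q.Prime] (S : Subgroup G) (hS : IsPGroup p S) (hpK : ¬ p ∣ Nat.card K)
    (hqK : q ∣ Nat.card K) :
    ∃ Q : Subgroup G, Q ≤ K ∧ IsPGroup q Q ∧ Q ≠ ⊥ ∧ S ≤ normalizer (Q : Set G) := by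
  classical
  let f : ↥S →* MulAut K := (MulAut.conjNormal (H := K)).comp S.subtype
  letI : MulDistribMulAction ↥S ↥K := MulDistribMulAction.compHom K f
  have hcard : ¬ p ∣ Nat.card (Sylow q K) := by
    intro h
    obtain ⟨Q0⟩ : Nonempty (Sylow q K) := inferInstance
    exact hpK ((h.trans (Sylow.card_dvd_index Q0)).trans (Subgroup.index_dvd_card _))
  obtain ⟨Q, hQ⟩ := IsPGroup.nonempty_fixed_point_of_prime_not_dvd_card hS (Sylow q K) hcard
  have hinv : ∀ g : ↥S, ∀ k : K, k ∈ (Q : Subgroup K) → f g k ∈ (Q : Subgroup K) := by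
    intro g k hk
    have h1 : g • Q = Q := hQ g
    have h2 : g • k ∈ g • (Q : Subgroup K) := Subgroup.smul_mem_pointwise_smul k g _ hk
    rw [← Sylow.pointwise_smul_def, h1] at h2
    exact h2
  have key : ∀ g ∈ S, ∀ x ∈ (Q : Subgroup K).map K.subtype,
      g * x * g⁻¹ ∈ (Q : Subgroup K).map K.subtype := by
    rintro g hg x ⟨k, hk, rfl⟩
    exact ⟨f ⟨g, hg⟩ k, hinv ⟨g, hg⟩ k hk, by simp [f, MulAut.conjNormal_apply]⟩
  refine ⟨(Q : Subgroup K).map K.subtype, ?_, ?_, ?_, ?_⟩
  · rintro x ⟨k, -, rfl⟩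
    exact k.2
  · exact Q.isPGroup'.map K.subtype
  · intro h
    have hb : (Q : Subgroup K) = ⊥ :=
      (Subgroup.map_eq_bot_iff_of_injective _ K.subtype_injective).1 h
    exact Q.ne_bot_of_dvd_card hqK hb
  · intro g hg
    rw [Subgroup.mem_normalizer_iff]
    intro x
    constructor
    · exact key g hg x
    · intro hx
      have := key g⁻¹ (inv_mem hg) _ hx
      simpa [mul_assoc] using this

theorem no_rank_two (K : Subgroup G) [K.Normal] (hK : K ≠ ⊥) (p : ℕ) [Fact p.Prime]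
    (S : Subgroup G) (hS : IsPGroup p S) (a z : G) (ha : a ∈ S) (hz : z ∈ S)
    (haz : a * z = z * a) (hap : a ^ p = 1) (hzp : z ^ p = 1)
    (hfpf : ∀ i j : ℕ, ¬ (p ∣ i ∧ p ∣ j) → ∀ k ∈ K,
      (a ^ i * z ^ j) * k = k * (a ^ i * z ^ j) → k = 1) : False := by
  classical
  have hp : p.Prime := Fact.out
  have hpK : ¬ p ∣ Nat.card K := by
    let f : ↥S →* MulAut K := (MulAut.conjNormal (H := K)).comp S.subtype
    letI : MulAction ↥S ↥K := MulAction.compHom K f
    have h1 := IsPGroup.card_modEq_card_fixedPoints hS (α := K)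
    have h2 : Nat.card (MulAction.fixedPoints ↥S ↥K) = 1 := by
      rw [Nat.card_eq_one_iff_unique]
      have hone : ∀ k : K, k ∈ MulAction.fixedPoints ↥S ↥K → k = 1 := by
        intro k hk
        have h3 : f ⟨z, hz⟩ k = k := hk ⟨z, hz⟩
        have h4 : z * (k : G) * z⁻¹ = k := by
          have := congrArg Subtype.val h3
          simpa [f, MulAut.conjNormal_apply] using this
        have h5 := hfpf 0 1 (by
          rintro ⟨-, h⟩
          exact hp.one_lt.ne' (Nat.dvd_one.1 h)) k k.2 (by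
            rw [pow_zero, one_mul, pow_one]
            exact mul_inv_eq_iff_eq_mul.1 h4)
        exact Subtype.ext h5
      refine ⟨⟨?_⟩, ⟨⟨1, ?_⟩⟩⟩
      · rintro ⟨k, hk⟩ ⟨k', hk'⟩
        apply Subtype.ext
        exact (hone k hk).trans (hone k' hk').symm
      · intro g
        exact map_one (f g)
    rw [h2] at h1
    intro hd
    rw [Nat.ModEq, Nat.mod_eq_zero_of_dvd hd, Nat.mod_eq_of_lt hp.one_lt] at h1
    exact zero_ne_one h1
  have hK1 : Nat.card K ≠ 1 := fun h => hK (Subgroup.eq_bot_of_card_eq K h)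
  obtain ⟨q, hq, hqK⟩ := Nat.exists_prime_and_dvd hK1
  haveI : Fact q.Prime := ⟨hq⟩
  have hqp : p ≠ q := by
    rintro rfl
    exact hpK hqK
  obtain ⟨Q, hQK, hQq, hQ1, hSQ⟩ := exists_invariant_pgroup K p q S hS hpK hqK
  have hnorm : ∀ g ∈ S, g ∈ normalizer ((Q ⊓ centralizer (Q : Set G) : Subgroup G) : Set G) := by
    have key : ∀ g ∈ S, ∀ x ∈ Q ⊓ centralizer (Q : Set G),
        g * x * g⁻¹ ∈ Q ⊓ centralizer (Q : Set G) := by
      intro g hg x hx
      have hgn := hSQ hg
      rw [Subgroup.mem_normalizer_iff] at hgn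
      refine Subgroup.mem_inf.2 ⟨(hgn x).1 hx.1, ?_⟩
      rw [Subgroup.mem_centralizer_iff]
      intro h hh
      have hh' : g⁻¹ * h * g ∈ Q := by
        apply (hgn _).2
        have e : g * (g⁻¹ * h * g) * g⁻¹ = h := by group
        rw [e]
        exact hh
      have hcm := (Subgroup.mem_centralizer_iff.1 hx.2) _ hh'
      calc h * (g * x * g⁻¹) = g * (g⁻¹ * h * g * x) * g⁻¹ := by group
        _ = g * (x * (g⁻¹ * h * g)) * g⁻¹ := by rw [hcm]
        _ = g * x * g⁻¹ * h := by group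
    intro g hg
    rw [Subgroup.mem_normalizer_iff]
    intro x
    constructor
    · exact key g hg x
    · intro hx
      have := key g⁻¹ (inv_mem hg) _ hx
      simpa [mul_assoc] using this
  have hcommA : ∀ x y : ↥(Q ⊓ centralizer (Q : Set G)), x * y = y * x := by
    intro x y
    apply Subtype.ext
    exact ((Subgroup.mem_centralizer_iff.1 x.2.2) y.1 y.2.1).symm
  have hall : ∀ k : ↥(Q ⊓ centralizer (Q : Set G)), k ^ p = 1 := by
    intro k
    apply pow_p_eq_one' hcommA p hp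
      ((Q ⊓ centralizer (Q : Set G)).normalizerMonoidHom ⟨a, hnorm a ha⟩)
      ((Q ⊓ centralizer (Q : Set G)).normalizerMonoidHom ⟨z, hnorm z hz⟩)
    · rw [Commute, SemiconjBy, ← map_mul, ← map_mul]
      congr 1
      exact Subtype.ext haz
    · rw [← map_pow]
      have : (⟨a, hnorm a ha⟩ : normalizer ((Q ⊓ centralizer (Q : Set G) : Subgroup G) : Set G)) ^ p
          = 1 := Subtype.ext (by simpa using hap)
      rw [this, map_one]
    · rw [← map_pow]
      have : (⟨z, hnorm z hz⟩ : normalizer ((Q ⊓ centralizer (Q : Set G) : Subgroup G) : Set G)) ^ p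
          = 1 := Subtype.ext (by simpa using hzp)
      rw [this, map_one]
    · intro i j hij k hk
      rw [← map_pow, ← map_pow, ← map_mul] at hk
      have h1 : (a ^ i * z ^ j) * (k : G) * (a ^ i * z ^ j)⁻¹ = k := by
        have := congrArg Subtype.val hk
        rw [Subgroup.normalizerMonoidHom_apply_apply_coe] at this
        exact this
      have h2 := hfpf i j hij k (hQK k.2.1) (mul_inv_eq_iff_eq_mul.1 h1)
      exact Subtype.ext h2
  haveI : Nontrivial ↥Q := (Subgroup.nontrivial_iff_ne_bot Q).2 hQ1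
  haveI := IsPGroup.center_nontrivial hQq
  obtain ⟨c, hc1⟩ := exists_ne (1 : Subgroup.center ↥Q)
  have hcA : ((c : ↥Q) : G) ∈ Q ⊓ centralizer (Q : Set G) := by
    refine Subgroup.mem_inf.2 ⟨c.1.2, ?_⟩
    rw [Subgroup.mem_centralizer_iff]
    intro h hh
    have := Subgroup.mem_center_iff.1 c.2 ⟨h, hh⟩
    exact congrArg Subtype.val this
  have hcp : ((c : ↥Q) : G) ^ p = 1 := by
    have := hall ⟨_, hcA⟩
    have := congrArg Subtype.val this
    simpa using this
  obtain ⟨m, hm⟩ := hQq c.1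
  have hcq : ((c : ↥Q) : G) ^ q ^ m = 1 := by
    have := congrArg Subtype.val hm
    simpa using this
  have hd1 := orderOf_dvd_of_pow_eq_one hcp
  have hd2 := orderOf_dvd_of_pow_eq_one hcq
  have hcop : Nat.Coprime p (q ^ m) := Nat.Coprime.pow_right m ((Nat.coprime_primes hp hq).2 hqp)
  have h1 := Nat.dvd_gcd hd1 hd2
  rw [hcop.gcd_eq_one, Nat.dvd_one, orderOf_eq_one_iff] at h1
  exact hc1 (Subtype.ext (Subtype.ext h1))

theorem uniq_of_central {G : Type*} [Group G] [Finite G] {p : ℕ} [Fact p.Prime]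
    (hG : IsPGroup p G)
    (h : ∀ a z : G, orderOf a = p → orderOf z = p → a * z = z * a → a ∈ zpowers z) :
    ∀ H K : Subgroup G, Nat.card H = p → Nat.card K = p → H = K := by
  have hp : p.Prime := Fact.out
  have hkey : ∃ z : G, ∀ H : Subgroup G, Nat.card H = p → H = Subgroup.zpowers z := by
    by_cases hnt : Nontrivial G
    · haveI := hnt
      haveI := IsPGroup.center_nontrivial hG
      obtain ⟨c, hc1⟩ := exists_ne (1 : Subgroup.center G)
      obtain ⟨e, he⟩ := Cfsg.Agent.Lib.Helper1.UniqP.orderOf_eq_pow hG c.1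
      have he0 : e ≠ 0 := by
        intro h
        rw [h, pow_zero, orderOf_eq_one_iff] at he
        exact hc1 (Subtype.ext he)
      obtain ⟨m, rfl⟩ : ∃ m, e = m + 1 := ⟨e - 1, by omega⟩
      have hz := Cfsg.Agent.Lib.Helper1.UniqP.orderOf_pow_prime_pow_pred he
      have hzc : c.1 ^ p ^ m ∈ Subgroup.center G := Subgroup.pow_mem _ c.2 _
      refine ⟨c.1 ^ p ^ m, ?_⟩
      intro H hH
      have hne : H ≠ ⊥ := by
        intro h
        rw [h, Subgroup.card_bot] at hH
        exact hp.one_lt.ne hH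
      obtain ⟨x, hx1⟩ := (Subgroup.ne_bot_iff_exists_ne_one).1 hne
      have hx1' : (x : G) ≠ 1 := by
        intro h'
        exact hx1 (Subtype.ext h')
      have hxr : (x : G) ^ p = 1 := by
        have := Subgroup.orderOf_dvd_natCard H x.2
        rw [hH] at this
        exact orderOf_dvd_iff_pow_eq_one.1 this
      have hox : orderOf (x : G) = p := orderOf_eq_prime hxr hx1'
      have hmem := h (x : G) (c.1 ^ p ^ m) hox hz (Subgroup.mem_center_iff.1 hzc x.1)
      have hle1 : Subgroup.zpowers (x : G) ≤ H := (Subgroup.zpowers_le).2 x.2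
      have heq1 : Subgroup.zpowers (x : G) = H :=
        Subgroup.eq_of_le_of_card_ge hle1 (by rw [Nat.card_zpowers, hox, hH])
      have hle2 : Subgroup.zpowers (x : G) ≤ Subgroup.zpowers (c.1 ^ p ^ m) :=
        (Subgroup.zpowers_le).2 hmem
      have heq2 := Subgroup.eq_of_le_of_card_ge hle2
        (by rw [Nat.card_zpowers, Nat.card_zpowers, hox, hz])
      rw [← heq1, heq2]
    · refine ⟨1, ?_⟩
      intro H hH
      exfalso
      rw [not_nontrivial_iff_subsingleton] at hnt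
      have : Nat.card H = 1 := Nat.card_eq_one_iff_unique.2 ⟨inferInstance, ⟨1⟩⟩
      rw [this] at hH
      exact hp.one_lt.ne hH
  obtain ⟨z, hz⟩ := hkey
  intro H K hH hK
  rw [hz H hH, hz K hK]

end Cfsg.Agent.Lib.Helper1.FrobC
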