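import Mathlib

set_option autoImplicit false

namespace Cfsg.Agent.Lib.Helper1.FrobK

open Subgroup

theorem card_comm_sum (M : Type*) [Group M] [Fintype M] :
    Nat.card (ConjClasses M) * Nat.card M = ∑ a : M, Nat.card {b : M // Commute a b} := by
  rw [← card_comm_eq_card_conjClasses_mul_card,
    Nat.card_congr (Equiv.subtypeProdEquivSigmaSubtype Commute), Nat.card_sigma]

noncomputable def cc (M : Type*) [Mul M] (a : M) : ℕ := Nat.card {b : M // Commute a b}

theorem cc_one (M : Type*) [Group M] : cc M (1 : M) = Nat.card M :=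
  Nat.card_congr (Equiv.subtypeUnivEquiv (fun b => Commute.one_left b))

variable {G : Type*} [Group G]

theorem cc_conj (x a : G) : cc G (x * a * x⁻¹) = cc G a := by
  apply Nat.card_congr
  exact {
    toFun := fun b => ⟨x⁻¹ * b.1 * x, by
      have := b.2.eq
      show a * (x⁻¹ * b.1 * x) = x⁻¹ * b.1 * x * a
      calc a * (x⁻¹ * b.1 * x) = x⁻¹ * (x * a * x⁻¹ * b.1) * x := by group
        _ = x⁻¹ * (b.1 * (x * a * x⁻¹)) * x := by rw [this]
        _ = _ := by group⟩
    invFun := fun b => ⟨x * b.1 * x⁻¹, by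
      have := b.2.eq
      show x * a * x⁻¹ * (x * b.1 * x⁻¹) = x * b.1 * x⁻¹ * (x * a * x⁻¹)
      calc x * a * x⁻¹ * (x * b.1 * x⁻¹) = x * (a * b.1) * x⁻¹ := by group
        _ = x * (b.1 * a) * x⁻¹ := by rw [this]
        _ = _ := by group⟩
    left_inv := fun b => Subtype.ext (by simp [mul_assoc])
    right_inv := fun b => Subtype.ext (by simp [mul_assoc]) }

theorem cc_sub (K : Subgroup G) {k : G} (hk : k ∈ K) (hc : ∀ b : G, Commute k b → b ∈ K) :
    cc G k = cc K ⟨k, hk⟩ := by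
  apply Nat.card_congr
  exact {
    toFun := fun b => ⟨⟨b.1, hc b.1 b.2⟩, by
      show (⟨k, hk⟩ : K) * ⟨b.1, hc b.1 b.2⟩ = ⟨b.1, hc b.1 b.2⟩ * ⟨k, hk⟩
      exact Subtype.ext b.2.eq⟩
    invFun := fun b => ⟨b.1.1, by
      show k * b.1.1 = b.1.1 * k
      exact congrArg Subtype.val b.2.eq⟩
    left_inv := fun b => rfl
    right_inv := fun b => rfl }

section
variable (K H : Subgroup G) [K.Normal] (hKH : K ⊓ H = ⊥) (hKH' : K ⊔ H = ⊤)
  (hfpf : ∀ h ∈ H, h ≠ 1 → ∀ k ∈ K, h * k = k * h → k = 1)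

include hKH' in
theorem exists_mul (g : G) : ∃ k ∈ K, ∃ h ∈ H, g = k * h := by
  have hg : g ∈ ((K ⊔ H : Subgroup G) : Set G) := by rw [hKH']; trivial
  rw [Subgroup.normal_mul] at hg
  obtain ⟨k, hk, h, hh, rfl⟩ := Set.mem_mul.mp hg
  exact ⟨k, hk, h, hh, rfl⟩

include hKH in
theorem mul_unique {k k' h h' : G} (hk : k ∈ K) (hk' : k' ∈ K) (hh : h ∈ H) (hh' : h' ∈ H)
    (e : k * h = k' * h') : k = k' ∧ h = h' := by
  have h0 : k = k' * h' * h⁻¹ := by rw [← e, mul_inv_cancel_right]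
  have h1 : k'⁻¹ * k = h' * h⁻¹ := by rw [h0]; group
  have h2 : k'⁻¹ * k ∈ K ⊓ H :=
    ⟨K.mul_mem (K.inv_mem hk') hk, h1 ▸ H.mul_mem hh' (H.inv_mem hh)⟩
  rw [hKH, Subgroup.mem_bot] at h2
  have h3 : k = k' := by rw [inv_mul_eq_one] at h2; exact h2.symm
  subst h3
  exact ⟨rfl, mul_left_cancel e⟩

include hfpf in
theorem conj_of_ne [Finite G] {k h : G} (hk : k ∈ K) (hh : h ∈ H) (h1 : h ≠ 1) :
    ∃ x ∈ K, k * h = x * h * x⁻¹ := by
  have hn : ∀ x : K, x.1 * (h * x.1⁻¹ * h⁻¹) ∈ K := fun x =>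
    K.mul_mem x.2 (Normal.conj_mem inferInstance _ (K.inv_mem x.2) h)
  let f : K → K := fun x => ⟨x.1 * (h * x.1⁻¹ * h⁻¹), hn x⟩
  have hf : Function.Injective f := by
    intro x y hxy
    have e : x.1 * (h * x.1⁻¹ * h⁻¹) = y.1 * (h * y.1⁻¹ * h⁻¹) := congrArg Subtype.val hxy
    have e3 : x.1 * h * x.1⁻¹ = y.1 * h * y.1⁻¹ := by
      have := congrArg (· * h) e
      simpa [mul_assoc] using this
    have e2 : h * (y.1⁻¹ * x.1) = (y.1⁻¹ * x.1) * h := by
      calc h * (y.1⁻¹ * x.1) = y.1⁻¹ * (y.1 * h * y.1⁻¹) * x.1 := by group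
        _ = y.1⁻¹ * (x.1 * h * x.1⁻¹) * x.1 := by rw [e3]
        _ = (y.1⁻¹ * x.1) * h := by group
    have := hfpf h hh h1 (y.1⁻¹ * x.1) (K.mul_mem (K.inv_mem y.2) x.2) e2
    exact Subtype.ext (by rw [inv_mul_eq_one] at this; exact this.symm)
  obtain ⟨x, hx⟩ := Finite.surjective_of_injective hf ⟨k, hk⟩
  refine ⟨x.1, x.2, ?_⟩
  have : x.1 * (h * x.1⁻¹ * h⁻¹) = k := congrArg Subtype.val hx
  rw [← this]; group

include hKH' hfpf in
theorem comm_mem_K [Finite G] {k b : G} (hk : k ∈ K) (hk1 : k ≠ 1) (hc : Commute k b) :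
    b ∈ K := by
  obtain ⟨k', hk', h', hh', rfl⟩ := exists_mul K H hKH' b
  by_cases h1 : h' = 1
  · subst h1; simpa using hk'
  · exfalso
    obtain ⟨x, hx, e⟩ := conj_of_ne K H hfpf hk' hh' h1
    rw [e] at hc
    have e2 : h' * (x⁻¹ * k * x) = (x⁻¹ * k * x) * h' := by
      have := hc.eq
      calc h' * (x⁻¹ * k * x) = x⁻¹ * (x * h' * x⁻¹ * k) * x := by group
        _ = x⁻¹ * (k * (x * h' * x⁻¹)) * x := by rw [this]
        _ = _ := by group
    have hm : x⁻¹ * k * x ∈ K := by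
      simpa using Normal.conj_mem (inferInstance : K.Normal) k hk x⁻¹
    have := hfpf h' hh' h1 _ hm e2
    apply hk1
    calc k = x * (x⁻¹ * k * x) * x⁻¹ := by group
      _ = 1 := by rw [this]; group

include hKH hKH' hfpf in
theorem comm_mem_H {h b : G} (hh : h ∈ H) (h1 : h ≠ 1) (hc : Commute h b) : b ∈ H := by
  obtain ⟨k', hk', h', hh', rfl⟩ := exists_mul K H hKH' b
  have e : (h * k' * h⁻¹) * (h * h') = k' * (h' * h) := by
    have := hc.eq
    calc (h * k' * h⁻¹) * (h * h') = h * (k' * h') := by group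
      _ = k' * h' * h := this
      _ = _ := by group
  obtain ⟨e1, -⟩ := mul_unique K H hKH (Normal.conj_mem inferInstance k' hk' h) hk'
    (H.mul_mem hh hh') (H.mul_mem hh' hh) e
  have e2 : h * k' = k' * h := by
    calc h * k' = (h * k' * h⁻¹) * h := by group
      _ = k' * h := by rw [e1]
  have := hfpf h hh h1 k' hk' e2
  subst this
  simpa using hh'

include hKH hKH' hfpf in
theorem main [Finite G] :
    Nat.card H * Nat.card (ConjClasses G) + 1
      = Nat.card H * Nat.card (ConjClasses H) + Nat.card (ConjClasses K) := by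
  classical
  haveI : Fintype G := Fintype.ofFinite G
  haveI : Fintype K := Fintype.ofFinite K
  haveI : Fintype H := Fintype.ofFinite H
  have hinj : Function.Injective (fun p : K × H => p.1.1 * p.2.1) := by
    rintro ⟨k, h⟩ ⟨k', h'⟩ e
    obtain ⟨e1, e2⟩ := mul_unique K H hKH k.2 k'.2 h.2 h'.2 e
    exact Prod.ext (Subtype.ext e1) (Subtype.ext e2)
  have hsurj : Function.Surjective (fun p : K × H => p.1.1 * p.2.1) := by
    intro g
    obtain ⟨k, hk, h, hh, rfl⟩ := exists_mul K H hKH' g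
    exact ⟨(⟨k, hk⟩, ⟨h, hh⟩), rfl⟩
  let e : K × H ≃ G := Equiv.ofBijective _ ⟨hinj, hsurj⟩
  have hcard : Nat.card G = Nat.card K * Nat.card H := by
    rw [← Nat.card_prod]; exact (Nat.card_congr e).symm
  have sG : Nat.card (ConjClasses G) * Nat.card G = ∑ a : G, cc G a := card_comm_sum G
  have sK : Nat.card (ConjClasses K) * Nat.card K = ∑ a : K, cc K a := card_comm_sum K
  have sH : Nat.card (ConjClasses H) * Nat.card H = ∑ a : H, cc H a := card_comm_sum H
  obtain ⟨SK, hSK⟩ : ∃ SK, SK = ∑ k ∈ (Finset.univ : Finset K).erase 1, cc K k := ⟨_, rfl⟩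
  obtain ⟨SH, hSH⟩ : ∃ SH, SH = ∑ h ∈ (Finset.univ : Finset H).erase 1, cc H h := ⟨_, rfl⟩
  have eK : ∑ k : K, cc K k = Nat.card K + SK := by
    rw [← Finset.add_sum_erase _ _ (Finset.mem_univ (1 : K)), cc_one, hSK]
  have eH : ∑ h : H, cc H h = Nat.card H + SH := by
    rw [← Finset.add_sum_erase _ _ (Finset.mem_univ (1 : H)), cc_one, hSH]
  have eG : ∑ a : G, cc G a = Nat.card G + SK + Nat.card K * SH := by
    rw [← Equiv.sum_comp e, Fintype.sum_prod_type]
    have inner : ∀ k : K, ∑ h : H, cc G (e (k, h)) = cc G k.1 + SH := by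
      intro k
      rw [← Finset.add_sum_erase _ _ (Finset.mem_univ (1 : H)), hSH]
      congr 1
      · show cc G (k.1 * (1 : H).1) = _
        rw [Subgroup.coe_one, mul_one]
      · apply Finset.sum_congr rfl
        intro h hh
        have h1 : h.1 ≠ 1 := by
          intro h'
          exact (Finset.ne_of_mem_erase hh) (Subtype.ext h')
        obtain ⟨x, hx, ex⟩ := conj_of_ne K H hfpf k.2 h.2 h1
        show cc G (k.1 * h.1) = cc H h
        rw [ex, cc_conj, cc_sub H h.2 (fun b hb => comm_mem_H K H hKH hKH' hfpf h.2 h1 hb)]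
    rw [Finset.sum_congr rfl (fun k _ => inner k), Finset.sum_add_distrib, Finset.sum_const,
      Finset.card_univ, smul_eq_mul, ← Nat.card_eq_fintype_card,
      ← Finset.add_sum_erase _ _ (Finset.mem_univ (1 : K)), Subgroup.coe_one, cc_one, hSK]
    congr 2
    apply Finset.sum_congr rfl
    intro k hk
    have k1 : k.1 ≠ 1 := by
      intro h'
      exact (Finset.ne_of_mem_erase hk) (Subtype.ext h')
    rw [cc_sub K k.2 (fun b hb => comm_mem_K K H hKH' hfpf k.2 k1 hb)]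
  have hKpos : 0 < Nat.card K := Nat.card_pos
  apply Nat.eq_of_mul_eq_mul_left hKpos
  rw [eG] at sG
  rw [eK] at sK
  rw [eH] at sH
  rw [hcard] at sG
  zify at sG sK sH ⊢
  linear_combination sG - (Nat.card K : ℤ) * sH - sK

end

end Cfsg.Agent.Lib.Helper1.FrobK
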