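import Mathlib
import Cfsg.Agent.Lib.Helper1.FrobC
import Cfsg.Agent.Lib.Helper1.DihCent
import Cfsg.Agent.Lib.Helper1.Tof

set_option autoImplicit false

namespace Cfsg.Agent.Lib.Helper1.FrobZ

open Subgroup
open scoped Pointwise

theorem conj_comm_aut {K : Type*} [Group K] (θ : MulAut K) (k : K) :
    θ * MulAut.conj k = MulAut.conj (θ k) * θ := by
  apply MulEquiv.ext
  intro x
  simp only [MulAut.mul_apply, MulAut.conj_apply, map_mul, map_inv]

theorem uniq_fixed_sylow {K : Type*} [Group K] [Finite K] (r : ℕ) [Fact r.Prime] (θ : MulAut K)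
    (hθ : ∀ x : K, θ x = x → x = 1) (Q0 : Sylow r K) (h0 : θ • Q0 = Q0) (k : K)
    (h1 : θ • (MulAut.conj k • Q0) = MulAut.conj k • Q0) : MulAut.conj k • Q0 = Q0 := by
  have hfix : ∀ n : K, MulAut.conj n • Q0 = Q0 → MulAut.conj (θ n) • Q0 = Q0 := by
    intro n hn
    calc MulAut.conj (θ n) • Q0 = MulAut.conj (θ n) • (θ • Q0) := by rw [h0]
      _ = (MulAut.conj (θ n) * θ) • Q0 := (mul_smul _ _ _).symm
      _ = (θ * MulAut.conj n) • Q0 := by rw [conj_comm_aut]
      _ = θ • (MulAut.conj n • Q0) := mul_smul _ _ _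
      _ = Q0 := by rw [hn, h0]
  have h2 : MulAut.conj (θ k) • Q0 = MulAut.conj k • Q0 := by
    calc MulAut.conj (θ k) • Q0 = MulAut.conj (θ k) • (θ • Q0) := by rw [h0]
      _ = (MulAut.conj (θ k) * θ) • Q0 := (mul_smul _ _ _).symm
      _ = (θ * MulAut.conj k) • Q0 := by rw [conj_comm_aut]
      _ = θ • (MulAut.conj k • Q0) := mul_smul _ _ _
      _ = MulAut.conj k • Q0 := h1
  have h3 : MulAut.conj (k⁻¹ * θ k) • Q0 = Q0 := by
    rw [map_mul, mul_smul, h2, ← mul_smul, ← map_mul, inv_mul_cancel, map_one, one_smul]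
  obtain ⟨S, hS⟩ : ∃ S : Subgroup K, ∀ n : K, n ∈ S ↔ MulAut.conj n • Q0 = Q0 :=
    ⟨MulAction.stabilizer K Q0, fun n => by rw [MulAction.mem_stabilizer_iff]; rfl⟩
  have hSθ : ∀ n ∈ S, θ n ∈ S := fun n hn => (hS _).2 (hfix n ((hS n).1 hn))
  have hkey : ∀ a b : K, a⁻¹ * θ a = b⁻¹ * θ b → a = b := by
    intro a b hab
    have h5 : θ (b * a⁻¹) = b * a⁻¹ := by
      rw [map_mul, map_inv]
      have h6 : θ b = b * (a⁻¹ * θ a) := by rw [hab]; group
      rw [h6]; group
    have h7 := hθ _ h5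
    exact (mul_inv_eq_one.1 h7).symm
  let φ : S → S := fun n => ⟨(n : K)⁻¹ * θ n, S.mul_mem (S.inv_mem n.2) (hSθ n n.2)⟩
  have hφinj : Function.Injective φ := by
    intro n m hnm
    have h4 : (n : K)⁻¹ * θ n = (m : K)⁻¹ * θ m := congrArg Subtype.val hnm
    exact Subtype.ext (hkey _ _ h4)
  have hφsurj := Finite.injective_iff_surjective.1 hφinj
  obtain ⟨n, hn⟩ := hφsurj ⟨k⁻¹ * θ k, (hS _).2 h3⟩
  have h4 : (n : K)⁻¹ * θ n = k⁻¹ * θ k := congrArg Subtype.val hn
  have h6 : (n : K) = k := hkey _ _ h4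
  rw [← h6]
  exact (hS _).1 n.2

theorem not_dvd_card_of_fpf {G : Type*} [Group G] [Finite G] (K : Subgroup G) [K.Normal] (q : ℕ)
    [Fact q.Prime] (y : G) (hyq : orderOf y = q) (hy : ∀ k ∈ K, y * k = k * y → k = 1) :
    ¬ q ∣ Nat.card K := by
  classical
  have hq : q.Prime := Fact.out
  have hS : IsPGroup q (zpowers y) := by
    apply IsPGroup.of_card (n := 1)
    rw [Nat.card_zpowers, hyq, pow_one]
  let f : ↥(zpowers y) →* MulAut K := (MulAut.conjNormal (H := K)).comp (zpowers y).subtype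
  letI : MulAction ↥(zpowers y) ↥K := MulAction.compHom K f
  have h1 := IsPGroup.card_modEq_card_fixedPoints hS (α := K)
  have h2 : Nat.card (MulAction.fixedPoints ↥(zpowers y) ↥K) = 1 := by
    rw [Nat.card_eq_one_iff_unique]
    have hone : ∀ k : K, k ∈ MulAction.fixedPoints ↥(zpowers y) ↥K → k = 1 := by
      intro k hk
      have h3 : f ⟨y, mem_zpowers y⟩ k = k := hk ⟨y, mem_zpowers y⟩
      have h4 : y * (k : G) * y⁻¹ = k := by
        have := congrArg Subtype.val h3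
        simpa [f, MulAut.conjNormal_apply] using this
      exact Subtype.ext (hy k k.2 (mul_inv_eq_iff_eq_mul.1 h4))
    refine ⟨⟨?_⟩, ⟨⟨1, ?_⟩⟩⟩
    · rintro ⟨k, hk⟩ ⟨k', hk'⟩
      apply Subtype.ext
      exact (hone k hk).trans (hone k' hk').symm
    · intro g
      exact map_one (f g)
  rw [h2] at h1
  intro hd
  rw [Nat.ModEq, Nat.mod_eq_zero_of_dvd hd, Nat.mod_eq_of_lt hq.one_lt] at h1
  exact zero_ne_one h1

theorem common_fixed_sylow {G : Type*} [Group G] [Finite G] (K : Subgroup G) [K.Normal]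
    (r q : ℕ) [Fact r.Prime] [Fact q.Prime] (y z : G)
    (hy : ∀ k ∈ K, y * k = k * y → k = 1) (hyq : orderOf y = q)
    (hzy : z⁻¹ * y * z ∈ zpowers y) :
    ∃ Q0 : Sylow r K, (MulAut.conjNormal y : MulAut K) • Q0 = Q0 ∧
      (MulAut.conjNormal z : MulAut K) • Q0 = Q0 := by
  classical
  have hqK := not_dvd_card_of_fpf K q y hyq hy
  obtain ⟨σ, hσ⟩ : ∃ σ : G →* MulAut K, σ = MulAut.conjNormal := ⟨_, rfl⟩
  have hσv : ∀ (g : G) (x : K), ((σ g x : K) : G) = g * x * g⁻¹ := by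
    intro g x; rw [hσ]; rfl
  rw [← hσ]
  have hS : IsPGroup q (zpowers (σ y)) := by
    intro g
    obtain ⟨i, hi⟩ := mem_zpowers_iff.1 g.2
    refine ⟨1, Subtype.ext ?_⟩
    rw [pow_one, Subgroup.coe_pow, ← hi, ← zpow_natCast, ← zpow_mul, mul_comm, zpow_mul,
      zpow_natCast, ← map_pow, ← hyq, pow_orderOf_eq_one, map_one, one_zpow]
    rfl
  have hcard : ¬ q ∣ Nat.card (Sylow r K) := by
    intro h
    obtain ⟨Q0⟩ : Nonempty (Sylow r K) := inferInstance
    exact hqK ((h.trans (Sylow.card_dvd_index Q0)).trans (Subgroup.index_dvd_card _))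
  obtain ⟨Q0, hQ0⟩ := IsPGroup.nonempty_fixed_point_of_prime_not_dvd_card hS (Sylow r K) hcard
  have hfixpow : ∀ i : ℤ, (σ y) ^ i • Q0 = Q0 := by
    intro i
    exact hQ0 ⟨(σ y) ^ i, zpow_mem_zpowers _ i⟩
  have h0 : σ y • Q0 = Q0 := by
    have := hfixpow 1
    rwa [zpow_one] at this
  have hfy : ∀ x : K, σ y x = x → x = 1 := by
    intro x hx
    have h4 : y * (x : G) * y⁻¹ = x := by
      have := congrArg Subtype.val hx
      rwa [hσv] at this
    exact Subtype.ext (hy x x.2 (mul_inv_eq_iff_eq_mul.1 h4))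
  obtain ⟨t, ht⟩ := mem_zpowers_iff.1 hzy
  have hyz : y * z = z * y ^ t := by rw [ht]; group
  have h1 : σ y • (σ z • Q0) = σ z • Q0 := by
    rw [← mul_smul, ← map_mul, hyz, map_mul, mul_smul, map_zpow, hfixpow]
  obtain ⟨k, hk⟩ := MulAction.exists_smul_eq K Q0 (σ z • Q0)
  have hk' : MulAut.conj k • Q0 = σ z • Q0 := hk
  have h2 := uniq_fixed_sylow r (σ y) hfy Q0 h0 k (by rw [hk']; exact h1)
  refine ⟨Q0, h0, ?_⟩
  rw [← hk', h2]

theorem normalizer_of_fixed {G : Type*} [Group G] (K : Subgroup G) [K.Normal] (r : ℕ)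
    (Q0 : Sylow r K) (g : G) (h : (MulAut.conjNormal g : MulAut K) • Q0 = Q0) :
    g ∈ normalizer (((Q0 : Subgroup K).map K.subtype : Subgroup G) : Set G) := by
  have key : ∀ g : G, (MulAut.conjNormal g : MulAut K) • Q0 = Q0 →
      ∀ x ∈ (Q0 : Subgroup K).map K.subtype, g * x * g⁻¹ ∈ (Q0 : Subgroup K).map K.subtype := by
    rintro g hg x ⟨k, hk, rfl⟩
    have h2 : (MulAut.conjNormal g : MulAut K) • k ∈
        (MulAut.conjNormal g : MulAut K) • (Q0 : Subgroup K) :=
      Subgroup.smul_mem_pointwise_smul k _ _ hk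
    rw [← Sylow.pointwise_smul_def, hg] at h2
    exact ⟨_, h2, rfl⟩
  have hinv : (MulAut.conjNormal g⁻¹ : MulAut K) • Q0 = Q0 := by
    rw [map_inv, inv_smul_eq_iff, h]
  rw [Subgroup.mem_normalizer_iff]
  intro x
  constructor
  · exact key g h x
  · intro hx
    have := key g⁻¹ hinv _ hx
    simpa [mul_assoc] using this

theorem center_section {G : Type*} [Group G] [Finite G] (R : Subgroup G) (r : ℕ) [Fact r.Prime]
    (hR : IsPGroup r R) (hR1 : R ≠ ⊥) :
    R ⊓ centralizer (R : Set G) ≠ ⊥ ∧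
    (∀ x y : ↥(R ⊓ centralizer (R : Set G)), x * y = y * x) ∧
    ∀ g ∈ normalizer (R : Set G),
      g ∈ normalizer ((R ⊓ centralizer (R : Set G) : Subgroup G) : Set G) := by
  refine ⟨?_, ?_, ?_⟩
  · haveI : Nontrivial ↥R := (Subgroup.nontrivial_iff_ne_bot R).2 hR1
    haveI := IsPGroup.center_nontrivial hR
    obtain ⟨c, hc1⟩ := exists_ne (1 : Subgroup.center ↥R)
    have hcA : ((c : ↥R) : G) ∈ R ⊓ centralizer (R : Set G) := by
      refine Subgroup.mem_inf.2 ⟨c.1.2, ?_⟩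
      rw [Subgroup.mem_centralizer_iff]
      intro h hh
      have := Subgroup.mem_center_iff.1 c.2 ⟨h, hh⟩
      exact congrArg Subtype.val this
    intro hbot
    rw [hbot, Subgroup.mem_bot] at hcA
    exact hc1 (Subtype.ext (Subtype.ext hcA))
  · intro x y
    apply Subtype.ext
    exact ((Subgroup.mem_centralizer_iff.1 x.2.2) y.1 y.2.1).symm
  · have key : ∀ g ∈ normalizer (R : Set G), ∀ x ∈ R ⊓ centralizer (R : Set G),
        g * x * g⁻¹ ∈ R ⊓ centralizer (R : Set G) := by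
      intro g hgn x hx
      rw [Subgroup.mem_normalizer_iff] at hgn
      refine Subgroup.mem_inf.2 ⟨(hgn x).1 hx.1, ?_⟩
      rw [Subgroup.mem_centralizer_iff]
      intro h hh
      have hh' : g⁻¹ * h * g ∈ R := by
        apply (hgn _).2
        have e : g * (g⁻¹ * h * g) * g⁻¹ = h := by group
        rw [e]
        exact hh
      have hcm := (Subgroup.mem_centralizer_iff.1 hx.2) _ hh'
      calc h * (g * x * g⁻¹) = g * (g⁻¹ * h * g * x) * g⁻¹ := by group
        _ = g * (x * (g⁻¹ * h * g)) * g⁻¹ := by rw [hcm]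
        _ = g * x * g⁻¹ * h := by group
    intro g hg
    rw [Subgroup.mem_normalizer_iff]
    intro x
    constructor
    · exact key g hg x
    · intro hx
      have := key g⁻¹ (inv_mem hg) _ hx
      simpa [mul_assoc] using this

theorem inv_sylow {G : Type*} [Group G] [Finite G] (N : Subgroup G) [N.Normal] (p q : ℕ)
    [Fact p.Prime] [Fact q.Prime] (S : Subgroup G) (hS : IsPGroup p S)
    (hpN : ¬ p ∣ Nat.card N) :
    ∃ Q : Subgroup G, Q ≤ N ∧ IsPGroup q Q ∧ Nat.card Q = q ^ (Nat.card N).factorization q ∧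
      S ≤ normalizer (Q : Set G) := by
  classical
  let f : ↥S →* MulAut N := (MulAut.conjNormal (H := N)).comp S.subtype
  letI : MulDistribMulAction ↥S ↥N := MulDistribMulAction.compHom N f
  have hcard : ¬ p ∣ Nat.card (Sylow q N) := by
    intro h
    obtain ⟨Q0⟩ : Nonempty (Sylow q N) := inferInstance
    exact hpN ((h.trans (Sylow.card_dvd_index Q0)).trans (Subgroup.index_dvd_card _))
  obtain ⟨Q, hQ⟩ := IsPGroup.nonempty_fixed_point_of_prime_not_dvd_card hS (Sylow q N) hcard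
  have hinv : ∀ g : ↥S, ∀ k : N, k ∈ (Q : Subgroup N) → f g k ∈ (Q : Subgroup N) := by
    intro g k hk
    have h1 : g • Q = Q := hQ g
    have h2 : g • k ∈ g • (Q : Subgroup N) := Subgroup.smul_mem_pointwise_smul k g _ hk
    rw [← Sylow.pointwise_smul_def, h1] at h2
    exact h2
  have key : ∀ g ∈ S, ∀ x ∈ (Q : Subgroup N).map N.subtype,
      g * x * g⁻¹ ∈ (Q : Subgroup N).map N.subtype := by
    rintro g hg x ⟨k, hk, rfl⟩
    exact ⟨f ⟨g, hg⟩ k, hinv ⟨g, hg⟩ k hk, by simp [f, MulAut.conjNormal_apply]⟩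
  refine ⟨(Q : Subgroup N).map N.subtype, ?_, ?_, ?_, ?_⟩
  · rintro x ⟨k, -, rfl⟩
    exact k.2
  · exact Q.isPGroup'.map N.subtype
  · rw [Subgroup.card_map_of_injective N.subtype_injective]
    exact Q.card_eq_multiplicity
  · intro g hg
    rw [Subgroup.mem_normalizer_iff]
    intro x
    constructor
    · exact key g hg x
    · intro hx
      have := key g⁻¹ (inv_mem hg) _ hx
      simpa [mul_assoc] using this

theorem exists_lt_pow {G : Type*} [Group G] {x w : G} (hx : 0 < orderOf x) (h : w ∈ zpowers x) :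
    ∃ b < orderOf x, w = x ^ b := by
  obtain ⟨k, hk⟩ := mem_zpowers_iff.1 h
  have hpos : (0 : ℤ) < orderOf x := by exact_mod_cast hx
  have h0 : 0 ≤ k % (orderOf x : ℤ) := Int.emod_nonneg k hpos.ne'
  have h1 : k % (orderOf x : ℤ) < orderOf x := Int.emod_lt_of_pos k hpos
  refine ⟨(k % (orderOf x : ℤ)).toNat, by omega, ?_⟩
  rw [← zpow_natCast, Int.toNat_of_nonneg h0, zpow_mod_orderOf, hk]

theorem pow_eq_of_coprime {G : Type*} [Group G] (p j : ℕ) (hp : 1 < p) (hj : Nat.Coprime j p)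
    (x1 x2 : G) (h1 : x1 ^ p = 1) (h2 : x2 ^ p = 1) (h : x1 ^ j = x2 ^ j) : x1 = x2 := by
  obtain ⟨m, -, hm⟩ := Nat.exists_mul_mod_eq_one_of_coprime hj hp
  have key : ∀ x : G, x ^ p = 1 → x = (x ^ j) ^ m := by
    intro x hx
    rw [← pow_mul, ← Nat.div_add_mod (j * m) p, hm, pow_add, pow_mul, hx, one_pow, one_mul,
      pow_one]
  rw [key x1 h1, key x2 h2, h]

theorem double_norm {A : Type*} [CommGroup A] (p q : ℕ) (hp : 0 < p) (ζ η : MulAut A)
    (hη : η ^ q = 1) (hηf : ∀ k, η k = k → k = 1)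
    (hxp : ∀ a < q, (ζ * η ^ a) ^ p = 1) (hxf : ∀ a < q, ∀ k, (ζ * η ^ a) k = k → k = 1)
    (β : ℕ → ℕ → ℕ)
    (hβ : ∀ j, 1 ≤ j → j < p → Set.InjOn (β j) (Finset.range q : Set ℕ) ∧
      ∀ a < q, β j a < q ∧ (ζ * η ^ a) ^ j = ζ ^ j * η ^ (β j a)) (v : A) : v ^ q = 1 := by
  classical
  have h1 : ∀ a ∈ Finset.range q, ∏ j ∈ Finset.range p, ((ζ * η ^ a) ^ j) v = 1 := by
    intro a ha
    exact FrobC.norm_eq_one (ζ * η ^ a) p (hxp a (Finset.mem_range.1 ha))
      (hxf a (Finset.mem_range.1 ha)) v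
  have h2 : ∏ a ∈ Finset.range q, ∏ j ∈ Finset.range p, ((ζ * η ^ a) ^ j) v = 1 :=
    Finset.prod_eq_one h1
  rw [Finset.prod_comm] at h2
  obtain ⟨p', rfl⟩ : ∃ p', p = p' + 1 := ⟨p - 1, by omega⟩
  rw [Finset.prod_range_succ'] at h2
  have h3 : ∀ j ∈ Finset.range p', ∏ a ∈ Finset.range q, ((ζ * η ^ a) ^ (j + 1)) v = 1 := by
    intro j hj
    have hj' := Finset.mem_range.1 hj
    obtain ⟨hinj, hb⟩ := hβ (j + 1) (by omega) (by omega)
    have e1 : ∀ a ∈ Finset.range q, ((ζ * η ^ a) ^ (j + 1)) v =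
        (ζ ^ (j + 1)) ((η ^ (β (j + 1) a)) v) := by
      intro a ha
      rw [(hb a (Finset.mem_range.1 ha)).2]; rfl
    rw [Finset.prod_congr rfl e1, ← map_prod]
    have himg : (Finset.range q).image (β (j + 1)) = Finset.range q := by
      apply Finset.eq_of_subset_of_card_le
      · intro b hb'
        obtain ⟨a, ha, rfl⟩ := Finset.mem_image.1 hb'
        exact Finset.mem_range.2 (hb a (Finset.mem_range.1 ha)).1
      · rw [Finset.card_image_of_injOn hinj]
    have e2 : ∏ a ∈ Finset.range q, (η ^ (β (j + 1) a)) v = ∏ b ∈ Finset.range q, (η ^ b) v := by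
      calc ∏ a ∈ Finset.range q, (η ^ (β (j + 1) a)) v
          = ∏ b ∈ (Finset.range q).image (β (j + 1)), (η ^ b) v :=
            (Finset.prod_image (s := Finset.range q) (g := β (j + 1))
              (f := fun b => (η ^ b) v) (fun a ha a' ha' h => hinj ha ha' h)).symm
        _ = ∏ b ∈ Finset.range q, (η ^ b) v := by rw [himg]
    rw [e2, FrobC.norm_eq_one η q hη hηf v, map_one]
  rw [Finset.prod_eq_one h3, one_mul] at h2
  simp only [pow_zero, MulAut.one_apply] at h2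
  rw [Finset.prod_const, Finset.card_range] at h2
  exact h2

theorem factA {G : Type*} [Group G] [Finite G] (K H : Subgroup G) [K.Normal] (hK : K ≠ ⊥)
    (hfpf : ∀ h ∈ H, h ≠ 1 → ∀ k ∈ K, h * k = k * h → k = 1)
    (p q : ℕ) [Fact p.Prime] [Fact q.Prime] (hpq : p ≠ q) (y z : G) (hy : y ∈ H) (hz : z ∈ H)
    (hyq : orderOf y = q) (hzp : orderOf z = p) (hzy : z * y * z⁻¹ ∈ zpowers y) :
    z * y = y * z := by
  classical
  have hp : p.Prime := Fact.out
  have hq : q.Prime := Fact.out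
  by_contra hne
  have hy1 : y ≠ 1 := by
    rintro rfl
    rw [orderOf_one] at hyq
    exact hq.one_lt.ne hyq
  have hyfp : ∀ k ∈ K, y * k = k * y → k = 1 := hfpf y hy hy1
  have hqK := not_dvd_card_of_fpf K q y hyq hyfp
  have hK1 : Nat.card K ≠ 1 := fun h => hK (Subgroup.eq_bot_of_card_eq K h)
  obtain ⟨r, hr, hrK⟩ := Nat.exists_prime_and_dvd hK1
  haveI : Fact r.Prime := ⟨hr⟩
  have hrq : r ≠ q := by rintro rfl; exact hqK hrK
  have hzeq : zpowers (z * y * z⁻¹) = zpowers y := by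
    apply Subgroup.eq_of_le_of_card_ge (zpowers_le.2 hzy)
    rw [Nat.card_zpowers, Nat.card_zpowers]
    have h1 := MulEquiv.orderOf_eq (MulAut.conj z) y
    rw [MulAut.conj_apply] at h1
    rw [h1]
  have hzy' : z⁻¹ * y * z ∈ zpowers y := by
    rw [← Tof.conj_mem_zpowers_iff z y (z⁻¹ * y * z), hzeq]
    have : z * (z⁻¹ * y * z) * z⁻¹ = y := by group
    rw [this]; exact mem_zpowers y
  obtain ⟨Q0, h0y, h0z⟩ := common_fixed_sylow K r q y z hyfp hyq hzy'
  obtain ⟨R, hRdef⟩ : ∃ R : Subgroup G, R = (Q0 : Subgroup K).map K.subtype := ⟨_, rfl⟩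
  have hRK : R ≤ K := by
    rw [hRdef]; rintro x ⟨k, -, rfl⟩; exact k.2
  have hRr : IsPGroup r R := by rw [hRdef]; exact Q0.isPGroup'.map K.subtype
  have hR1 : R ≠ ⊥ := by
    rw [hRdef]
    intro h
    have hb : (Q0 : Subgroup K) = ⊥ :=
      (Subgroup.map_eq_bot_iff_of_injective _ K.subtype_injective).1 h
    exact Q0.ne_bot_of_dvd_card hrK hb
  have hyR : y ∈ normalizer (R : Set G) := by
    rw [hRdef]; exact normalizer_of_fixed K r Q0 y h0y
  have hzR : z ∈ normalizer (R : Set G) := by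
    rw [hRdef]; exact normalizer_of_fixed K r Q0 z h0z
  obtain ⟨hA1, hAc, hAn⟩ := center_section R r hRr hR1
  obtain ⟨A, hAdef⟩ : ∃ A : Subgroup G, A = R ⊓ centralizer (R : Set G) := ⟨_, rfl⟩
  rw [← hAdef] at hA1 hAc hAn
  have hAK : A ≤ K := by rw [hAdef]; exact le_trans inf_le_left hRK
  have hAr : IsPGroup r A := hRr.to_le (by rw [hAdef]; exact inf_le_left)
  have hqpos : 0 < orderOf y := by rw [hyq]; exact hq.pos
  have hzp' : z ^ p = 1 := by rw [← hzp]; exact pow_orderOf_eq_one z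
  have hyq' : y ^ q = 1 := by rw [← hyq]; exact pow_orderOf_eq_one y
  have pwG : ∀ (a j : ℕ), ∃ b < q, (z * y ^ a) ^ j = z ^ j * y ^ b := by
    intro a j
    induction j with
    | zero => exact ⟨0, hq.pos, by simp⟩
    | succ j ih =>
      obtain ⟨b, -, hb⟩ := ih
      have hw : z⁻¹ * y ^ b * z * y ^ a ∈ zpowers y := by
        apply Subgroup.mul_mem
        · have h1 : (z⁻¹ * y * z) ^ b = z⁻¹ * y ^ b * z := by
            have := conj_pow (a := z⁻¹) (b := y) (i := b)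
            simpa using this
          rw [← h1]
          exact Subgroup.pow_mem _ hzy' b
        · exact Subgroup.pow_mem _ (mem_zpowers y) a
      obtain ⟨b', hb', hw'⟩ := exists_lt_pow hqpos hw
      refine ⟨b', by rw [← hyq]; exact hb', ?_⟩
      rw [pow_succ, hb, ← hw', pow_succ]
      group
  have hxpG : ∀ a : ℕ, (z * y ^ a) ^ p = 1 := by
    intro a
    obtain ⟨b, hb, hpw⟩ := pwG a p
    rw [hzp', one_mul] at hpw
    by_contra hne1
    rw [hpw] at hne1
    have hob : orderOf (y ^ b) = q :=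
      orderOf_eq_prime (by rw [← pow_mul, mul_comm, pow_mul, hyq', one_pow]) hne1
    have hzb : zpowers (y ^ b) = zpowers y := by
      apply Subgroup.eq_of_le_of_card_ge
        (zpowers_le.2 (Subgroup.pow_mem _ (mem_zpowers y) b))
      rw [Nat.card_zpowers, Nat.card_zpowers, hob, hyq]
    have hymem : y ∈ zpowers (y ^ b) := by rw [hzb]; exact mem_zpowers y
    obtain ⟨c, hc⟩ := mem_zpowers_iff.1 hymem
    have hcomm1 : Commute (z * y ^ a) (y ^ b) := by
      rw [← hpw]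
      exact Commute.pow_right (Commute.refl _) p
    have hcomm2 : Commute (z * y ^ a) y := by
      have h5 := hcomm1.zpow_right c
      rwa [hc] at h5
    apply hne
    have h1 : z * y ^ a * y = y * (z * y ^ a) := hcomm2.eq
    have h2 : z * y ^ a * y = z * y * y ^ a := by
      rw [mul_assoc, mul_assoc, ← pow_succ, ← pow_succ']
    rw [h2, ← mul_assoc] at h1
    exact mul_right_cancel h1
  have hx1G : ∀ a : ℕ, z * y ^ a ≠ 1 := by
    intro a h
    have h1 : z = (y ^ a)⁻¹ := eq_inv_of_mul_eq_one_left h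
    have h2 : z ∈ zpowers y := by
      rw [h1]
      exact Subgroup.inv_mem _ (Subgroup.pow_mem _ (mem_zpowers y) a)
    have h3 := orderOf_dvd_of_mem_zpowers h2
    rw [hzp, hyq] at h3
    exact hpq ((Nat.prime_dvd_prime_iff_eq hp hq).1 h3)
  choose β hβlt hβeq using pwG
  letI : CommGroup A := { (inferInstance : Group A) with mul_comm := hAc }
  obtain ⟨Y, hY⟩ : ∃ Y : normalizer (A : Set G), (Y : G) = y := ⟨⟨y, hAn y hyR⟩, rfl⟩
  obtain ⟨Z, hZ⟩ : ∃ Z : normalizer (A : Set G), (Z : G) = z := ⟨⟨z, hAn z hzR⟩, rfl⟩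
  obtain ⟨Φ, hΦv⟩ : ∃ Φ : normalizer (A : Set G) →* MulAut A,
      ∀ (g : normalizer (A : Set G)) (v : A), ((Φ g v : A) : G) = g * v * (g : G)⁻¹ :=
    ⟨A.normalizerMonoidHom, fun g v => rfl⟩
  have hfp : ∀ g : normalizer (A : Set G), (g : G) ∈ H → (g : G) ≠ 1 →
      ∀ v : A, Φ g v = v → v = 1 := by
    intro g hgH hg1 v hv
    have h1 : (g : G) * v * (g : G)⁻¹ = v := by rw [← hΦv, hv]
    exact Subtype.ext (hfpf g hgH hg1 v (hAK v.2) (mul_inv_eq_iff_eq_mul.1 h1))
  have hcoe : ∀ a : ℕ, ((Z * Y ^ a : normalizer (A : Set G)) : G) = z * y ^ a := by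
    intro a
    rw [Subgroup.coe_mul, Subgroup.coe_pow, hY, hZ]
  have hall : ∀ v : A, v ^ q = 1 := by
    apply double_norm p q hp.pos (Φ Z) (Φ Y)
    · rw [← map_pow]
      have : Y ^ q = 1 := Subtype.ext (by rw [Subgroup.coe_pow, hY, hyq']; rfl)
      rw [this, map_one]
    · exact hfp Y (by rw [hY]; exact hy) (by rw [hY]; exact hy1)
    · intro a _
      rw [← map_pow, ← map_mul, ← map_pow]
      have : (Z * Y ^ a) ^ p = 1 :=
        Subtype.ext (by rw [Subgroup.coe_pow, hcoe, hxpG]; rfl)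
      rw [this, map_one]
    · intro a _
      rw [← map_pow, ← map_mul]
      apply hfp
      · rw [hcoe]
        exact H.mul_mem hz (H.pow_mem hy a)
      · rw [hcoe]
        exact hx1G a
    · intro j hj1 hjp
      refine ⟨?_, ?_⟩
      · intro a ha a' ha' hbb
        have ha2 : a < q := Finset.mem_range.1 ha
        have ha2' : a' < q := Finset.mem_range.1 ha'
        have hbb' : β a j = β a' j := hbb
        have h1 : (z * y ^ a) ^ j = (z * y ^ a') ^ j := by
          rw [hβeq a j, hβeq a' j, hbb']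
        have hcop : Nat.Coprime j p :=
          Nat.Coprime.symm ((Nat.Prime.coprime_iff_not_dvd hp).2
            (Nat.not_dvd_of_pos_of_lt (by omega) hjp))
        have h2 := pow_eq_of_coprime p j hp.one_lt hcop _ _ (hxpG a) (hxpG a') h1
        have h3 : y ^ a = y ^ a' := mul_left_cancel h2
        exact pow_injOn_Iio_orderOf (by rw [hyq]; exact ha2) (by rw [hyq]; exact ha2') h3
      · intro a _
        refine ⟨hβlt a j, ?_⟩
        rw [← map_pow, ← map_mul, ← map_pow, ← map_pow, ← map_pow, ← map_mul]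
        congr 1
        apply Subtype.ext
        rw [Subgroup.coe_pow, hcoe, hβeq a j, Subgroup.coe_mul, Subgroup.coe_pow,
          Subgroup.coe_pow, hY, hZ]
  obtain ⟨v, hv1⟩ := (Subgroup.ne_bot_iff_exists_ne_one).1 hA1
  obtain ⟨m, hm⟩ := hAr v
  have hd1 : orderOf v ∣ q := orderOf_dvd_of_pow_eq_one (hall v)
  have hd2 : orderOf v ∣ r ^ m := orderOf_dvd_of_pow_eq_one hm
  have hcop : Nat.Coprime q (r ^ m) :=
    Nat.Coprime.pow_right m ((Nat.coprime_primes hq hr).2 (Ne.symm hrq))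
  have h1 := Nat.dvd_gcd hd1 hd2
  rw [hcop.gcd_eq_one, Nat.dvd_one, orderOf_eq_one_iff] at h1
  exact hv1 h1

theorem cyc_centralize {H : Type*} [Group H] [Finite H] (p q : ℕ) [Fact p.Prime] [Fact q.Prime]
    (hpq : p ≠ q)
    (hA : ∀ y z : H, orderOf y = q → orderOf z = p → z * y * z⁻¹ ∈ zpowers y → z * y = y * z)
    (Q : Subgroup H) [IsCyclic Q] (hQ : IsPGroup q Q) (z : H) (hzp : orderOf z = p)
    (hzQ : z ∈ normalizer (Q : Set H)) : ∀ (m : ℕ) (x : H), x ∈ Q → orderOf x = m →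
      z * x * z⁻¹ = x := by
  have hp : p.Prime := Fact.out
  have hq : q.Prime := Fact.out
  have hconj : ∀ x ∈ Q, z * x * z⁻¹ ∈ Q := fun x hx => (Subgroup.mem_normalizer_iff.1 hzQ x).1 hx
  have hcyc : ∀ x w : H, x ∈ Q → w ∈ Q → orderOf w = orderOf x → w ∈ zpowers x := by
    intro x w hx hw ho
    have h1 := DihCent.mem_zpowers_of_orderOf_eq (⟨x, hx⟩ : Q) (⟨w, hw⟩ : Q)
      (by rw [Subgroup.orderOf_mk, Subgroup.orderOf_mk]; exact ho)
    obtain ⟨i, hi⟩ := mem_zpowers_iff.1 h1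
    refine mem_zpowers_iff.2 ⟨i, ?_⟩
    have := congrArg Subtype.val hi
    simpa using this
  have hoconj : ∀ x : H, orderOf (z * x * z⁻¹) = orderOf x := by
    intro x
    have h1 := MulEquiv.orderOf_eq (MulAut.conj z) x
    rwa [MulAut.conj_apply] at h1
  intro m
  induction m using Nat.strong_induction_on with
  | _ m ih =>
    intro x hx hxm
    by_cases hx1 : x = 1
    · rw [hx1]; group
    obtain ⟨e, he⟩ := hQ ⟨x, hx⟩
    have he' : x ^ q ^ e = 1 := by
      have := congrArg Subtype.val he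
      simpa using this
    have hqo : q ∣ orderOf x := by
      have h1 : orderOf x ∣ q ^ e := orderOf_dvd_of_pow_eq_one he'
      obtain ⟨i, -, hi⟩ := (Nat.dvd_prime_pow hq).1 h1
      have hi0 : i ≠ 0 := by
        rintro rfl
        rw [pow_zero, orderOf_eq_one_iff] at hi
        exact hx1 hi
      rw [hi]
      exact dvd_pow_self q hi0
    have hox : orderOf (x ^ q) = orderOf x / q := orderOf_pow_of_dvd hq.ne_zero hqo
    have hlt : orderOf (x ^ q) < m := by
      rw [hox, ← hxm]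
      exact Nat.div_lt_self (orderOf_pos x) hq.one_lt
    have hih := ih _ hlt (x ^ q) (Q.pow_mem hx q) rfl
    have hwQ := hconj x hx
    have hw := hcyc x (z * x * z⁻¹) hx hwQ (hoconj x)
    obtain ⟨ρ, hρ⟩ : ∃ ρ : H, ρ = x⁻¹ * (z * x * z⁻¹) := ⟨_, rfl⟩
    have hρz : ρ ∈ zpowers x := by
      rw [hρ]
      exact Subgroup.mul_mem _ (Subgroup.inv_mem _ (mem_zpowers x)) hw
    have hρQ : ρ ∈ Q := by
      rw [hρ]; exact Q.mul_mem (Q.inv_mem hx) hwQ
    have hxρ : z * x * z⁻¹ = x * ρ := by rw [hρ]; group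
    have hcomm : Commute x ρ := by
      obtain ⟨i, hi⟩ := mem_zpowers_iff.1 hρz
      rw [← hi]
      exact (Commute.refl x).zpow_right i
    have hρq : ρ ^ q = 1 := by
      have h1 : (z * x * z⁻¹) ^ q = z * x ^ q * z⁻¹ := conj_pow
      rw [hih, hxρ, hcomm.mul_pow] at h1
      exact mul_left_cancel (a := x ^ q) (by rw [h1, mul_one])
    by_cases hρ1 : ρ = 1
    · rw [hxρ, hρ1, mul_one]
    · exfalso
      have hoρ : orderOf ρ = q := orderOf_eq_prime hρq hρ1
      have hzρ : z * ρ * z⁻¹ ∈ zpowers ρ :=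
        hcyc ρ (z * ρ * z⁻¹) hρQ (hconj ρ hρQ) (hoconj ρ)
      have h2 := hA ρ z hoρ hzp hzρ
      have h3 : z * ρ * z⁻¹ = ρ := by rw [h2, mul_inv_cancel_right]
      have h4 := DihCent.conj_pow_mul hxρ h3 p
      rw [← hzp, pow_orderOf_eq_one, one_mul, inv_one, mul_one] at h4
      have h5 : ρ ^ orderOf z = 1 := by
        have h6 : x * 1 = x * ρ ^ orderOf z := by rw [mul_one]; exact h4
        exact (mul_left_cancel h6).symm
      have h7 := orderOf_dvd_of_pow_eq_one h5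
      rw [hoρ, hzp] at h7
      exact hpq ((Nat.prime_dvd_prime_iff_eq hq hp).1 h7).symm

theorem zgroup_center {H : Type*} [Group H] [Finite H] [Nontrivial H]
    (hcyc : ∀ (q : ℕ) [Fact q.Prime] (Q : Sylow q H), IsCyclic Q)
    (hA : ∀ (p q : ℕ), p.Prime → q.Prime → p ≠ q → ∀ y z : H, orderOf y = q → orderOf z = p →
      z * y * z⁻¹ ∈ zpowers y → z * y = y * z) :
    Subgroup.center H ≠ ⊥ := by
  classical
  haveI : IsZGroup H := ⟨fun p hp P => by haveI := Fact.mk hp; exact hcyc p P⟩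
  have hcard1 : Nat.card H ≠ 1 := Finite.one_lt_card.ne'
  obtain ⟨p, hpdef⟩ : ∃ p, (Nat.card H).minFac = p := ⟨_, rfl⟩
  have hp : p.Prime := by rw [← hpdef]; exact Nat.minFac_prime hcard1
  haveI := Fact.mk hp
  have hpH : p ∣ Nat.card H := by rw [← hpdef]; exact Nat.minFac_dvd _
  obtain ⟨P⟩ : Nonempty (Sylow p H) := inferInstance
  have hP : IsCyclic P := hcyc p P
  obtain ⟨N, hNn, hNP⟩ : ∃ N : Subgroup H, N.Normal ∧ N.IsComplement' P :=
    ⟨_, MonoidHom.normal_ker _, hP.isComplement' hpdef⟩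
  haveI := hNn
  have hpN : ¬ p ∣ Nat.card N := by
    have h1 : (P : Subgroup H).index = Nat.card N := hNP.index_eq_card
    rw [← h1]
    exact P.not_dvd_index
  have hPcard : p ∣ Nat.card P := P.dvd_card_of_dvd_card hpH
  obtain ⟨z', hz'⟩ := exists_prime_orderOf_dvd_card' p hPcard
  obtain ⟨z, hz⟩ : ∃ z : H, z = (z' : H) := ⟨_, rfl⟩
  have hzp : orderOf z = p := by rw [hz, Subgroup.orderOf_coe, hz']
  have hzP : z ∈ (P : Subgroup H) := by rw [hz]; exact z'.2
  have hz1 : z ≠ 1 := by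
    rintro h
    rw [h, orderOf_one] at hzp
    exact hp.one_lt.ne hzp
  have hSp : IsPGroup p (zpowers z) := by
    apply IsPGroup.of_card (n := 1)
    rw [Nat.card_zpowers, hzp, pow_one]
  have hNc : ∀ n ∈ N, z * n = n * z := by
    have hle : Nat.card N ∣ Nat.card (N ⊓ centralizer ({z} : Set H) : Subgroup H) := by
      rw [Nat.dvd_iff_prime_pow_dvd_dvd]
      intro q k hq hqk
      rcases Nat.eq_zero_or_pos k with rfl | hkpos
      · simp
      haveI := Fact.mk hq
      have hqN : q ∣ Nat.card N := dvd_trans (dvd_pow_self q hkpos.ne') hqk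
      have hpq : p ≠ q := by rintro rfl; exact hpN hqN
      obtain ⟨Q, hQN, hQq, hQcard, hQnorm⟩ := inv_sylow N p q (zpowers z) hSp hpN
      haveI : IsCyclic Q := IsPGroup.isCyclic_of_isZGroup hQq
      have hzQ : z ∈ normalizer (Q : Set H) := hQnorm (mem_zpowers z)
      have hcent := cyc_centralize p q hpq (hA p q hp hq hpq) Q hQq z hzp hzQ
      have hQC : Q ≤ N ⊓ centralizer ({z} : Set H) := by
        intro x hx
        refine Subgroup.mem_inf.2 ⟨hQN hx, ?_⟩
        rw [Subgroup.mem_centralizer_iff]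
        intro w hw
        rw [Set.mem_singleton_iff.1 hw]
        have := hcent _ x hx rfl
        exact mul_inv_eq_iff_eq_mul.1 this
      have h1 : q ^ k ∣ Nat.card Q := by
        rw [hQcard]
        exact pow_dvd_pow q ((hq.pow_dvd_iff_le_factorization Nat.card_pos.ne').1 hqk)
      exact dvd_trans h1 (Subgroup.card_dvd_of_le hQC)
    have heq : N ⊓ centralizer ({z} : Set H) = N :=
      Subgroup.eq_of_le_of_card_ge inf_le_left (Nat.le_of_dvd Nat.card_pos hle)
    intro n hn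
    have h1 : n ∈ N ⊓ centralizer ({z} : Set H) := by rw [heq]; exact hn
    exact Subgroup.mem_centralizer_iff.1 h1.2 z rfl
  have hPc : ∀ x ∈ (P : Subgroup H), z * x = x * z := by
    intro x hx
    have hmc : IsMulCommutative (P : Subgroup H) := IsCyclic.isMulCommutative
    have := hmc.is_comm.comm ⟨z, hzP⟩ ⟨x, hx⟩
    exact congrArg Subtype.val this
  have hzc : z ∈ Subgroup.center H := by
    rw [Subgroup.mem_center_iff]
    intro h
    obtain ⟨⟨n, x⟩, hnx⟩ := hNP.2 h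
    have hnx' : (n : H) * (x : H) = h := hnx
    rw [← hnx', mul_assoc, ← hPc x x.2, ← mul_assoc, ← hNc n n.2, mul_assoc]
  intro hbot
  rw [hbot, Subgroup.mem_bot] at hzc
  exact hz1 hzc

theorem even_center {G : Type*} [Group G] [Finite G] (K H : Subgroup G) [K.Normal] (hK : K ≠ ⊥)
    (hfpf : ∀ h ∈ H, h ≠ 1 → ∀ k ∈ K, h * k = k * h → k = 1) (t : G) (ht : t ∈ H)
    (ht2 : orderOf t = 2) : ∀ h ∈ H, h * t = t * h := by
  have hinv : ∀ s ∈ H, orderOf s = 2 → ∀ x ∈ K, s * x * s⁻¹ = x⁻¹ := by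
    intro s hs hs2 x hx
    have hs1 : s ≠ 1 := by
      rintro rfl
      rw [orderOf_one] at hs2
      omega
    have hss : s * s = 1 := by
      have := pow_orderOf_eq_one s
      rwa [hs2, pow_two] at this
    have hsinv : s⁻¹ = s := inv_eq_of_mul_eq_one_right hss
    let ψ : K → K := fun k => ⟨(k : G)⁻¹ * (s * k * s⁻¹),
      K.mul_mem (K.inv_mem k.2) (‹K.Normal›.conj_mem k k.2 s)⟩
    have hψinj : Function.Injective ψ := by
      intro a b hab
      have h1 : (a : G)⁻¹ * (s * a * s⁻¹) = (b : G)⁻¹ * (s * b * s⁻¹) := congrArg Subtype.val hab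
      have h2 : s * ((b : G) * (a : G)⁻¹) = (b : G) * (a : G)⁻¹ * s := by
        have h3 : s * (b : G) * s⁻¹ = (b : G) * ((a : G)⁻¹ * (s * a * s⁻¹)) := by
          rw [h1]; group
        calc s * ((b : G) * (a : G)⁻¹) = (s * b * s⁻¹) * (s * a * s⁻¹)⁻¹ * s := by group
          _ = (b : G) * ((a : G)⁻¹ * (s * a * s⁻¹)) * (s * a * s⁻¹)⁻¹ * s := by rw [h3]
          _ = (b : G) * (a : G)⁻¹ * s := by group
      have h4 := hfpf s hs hs1 _ (K.mul_mem b.2 (K.inv_mem a.2)) h2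
      exact Subtype.ext (mul_inv_eq_one.1 h4).symm
    obtain ⟨k, hk⟩ := Finite.injective_iff_surjective.1 hψinj ⟨x, hx⟩
    have hk' : (k : G)⁻¹ * (s * k * s⁻¹) = x := congrArg Subtype.val hk
    rw [← hk', hsinv]
    have e2 : ((k : G)⁻¹ * (s * k * s))⁻¹ = s⁻¹ * (k : G)⁻¹ * s⁻¹ * k := by group
    rw [e2, hsinv]
    calc s * ((k : G)⁻¹ * (s * k * s)) * s = s * (k : G)⁻¹ * s * k * (s * s) := by group
      _ = s * (k : G)⁻¹ * s * k := by rw [hss, mul_one]
  intro h hh
  obtain ⟨s, hsdef⟩ : ∃ s : G, s = h * t * h⁻¹ := ⟨_, rfl⟩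
  have hsH : s ∈ H := by rw [hsdef]; exact H.mul_mem (H.mul_mem hh ht) (H.inv_mem hh)
  have hs2 : orderOf s = 2 := by
    have h1 := MulEquiv.orderOf_eq (MulAut.conj h) t
    rw [MulAut.conj_apply] at h1
    rw [hsdef, h1, ht2]
  have hst : s * t = 1 := by
    by_contra hne
    obtain ⟨x', hx'⟩ := (Subgroup.ne_bot_iff_exists_ne_one).1 hK
    obtain ⟨x, hxdef⟩ : ∃ x : G, x = (x' : G) := ⟨_, rfl⟩
    have hxK : x ∈ K := by rw [hxdef]; exact x'.2
    have hx1 : x ≠ 1 := by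
      rw [hxdef]
      exact fun h => hx' (Subtype.ext h)
    apply hx1
    apply hfpf (s * t) (H.mul_mem hsH ht) hne x hxK
    have h1 := hinv t ht ht2 x hxK
    have h2 := hinv s hsH hs2 x⁻¹ (K.inv_mem hxK)
    rw [inv_inv] at h2
    calc s * t * x = s * (t * x * t⁻¹) * s⁻¹ * (s * t) := by group
      _ = x * (s * t) := by rw [h1, h2]
  have htt : t * t = 1 := by
    have := pow_orderOf_eq_one t
    rwa [ht2, pow_two] at this
  have hst' : s = t := by
    have h1 : s = t⁻¹ := eq_inv_of_mul_eq_one_left hst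
    rw [h1]
    exact inv_eq_of_mul_eq_one_right htt
  rw [hsdef] at hst'
  calc h * t = (h * t * h⁻¹) * h := by group
    _ = t * h := by rw [hst']

end Cfsg.Agent.Lib.Helper1.FrobZ
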