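import Cfsg.Agent.Lib.Helper1.Jordan2

set_option autoImplicit false

namespace Cfsg.Agent.Lib.Helper1.M12x

open Cfsg.Agent.Lib.Helper1

abbrev P := Equiv.Perm (Fin 12)

def gs : P := Equiv.swap (3 : Fin 12) 5 * Equiv.swap (3 : Fin 12) 4 * Equiv.swap (6 : Fin 12) 8 * Equiv.swap (6 : Fin 12) 7 * Equiv.swap (9 : Fin 12) 11 * Equiv.swap (9 : Fin 12) 10
def gt : P := Equiv.swap (3 : Fin 12) 9 * Equiv.swap (3 : Fin 12) 6 * Equiv.swap (4 : Fin 12) 10 * Equiv.swap (4 : Fin 12) 7 * Equiv.swap (5 : Fin 12) 11 * Equiv.swap (5 : Fin 12) 8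
def gu : P := Equiv.swap (4 : Fin 12) 9 * Equiv.swap (4 : Fin 12) 5 * Equiv.swap (4 : Fin 12) 6 * Equiv.swap (7 : Fin 12) 10 * Equiv.swap (7 : Fin 12) 11 * Equiv.swap (7 : Fin 12) 8
def gv : P := Equiv.swap (4 : Fin 12) 11 * Equiv.swap (4 : Fin 12) 5 * Equiv.swap (4 : Fin 12) 7 * Equiv.swap (6 : Fin 12) 8 * Equiv.swap (6 : Fin 12) 9 * Equiv.swap (6 : Fin 12) 10
def gw : P := Equiv.swap (4 : Fin 12) 8 * Equiv.swap (4 : Fin 12) 5 * Equiv.swap (4 : Fin 12) 10 * Equiv.swap (6 : Fin 12) 7 * Equiv.swap (6 : Fin 12) 9 * Equiv.swap (6 : Fin 12) 11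
def gx1 : P := Equiv.swap (0 : Fin 12) 3 * Equiv.swap (6 : Fin 12) 7 * Equiv.swap (8 : Fin 12) 10 * Equiv.swap (9 : Fin 12) 11
def gx2 : P := Equiv.swap (0 : Fin 12) 1 * Equiv.swap (6 : Fin 12) 9 * Equiv.swap (7 : Fin 12) 10 * Equiv.swap (8 : Fin 12) 11
def gx3 : P := Equiv.swap (1 : Fin 12) 2 * Equiv.swap (6 : Fin 12) 11 * Equiv.swap (7 : Fin 12) 9 * Equiv.swap (8 : Fin 12) 10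

def S1 : Set P := {gs, gt, gu, gv, gw, gx1, gx2, gx3}
def S2 : Set P := {gs, gt, gu, gv, gw, gx1, gx2}
def S3 : Set P := {gs, gt, gu, gv, gw, gx1}
def S4 : Set P := {gs, gt, gu, gv, gw}
def S5 : Set P := {gu, gv, gw}

theorem sub54 : S5 ⊆ S4 := by
  intro x hx
  simp only [S4, S5, Set.mem_insert_iff, Set.mem_singleton_iff] at hx ⊢
  tauto
theorem sub43 : S4 ⊆ S3 := by
  intro x hx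
  simp only [S4, S3, Set.mem_insert_iff, Set.mem_singleton_iff] at hx ⊢
  tauto
theorem sub32 : S3 ⊆ S2 := by
  intro x hx
  simp only [S2, S3, Set.mem_insert_iff, Set.mem_singleton_iff] at hx ⊢
  tauto
theorem sub21 : S2 ⊆ S1 := by
  intro x hx
  simp only [S2, S1, Set.mem_insert_iff, Set.mem_singleton_iff] at hx ⊢
  tauto

def T5 (j : Fin 12) : P :=
  match j.val with
  | 5 => gu * gu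
  | 6 => gu
  | 7 => gv
  | 8 => gw * gw * gw
  | 9 => gu * gu * gu
  | 10 => gw
  | 11 => gv * gv * gv
  | _ => 1

def T4 (j : Fin 12) : P :=
  match j.val with
  | 4 => gs
  | 5 => gs * gs
  | 6 => gt
  | 7 => gs * gt
  | 8 => gs * gs * gt
  | 9 => gt * gt
  | 10 => gs * gt * gt
  | 11 => gs * gs * gt * gt
  | _ => 1

def T3 (j : Fin 12) : P := if j = 0 then 1 else T4 j * gx1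
def T2 (j : Fin 12) : P := if j = 1 then 1 else T3 j * gx2
def T1 (j : Fin 12) : P := if j = 2 then 1 else T2 j * gx3

theorem T5_mem (j : Fin 12) : T5 j ∈ Subgroup.closure S5 := by
  have hu : gu ∈ Subgroup.closure S5 := Subgroup.subset_closure (by simp [S5])
  have hv : gv ∈ Subgroup.closure S5 := Subgroup.subset_closure (by simp [S5])
  have hw : gw ∈ Subgroup.closure S5 := Subgroup.subset_closure (by simp [S5])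
  unfold T5
  split
  · exact Subgroup.mul_mem _ hu hu
  · exact hu
  · exact hv
  · exact Subgroup.mul_mem _ (Subgroup.mul_mem _ hw hw) hw
  · exact Subgroup.mul_mem _ (Subgroup.mul_mem _ hu hu) hu
  · exact hw
  · exact Subgroup.mul_mem _ (Subgroup.mul_mem _ hv hv) hv
  · exact Subgroup.one_mem _

theorem T4_mem (j : Fin 12) : T4 j ∈ Subgroup.closure S4 := by
  have hs : gs ∈ Subgroup.closure S4 := Subgroup.subset_closure (by simp [S4])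
  have ht : gt ∈ Subgroup.closure S4 := Subgroup.subset_closure (by simp [S4])
  unfold T4
  split
  · exact hs
  · exact Subgroup.mul_mem _ hs hs
  · exact ht
  · exact Subgroup.mul_mem _ hs ht
  · exact Subgroup.mul_mem _ (Subgroup.mul_mem _ hs hs) ht
  · exact Subgroup.mul_mem _ ht ht
  · exact Subgroup.mul_mem _ (Subgroup.mul_mem _ hs ht) ht
  · exact Subgroup.mul_mem _ (Subgroup.mul_mem _ (Subgroup.mul_mem _ hs hs) ht) ht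
  · exact Subgroup.one_mem _

theorem T3_mem (j : Fin 12) : T3 j ∈ Subgroup.closure S3 := by
  unfold T3
  split
  · exact Subgroup.one_mem _
  · exact Subgroup.mul_mem _ (Subgroup.closure_mono sub43 (T4_mem j))
      (Subgroup.subset_closure (by simp [S3]))

theorem T2_mem (j : Fin 12) : T2 j ∈ Subgroup.closure S2 := by
  unfold T2
  split
  · exact Subgroup.one_mem _
  · exact Subgroup.mul_mem _ (Subgroup.closure_mono sub32 (T3_mem j))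
      (Subgroup.subset_closure (by simp [S2]))

theorem T1_mem (j : Fin 12) : T1 j ∈ Subgroup.closure S1 := by
  unfold T1
  split
  · exact Subgroup.one_mem _
  · exact Subgroup.mul_mem _ (Subgroup.closure_mono sub21 (T2_mem j))
      (Subgroup.subset_closure (by simp [S1]))

theorem tr1 : ∀ j : Fin 12, (T1 j) 2 = j := by decide +kernel
theorem tr2 : ∀ j : Fin 12, j ≠ 2 → (T2 j) 2 = 2 ∧ (T2 j) 1 = j := by decide +kernel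
theorem tr3 : ∀ j : Fin 12, j ≠ 2 → j ≠ 1 → (T3 j) 2 = 2 ∧ (T3 j) 1 = 1 ∧ (T3 j) 0 = j := by
  decide +kernel
theorem tr4 : ∀ j : Fin 12, j ≠ 2 → j ≠ 1 → j ≠ 0 →
    (T4 j) 2 = 2 ∧ (T4 j) 1 = 1 ∧ (T4 j) 0 = 0 ∧ (T4 j) 3 = j := by
  decide +kernel
theorem tr5 : ∀ j : Fin 12, j ≠ 2 → j ≠ 1 → j ≠ 0 → j ≠ 3 →
    (T5 j) 2 = 2 ∧ (T5 j) 1 = 1 ∧ (T5 j) 0 = 0 ∧ (T5 j) 3 = 3 ∧ (T5 j) 4 = j := by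
  decide +kernel

theorem sch1_s : ∀ j : Fin 12, ∀ p : Fin 12,
    ((T1 (gs j))⁻¹ * gs * T1 j) p =
      (T2 ((![1, 1, 1, 1, 1, 1, 1, 1, 1, 1, 1, 1] : Fin 12 → Fin 12) j) * T3 ((![0, 0, 0, 0, 0, 0, 0, 0, 0, 0, 0, 0] : Fin 12 → Fin 12) j) * T4 ((![4, 4, 4, 3, 3, 3, 3, 3, 3, 3, 3, 3] : Fin 12 → Fin 12) j) * T5 ((![4, 4, 4, 4, 4, 4, 4, 4, 4, 4, 4, 4] : Fin 12 → Fin 12) j)) p := by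
  decide +kernel

theorem sch1_t : ∀ j : Fin 12, ∀ p : Fin 12,
    ((T1 (gt j))⁻¹ * gt * T1 j) p =
      (T2 ((![1, 1, 1, 1, 1, 1, 1, 1, 1, 1, 1, 1] : Fin 12 → Fin 12) j) * T3 ((![0, 0, 0, 0, 0, 0, 0, 0, 0, 0, 0, 0] : Fin 12 → Fin 12) j) * T4 ((![7, 11, 6, 3, 3, 3, 3, 3, 3, 3, 3, 3] : Fin 12 → Fin 12) j) * T5 ((![4, 4, 4, 4, 4, 4, 4, 4, 4, 4, 4, 4] : Fin 12 → Fin 12) j)) p := by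
  decide +kernel

theorem sch1_u : ∀ j : Fin 12, ∀ p : Fin 12,
    ((T1 (gu j))⁻¹ * gu * T1 j) p =
      (T2 ((![1, 1, 1, 1, 1, 1, 1, 1, 1, 1, 1, 1] : Fin 12 → Fin 12) j) * T3 ((![0, 0, 0, 0, 0, 0, 0, 0, 0, 0, 0, 0] : Fin 12 → Fin 12) j) * T4 ((![3, 3, 3, 3, 3, 3, 3, 3, 3, 3, 3, 3] : Fin 12 → Fin 12) j) * T5 ((![7, 11, 6, 8, 8, 8, 8, 8, 8, 8, 8, 8] : Fin 12 → Fin 12) j)) p := by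
  decide +kernel

theorem sch1_v : ∀ j : Fin 12, ∀ p : Fin 12,
    ((T1 (gv j))⁻¹ * gv * T1 j) p =
      (T2 ((![1, 1, 1, 1, 1, 1, 1, 1, 1, 1, 1, 1] : Fin 12 → Fin 12) j) * T3 ((![0, 0, 0, 0, 0, 0, 0, 0, 0, 0, 0, 0] : Fin 12 → Fin 12) j) * T4 ((![3, 3, 3, 3, 3, 3, 3, 3, 3, 3, 3, 3] : Fin 12 → Fin 12) j) * T5 ((![8, 9, 7, 7, 7, 7, 7, 7, 7, 7, 7, 7] : Fin 12 → Fin 12) j)) p := by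
  decide +kernel

theorem sch1_w : ∀ j : Fin 12, ∀ p : Fin 12,
    ((T1 (gw j))⁻¹ * gw * T1 j) p =
      (T2 ((![1, 1, 1, 1, 1, 1, 1, 1, 1, 1, 1, 1] : Fin 12 → Fin 12) j) * T3 ((![0, 0, 0, 0, 0, 0, 0, 0, 0, 0, 0, 0] : Fin 12 → Fin 12) j) * T4 ((![3, 3, 3, 3, 3, 3, 3, 3, 3, 3, 3, 3] : Fin 12 → Fin 12) j) * T5 ((![9, 8, 10, 6, 6, 6, 6, 6, 6, 6, 6, 6] : Fin 12 → Fin 12) j)) p := by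
  decide +kernel

theorem sch1_x1 : ∀ j : Fin 12, ∀ p : Fin 12,
    ((T1 (gx1 j))⁻¹ * gx1 * T1 j) p =
      (T2 ((![1, 1, 1, 1, 1, 1, 1, 1, 1, 1, 1, 1] : Fin 12 → Fin 12) j) * T3 ((![0, 3, 3, 0, 0, 0, 0, 0, 0, 0, 0, 0] : Fin 12 → Fin 12) j) * T4 ((![3, 3, 3, 3, 5, 4, 11, 10, 9, 7, 6, 8] : Fin 12 → Fin 12) j) * T5 ((![4, 4, 4, 4, 5, 5, 6, 9, 4, 6, 4, 9] : Fin 12 → Fin 12) j)) p := by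
  decide +kernel

theorem sch1_x2 : ∀ j : Fin 12, ∀ p : Fin 12,
    ((T1 (gx2 j))⁻¹ * gx2 * T1 j) p =
      (T2 ((![1, 1, 0, 1, 1, 1, 1, 1, 1, 1, 1, 1] : Fin 12 → Fin 12) j) * T3 ((![0, 0, 0, 3, 3, 3, 3, 3, 3, 3, 3, 3] : Fin 12 → Fin 12) j) * T4 ((![3, 3, 3, 3, 3, 3, 3, 3, 3, 3, 3, 3] : Fin 12 → Fin 12) j) * T5 ((![4, 4, 4, 4, 4, 4, 4, 4, 4, 4, 4, 4] : Fin 12 → Fin 12) j)) p := by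
  decide +kernel

theorem sch1_x3 : ∀ j : Fin 12, ∀ p : Fin 12,
    ((T1 (gx3 j))⁻¹ * gx3 * T1 j) p =
      (T2 ((![0, 1, 1, 0, 0, 0, 0, 0, 0, 0, 0, 0] : Fin 12 → Fin 12) j) * T3 ((![0, 0, 0, 0, 0, 0, 0, 0, 0, 0, 0, 0] : Fin 12 → Fin 12) j) * T4 ((![3, 3, 3, 3, 3, 3, 3, 3, 3, 3, 3, 3] : Fin 12 → Fin 12) j) * T5 ((![4, 4, 4, 4, 4, 4, 4, 4, 4, 4, 4, 4] : Fin 12 → Fin 12) j)) p := by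
  decide +kernel

theorem sch2_s : ∀ j : Fin 12, j ≠ 2 → ((gs j ≠ 2) ∧ (gs⁻¹ j ≠ 2)) ∧
    ∀ p : Fin 12,
    ((T2 (gs j))⁻¹ * gs * T2 j) p =
      (T3 ((![0, 0, 0, 0, 0, 0, 0, 0, 0, 0, 0, 0] : Fin 12 → Fin 12) j) * T4 ((![4, 4, 3, 3, 3, 3, 3, 3, 3, 3, 3, 3] : Fin 12 → Fin 12) j) * T5 ((![4, 4, 4, 4, 4, 4, 4, 4, 4, 4, 4, 4] : Fin 12 → Fin 12) j)) p := by
  decide +kernel

theorem sch2_t : ∀ j : Fin 12, j ≠ 2 → ((gt j ≠ 2) ∧ (gt⁻¹ j ≠ 2)) ∧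
    ∀ p : Fin 12,
    ((T2 (gt j))⁻¹ * gt * T2 j) p =
      (T3 ((![0, 0, 0, 0, 0, 0, 0, 0, 0, 0, 0, 0] : Fin 12 → Fin 12) j) * T4 ((![9, 6, 3, 3, 3, 3, 3, 3, 3, 3, 3, 3] : Fin 12 → Fin 12) j) * T5 ((![4, 4, 4, 4, 4, 4, 4, 4, 4, 4, 4, 4] : Fin 12 → Fin 12) j)) p := by
  decide +kernel

theorem sch2_u : ∀ j : Fin 12, j ≠ 2 → ((gu j ≠ 2) ∧ (gu⁻¹ j ≠ 2)) ∧
    ∀ p : Fin 12,
    ((T2 (gu j))⁻¹ * gu * T2 j) p =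
      (T3 ((![0, 0, 0, 0, 0, 0, 0, 0, 0, 0, 0, 0] : Fin 12 → Fin 12) j) * T4 ((![3, 3, 3, 3, 3, 3, 3, 3, 3, 3, 3, 3] : Fin 12 → Fin 12) j) * T5 ((![9, 6, 4, 10, 10, 10, 10, 10, 10, 10, 10, 10] : Fin 12 → Fin 12) j)) p := by
  decide +kernel

theorem sch2_v : ∀ j : Fin 12, j ≠ 2 → ((gv j ≠ 2) ∧ (gv⁻¹ j ≠ 2)) ∧
    ∀ p : Fin 12,
    ((T2 (gv j))⁻¹ * gv * T2 j) p =
      (T3 ((![0, 0, 0, 0, 0, 0, 0, 0, 0, 0, 0, 0] : Fin 12 → Fin 12) j) * T4 ((![3, 3, 3, 3, 3, 3, 3, 3, 3, 3, 3, 3] : Fin 12 → Fin 12) j) * T5 ((![10, 7, 4, 9, 9, 9, 9, 9, 9, 9, 9, 9] : Fin 12 → Fin 12) j)) p := by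
  decide +kernel

theorem sch2_w : ∀ j : Fin 12, j ≠ 2 → ((gw j ≠ 2) ∧ (gw⁻¹ j ≠ 2)) ∧
    ∀ p : Fin 12,
    ((T2 (gw j))⁻¹ * gw * T2 j) p =
      (T3 ((![0, 0, 0, 0, 0, 0, 0, 0, 0, 0, 0, 0] : Fin 12 → Fin 12) j) * T4 ((![3, 3, 3, 3, 3, 3, 3, 3, 3, 3, 3, 3] : Fin 12 → Fin 12) j) * T5 ((![7, 10, 4, 11, 11, 11, 11, 11, 11, 11, 11, 11] : Fin 12 → Fin 12) j)) p := by
  decide +kernel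

theorem sch2_x1 : ∀ j : Fin 12, j ≠ 2 → ((gx1 j ≠ 2) ∧ (gx1⁻¹ j ≠ 2)) ∧
    ∀ p : Fin 12,
    ((T2 (gx1 j))⁻¹ * gx1 * T2 j) p =
      (T3 ((![0, 3, 0, 0, 0, 0, 0, 0, 0, 0, 0, 0] : Fin 12 → Fin 12) j) * T4 ((![3, 3, 3, 3, 5, 4, 6, 8, 7, 9, 11, 10] : Fin 12 → Fin 12) j) * T5 ((![4, 4, 4, 4, 5, 5, 11, 7, 4, 11, 4, 7] : Fin 12 → Fin 12) j)) p := by
  decide +kernel

theorem sch2_x2 : ∀ j : Fin 12, j ≠ 2 → ((gx2 j ≠ 2) ∧ (gx2⁻¹ j ≠ 2)) ∧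
    ∀ p : Fin 12,
    ((T2 (gx2 j))⁻¹ * gx2 * T2 j) p =
      (T3 ((![0, 0, 0, 3, 3, 3, 3, 3, 3, 3, 3, 3] : Fin 12 → Fin 12) j) * T4 ((![3, 3, 3, 3, 3, 3, 3, 3, 3, 3, 3, 3] : Fin 12 → Fin 12) j) * T5 ((![4, 4, 4, 4, 4, 4, 4, 4, 4, 4, 4, 4] : Fin 12 → Fin 12) j)) p := by
  decide +kernel

theorem sch3_s : ∀ j : Fin 12, j ≠ 2 → j ≠ 1 → ((gs j ≠ 2 ∧ gs j ≠ 1) ∧ (gs⁻¹ j ≠ 2 ∧ gs⁻¹ j ≠ 1)) ∧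
    ∀ p : Fin 12,
    ((T3 (gs j))⁻¹ * gs * T3 j) p =
      (T4 ((![4, 3, 3, 3, 3, 3, 3, 3, 3, 3, 3, 3] : Fin 12 → Fin 12) j) * T5 ((![4, 4, 4, 4, 4, 4, 4, 4, 4, 4, 4, 4] : Fin 12 → Fin 12) j)) p := by
  decide +kernel

theorem sch3_t : ∀ j : Fin 12, j ≠ 2 → j ≠ 1 → ((gt j ≠ 2 ∧ gt j ≠ 1) ∧ (gt⁻¹ j ≠ 2 ∧ gt⁻¹ j ≠ 1)) ∧
    ∀ p : Fin 12,
    ((T3 (gt j))⁻¹ * gt * T3 j) p =
      (T4 ((![6, 3, 3, 3, 3, 3, 3, 3, 3, 3, 3, 3] : Fin 12 → Fin 12) j) * T5 ((![4, 4, 4, 4, 4, 4, 4, 4, 4, 4, 4, 4] : Fin 12 → Fin 12) j)) p := by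
  decide +kernel

theorem sch3_u : ∀ j : Fin 12, j ≠ 2 → j ≠ 1 → ((gu j ≠ 2 ∧ gu j ≠ 1) ∧ (gu⁻¹ j ≠ 2 ∧ gu⁻¹ j ≠ 1)) ∧
    ∀ p : Fin 12,
    ((T3 (gu j))⁻¹ * gu * T3 j) p =
      (T4 ((![3, 3, 3, 3, 3, 3, 3, 3, 3, 3, 3, 3] : Fin 12 → Fin 12) j) * T5 ((![6, 4, 4, 7, 7, 7, 7, 7, 7, 7, 7, 7] : Fin 12 → Fin 12) j)) p := by
  decide +kernel

theorem sch3_v : ∀ j : Fin 12, j ≠ 2 → j ≠ 1 → ((gv j ≠ 2 ∧ gv j ≠ 1) ∧ (gv⁻¹ j ≠ 2 ∧ gv⁻¹ j ≠ 1)) ∧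
    ∀ p : Fin 12,
    ((T3 (gv j))⁻¹ * gv * T3 j) p =
      (T4 ((![3, 3, 3, 3, 3, 3, 3, 3, 3, 3, 3, 3] : Fin 12 → Fin 12) j) * T5 ((![7, 4, 4, 6, 6, 6, 6, 6, 6, 6, 6, 6] : Fin 12 → Fin 12) j)) p := by
  decide +kernel

theorem sch3_w : ∀ j : Fin 12, j ≠ 2 → j ≠ 1 → ((gw j ≠ 2 ∧ gw j ≠ 1) ∧ (gw⁻¹ j ≠ 2 ∧ gw⁻¹ j ≠ 1)) ∧
    ∀ p : Fin 12,
    ((T3 (gw j))⁻¹ * gw * T3 j) p =
      (T4 ((![3, 3, 3, 3, 3, 3, 3, 3, 3, 3, 3, 3] : Fin 12 → Fin 12) j) * T5 ((![10, 4, 4, 8, 8, 8, 8, 8, 8, 8, 8, 8] : Fin 12 → Fin 12) j)) p := by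
  decide +kernel

theorem sch3_x1 : ∀ j : Fin 12, j ≠ 2 → j ≠ 1 → ((gx1 j ≠ 2 ∧ gx1 j ≠ 1) ∧ (gx1⁻¹ j ≠ 2 ∧ gx1⁻¹ j ≠ 1)) ∧
    ∀ p : Fin 12,
    ((T3 (gx1 j))⁻¹ * gx1 * T3 j) p =
      (T4 ((![3, 3, 3, 3, 5, 4, 9, 11, 10, 6, 8, 7] : Fin 12 → Fin 12) j) * T5 ((![4, 4, 4, 4, 5, 5, 8, 10, 4, 8, 4, 10] : Fin 12 → Fin 12) j)) p := by
  decide +kernel

theorem sch4_s : ∀ j : Fin 12, j ≠ 2 → j ≠ 1 → j ≠ 0 → ((gs j ≠ 2 ∧ gs j ≠ 1 ∧ gs j ≠ 0) ∧ (gs⁻¹ j ≠ 2 ∧ gs⁻¹ j ≠ 1 ∧ gs⁻¹ j ≠ 0)) ∧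
    ∀ p : Fin 12,
    ((T4 (gs j))⁻¹ * gs * T4 j) p =
      (T5 ((![4, 4, 4, 4, 4, 4, 4, 4, 4, 4, 4, 4] : Fin 12 → Fin 12) j)) p := by
  decide +kernel

theorem sch4_t : ∀ j : Fin 12, j ≠ 2 → j ≠ 1 → j ≠ 0 → ((gt j ≠ 2 ∧ gt j ≠ 1 ∧ gt j ≠ 0) ∧ (gt⁻¹ j ≠ 2 ∧ gt⁻¹ j ≠ 1 ∧ gt⁻¹ j ≠ 0)) ∧
    ∀ p : Fin 12,
    ((T4 (gt j))⁻¹ * gt * T4 j) p =
      (T5 ((![4, 4, 4, 4, 4, 4, 4, 4, 4, 4, 4, 4] : Fin 12 → Fin 12) j)) p := by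
  decide +kernel

theorem sch4_u : ∀ j : Fin 12, j ≠ 2 → j ≠ 1 → j ≠ 0 → ((gu j ≠ 2 ∧ gu j ≠ 1 ∧ gu j ≠ 0) ∧ (gu⁻¹ j ≠ 2 ∧ gu⁻¹ j ≠ 1 ∧ gu⁻¹ j ≠ 0)) ∧
    ∀ p : Fin 12,
    ((T4 (gu j))⁻¹ * gu * T4 j) p =
      (T5 ((![4, 4, 4, 6, 6, 6, 6, 6, 6, 6, 6, 6] : Fin 12 → Fin 12) j)) p := by
  decide +kernel

theorem sch4_v : ∀ j : Fin 12, j ≠ 2 → j ≠ 1 → j ≠ 0 → ((gv j ≠ 2 ∧ gv j ≠ 1 ∧ gv j ≠ 0) ∧ (gv⁻¹ j ≠ 2 ∧ gv⁻¹ j ≠ 1 ∧ gv⁻¹ j ≠ 0)) ∧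
    ∀ p : Fin 12,
    ((T4 (gv j))⁻¹ * gv * T4 j) p =
      (T5 ((![4, 4, 4, 7, 7, 7, 7, 7, 7, 7, 7, 7] : Fin 12 → Fin 12) j)) p := by
  decide +kernel

theorem sch4_w : ∀ j : Fin 12, j ≠ 2 → j ≠ 1 → j ≠ 0 → ((gw j ≠ 2 ∧ gw j ≠ 1 ∧ gw j ≠ 0) ∧ (gw⁻¹ j ≠ 2 ∧ gw⁻¹ j ≠ 1 ∧ gw⁻¹ j ≠ 0)) ∧
    ∀ p : Fin 12,
    ((T4 (gw j))⁻¹ * gw * T4 j) p =
      (T5 ((![4, 4, 4, 10, 10, 10, 10, 10, 10, 10, 10, 10] : Fin 12 → Fin 12) j)) p := by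
  decide +kernel

theorem sch5_u : ∀ j : Fin 12, j ≠ 2 → j ≠ 1 → j ≠ 0 → j ≠ 3 → ((gu j ≠ 2 ∧ gu j ≠ 1 ∧ gu j ≠ 0 ∧ gu j ≠ 3) ∧ (gu⁻¹ j ≠ 2 ∧ gu⁻¹ j ≠ 1 ∧ gu⁻¹ j ≠ 0 ∧ gu⁻¹ j ≠ 3)) ∧
    ∀ p : Fin 12,
    ((T5 (gu j))⁻¹ * gu * T5 j) p =
      ((1 : P)) p := by
  decide +kernel

theorem sch5_v : ∀ j : Fin 12, j ≠ 2 → j ≠ 1 → j ≠ 0 → j ≠ 3 → ((gv j ≠ 2 ∧ gv j ≠ 1 ∧ gv j ≠ 0 ∧ gv j ≠ 3) ∧ (gv⁻¹ j ≠ 2 ∧ gv⁻¹ j ≠ 1 ∧ gv⁻¹ j ≠ 0 ∧ gv⁻¹ j ≠ 3)) ∧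
    ∀ p : Fin 12,
    ((T5 (gv j))⁻¹ * gv * T5 j) p =
      ((1 : P)) p := by
  decide +kernel

theorem sch5_w : ∀ j : Fin 12, j ≠ 2 → j ≠ 1 → j ≠ 0 → j ≠ 3 → ((gw j ≠ 2 ∧ gw j ≠ 1 ∧ gw j ≠ 0 ∧ gw j ≠ 3) ∧ (gw⁻¹ j ≠ 2 ∧ gw⁻¹ j ≠ 1 ∧ gw⁻¹ j ≠ 0 ∧ gw⁻¹ j ≠ 3)) ∧
    ∀ p : Fin 12,
    ((T5 (gw j))⁻¹ * gw * T5 j) p =
      ((1 : P)) p := by
  decide +kernel

end Cfsg.Agent.Lib.Helper1.M12x
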