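import Mathlib
import Cfsg.Agent.Lib.Helper1.GLn

set_option autoImplicit false

namespace Cfsg.Agent.Lib.Helper1.PermEmb

open Cfsg.Agent.Lib.Helper1.GLn

theorem iso_perm_of_embedding {G : Type*} [Group G] [Finite G] {X : Type*} [Finite X] (n : ℕ)
    (hX : Nat.card X = n) (f : G →* Equiv.Perm X) (hf : Function.Injective f)
    (hG : Nat.card G = n.factorial) : Nonempty (G ≃* Equiv.Perm (Fin n)) := by
  classical
  have e : X ≃ Fin n := Finite.equivFinOfCardEq hX
  have hbij : Function.Bijective f := by
    apply hf.bijective_of_nat_card_le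
    rw [Nat.card_perm, hX, hG]
  exact ⟨(MulEquiv.ofBijective f hbij).trans (Equiv.permCongrHom e)⟩

theorem iso_alt_of_embedding {G : Type*} [Group G] [Finite G] {X : Type*} [Finite X] (n : ℕ)
    (hX : Nat.card X = n) (f : G →* Equiv.Perm X) (hf : Function.Injective f)
    (hG : 2 * Nat.card G = n.factorial) : Nonempty (G ≃* alternatingGroup (Fin n)) := by
  classical
  have e : X ≃ Fin n := Finite.equivFinOfCardEq hX
  have hf' : Function.Injective ((Equiv.permCongrHom e).toMonoidHom.comp f) :=
    (Equiv.permCongrHom e).injective.comp hf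
  have hidx : ((Equiv.permCongrHom e).toMonoidHom.comp f).range.index = 2 := by
    have h1 : Nat.card ((Equiv.permCongrHom e).toMonoidHom.comp f).range = Nat.card G :=
      (Nat.card_congr (MonoidHom.ofInjective hf').toEquiv).symm
    have h2 := Subgroup.card_mul_index ((Equiv.permCongrHom e).toMonoidHom.comp f).range
    rw [h1, Nat.card_perm, Nat.card_fin, ← hG, mul_comm 2] at h2
    have hpos : 0 < Nat.card G := Nat.card_pos
    exact Nat.eq_of_mul_eq_mul_left hpos h2
  have heq := Equiv.Perm.eq_alternatingGroup_of_index_eq_two hidx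
  exact ⟨(MonoidHom.ofInjective hf').trans (MulEquiv.subgroupCongr heq)⟩

theorem card_proj_line {F : Type*} [Field F] [Fintype F] :
    Nat.card (Projectivization F (Fin 2 → F)) = Fintype.card F + 1 := by
  rw [Projectivization.card_of_finrank_two F (Fin 2 → F) (Module.finrank_fin_fun F),
    Nat.card_eq_fintype_card]

theorem card_PSL2 {F : Type*} [Field F] [Fintype F] {q : ℕ} (hF : Fintype.card F = q) :
    Nat.gcd 2 (q - 1) * ((q - 1) *
      Nat.card (Matrix.ProjectiveSpecialLinearGroup (Fin 2) F)) = (q ^ 2 - 1) * (q ^ 2 - q) := by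
  subst hF
  have h := card_PSL_formula (F := F) 2 (by norm_num)
  rw [Fin.prod_univ_two] at h
  simpa using h

theorem finite_PSL2 {F : Type*} [Field F] [Fintype F] :
    Finite (Matrix.ProjectiveSpecialLinearGroup (Fin 2) F) := by
  classical
  unfold Matrix.ProjectiveSpecialLinearGroup
  infer_instance

theorem PSL2_3_iso_A4 {F : Type*} [Field F] [Fintype F] (hF : Fintype.card F = 3) :
    Nonempty (Matrix.ProjectiveSpecialLinearGroup (Fin 2) F ≃* alternatingGroup (Fin 4)) := by
  haveI := finite_PSL2 (F := F)
  have hc := card_PSL2 hF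
  have hN : Nat.card (Matrix.ProjectiveSpecialLinearGroup (Fin 2) F) = 12 := by
    norm_num at hc
    omega
  haveI : Finite (Projectivization F (Fin 2 → F)) := by
    apply Nat.finite_of_card_ne_zero
    rw [card_proj_line]
    omega
  exact iso_alt_of_embedding 4 (by rw [card_proj_line, hF]) Projectivization.PSLAction.toPermHom
    Matrix.ProjectiveSpecialLinearGroup.toPermHom_injective (by rw [hN]; decide)

theorem PSL2_4_iso_A5 {F : Type*} [Field F] [Fintype F] (hF : Fintype.card F = 4) :
    Nonempty (Matrix.ProjectiveSpecialLinearGroup (Fin 2) F ≃* alternatingGroup (Fin 5)) := by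
  haveI := finite_PSL2 (F := F)
  have hc := card_PSL2 hF
  have hN : Nat.card (Matrix.ProjectiveSpecialLinearGroup (Fin 2) F) = 60 := by
    norm_num at hc
    omega
  haveI : Finite (Projectivization F (Fin 2 → F)) := by
    apply Nat.finite_of_card_ne_zero
    rw [card_proj_line]
    omega
  exact iso_alt_of_embedding 5 (by rw [card_proj_line, hF]) Projectivization.PSLAction.toPermHom
    Matrix.ProjectiveSpecialLinearGroup.toPermHom_injective (by rw [hN]; decide)

theorem SL2_2_iso_S3 {F : Type*} [Field F] [Fintype F] (hF : Fintype.card F = 2) :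
    Nonempty (Matrix.SpecialLinearGroup (Fin 2) F ≃* Equiv.Perm (Fin 3)) := by
  classical
  have hc := card_SL_formula (F := F) 2 (by norm_num)
  rw [Fin.prod_univ_two, hF] at hc
  have hN : Nat.card (Matrix.SpecialLinearGroup (Fin 2) F) = 6 := by
    simp only [Fin.val_zero, Fin.val_one, pow_zero, pow_one] at hc
    omega
  haveI : Finite (Projectivization F (Fin 2 → F)) := by
    apply Nat.finite_of_card_ne_zero
    rw [card_proj_line]
    omega
  have hcen : Subgroup.center (Matrix.SpecialLinearGroup (Fin 2) F) = ⊥ := by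
    rw [← Subgroup.card_eq_one, card_center_SL 2 (by norm_num), hF]
    decide
  have hinj : Function.Injective
      (MulAction.toPermHom (Matrix.SpecialLinearGroup (Fin 2) F)
        (Projectivization F (Fin 2 → F))) := by
    rw [← MonoidHom.ker_eq_bot_iff, Projectivization.SL_mulAction_ker, hcen]
  exact iso_perm_of_embedding 3 (by rw [card_proj_line, hF]) _ hinj (by rw [hN]; decide)

end Cfsg.Agent.Lib.Helper1.PermEmb
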