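import Mathlib
import Cfsg.Agent.Lib.Helper1.GLn
import Cfsg.Agent.Lib.Helper1.PermEmb
import Cfsg.Agent.Lib.Helper1.Quat
import Cfsg.Agent.S0268

set_option autoImplicit false

namespace Cfsg.Agent.Lib.Helper1.SL23

open Cfsg.Agent.Lib.Helper1.GLn Cfsg.Agent.Lib.Helper1.PermEmb Cfsg.Agent.Lib.Helper1.Quat

theorem zpow_of_sq_one {G : Type*} [Group G] (w : G) (hw : w * w = 1) (k : ℤ) :
    w ^ k = 1 ∨ w ^ k = w := by
  rcases Int.even_or_odd' k with ⟨j, hj | hj⟩
  · left
    rw [hj, zpow_mul, zpow_two, hw, one_zpow]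
  · right
    rw [hj, zpow_add, zpow_mul, zpow_two, hw, one_zpow, one_mul, zpow_one]

theorem SL2_3_structure {F : Type*} [Field F] [Fintype F] (hF : Fintype.card F = 3) :
    (∃ Q : Subgroup (Matrix.SpecialLinearGroup (Fin 2) F), Q.Normal ∧ Q.index = 3 ∧
      Nonempty (Q ≃* QuaternionGroup 2)) ∧
    Nat.card (Subgroup.center (Matrix.SpecialLinearGroup (Fin 2) F)) = 2 := by
  classical
  haveI : Fact (Nat.Prime 2) := ⟨Nat.prime_two⟩
  have hcen : Nat.card (Subgroup.center (Matrix.SpecialLinearGroup (Fin 2) F)) = 2 := by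
    rw [card_center_SL 2 (by norm_num), hF]
    decide
  refine ⟨?_, hcen⟩
  obtain ⟨e⟩ := PSL2_3_iso_A4 hF
  have h4 : Nat.card (Fin 4) = 4 := by simp
  have hKn := alternatingGroup.normal_kleinFour (α := Fin 4) h4
  have hKK := alternatingGroup.kleinFour_isKleinFour (α := Fin 4) h4
  obtain ⟨V, hV⟩ : ∃ V : Subgroup (Matrix.ProjectiveSpecialLinearGroup (Fin 2) F),
      V = (alternatingGroup.kleinFour (Fin 4)).comap e.toMonoidHom := ⟨_, rfl⟩
  obtain ⟨Q, hQ⟩ : ∃ Q : Subgroup (Matrix.SpecialLinearGroup (Fin 2) F),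
      Q = V.comap (QuotientGroup.mk' (Subgroup.center (Matrix.SpecialLinearGroup (Fin 2) F))) :=
    ⟨_, rfl⟩
  have hVn : V.Normal := by
    rw [hV]
    exact hKn.comap _
  have hQn : Q.Normal := by
    rw [hQ]
    exact hVn.comap _
  have hA4 : Nat.card (alternatingGroup (Fin 4)) = 12 := by
    have h2 := two_mul_nat_card_alternatingGroup (α := Fin 4)
    rw [Nat.card_perm, Nat.card_fin] at h2
    have h3 : Nat.factorial 4 = 24 := by decide
    omega
  have hVidx : V.index = 3 := by
    rw [hV]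
    have h0 : ((alternatingGroup.kleinFour (Fin 4)).comap e.toMonoidHom).index =
        (alternatingGroup.kleinFour (Fin 4)).index :=
      Subgroup.index_comap_of_surjective _ e.surjective
    rw [h0]
    have h1 := Subgroup.index_mul_card (alternatingGroup.kleinFour (Fin 4))
    rw [alternatingGroup.kleinFour_card_of_card_eq_four h4, hA4] at h1
    omega
  have hQidx : Q.index = 3 := by
    rw [hQ, Subgroup.index_comap_of_surjective _ (QuotientGroup.mk'_surjective _)]
    exact hVidx
  have hSL : Nat.card (Matrix.SpecialLinearGroup (Fin 2) F) = 24 := by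
    have hc := card_SL_formula (F := F) 2 (by norm_num)
    rw [Fin.prod_univ_two, hF] at hc
    simp only [Fin.val_zero, Fin.val_one, pow_zero, pow_one] at hc
    omega
  haveI : Finite (Matrix.SpecialLinearGroup (Fin 2) F) :=
    Nat.finite_of_card_ne_zero (by rw [hSL]; norm_num)
  have hQcard : Nat.card Q = 8 := by
    have h1 := Subgroup.index_mul_card Q
    rw [hQidx, hSL] at h1
    omega
  refine ⟨Q, hQn, hQidx, ?_⟩
  have hodd : Odd (Fintype.card F) := by
    rw [hF]
    decide
  obtain ⟨z, hzord⟩ := exists_prime_orderOf_dvd_card' (G := Q) 2 (by rw [hQcard]; norm_num)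
  have hz1 : z ≠ 1 := by
    intro h
    rw [h, orderOf_one] at hzord
    norm_num at hzord
  have hzz : z * z = 1 := by
    have h1 := pow_orderOf_eq_one z
    rw [hzord, sq] at h1
    exact h1
  have huniq : ∀ g : Q, g ≠ 1 → g * g = 1 → g = z := by
    intro g hg1 hgg
    have h1 := Cfsg.Agent.S0268.result hodd (g : Matrix.SpecialLinearGroup (Fin 2) F)
      (fun h => hg1 (Subtype.ext h)) (congrArg Subtype.val hgg)
    have h2 := Cfsg.Agent.S0268.result hodd (z : Matrix.SpecialLinearGroup (Fin 2) F)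
      (fun h => hz1 (Subtype.ext h)) (congrArg Subtype.val hzz)
    apply Subtype.ext
    apply Subtype.ext
    rw [h1, h2]
  apply q8_of_unique_involution hQcard z huniq
  intro hcyc
  obtain ⟨g, hg⟩ := IsCyclic.exists_generator (α := Q)
  have hmemQ : ∀ s : Matrix.SpecialLinearGroup (Fin 2) F, s ∈ Q ↔
      QuotientGroup.mk' (Subgroup.center (Matrix.SpecialLinearGroup (Fin 2) F)) s ∈ V := by
    intro s
    rw [hQ]
    rfl
  have hgV : QuotientGroup.mk' (Subgroup.center (Matrix.SpecialLinearGroup (Fin 2) F))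
      (g : Matrix.SpecialLinearGroup (Fin 2) F) ∈ V := (hmemQ _).mp g.2
  have hsqV : ∀ v ∈ V, v * v = 1 := by
    intro v hv
    rw [hV] at hv
    have h1 : (⟨e v, hv⟩ : alternatingGroup.kleinFour (Fin 4)) * ⟨e v, hv⟩ = 1 :=
      IsKleinFour.mul_self _
    have h2 : e v * e v = 1 := congrArg Subtype.val h1
    rw [← map_mul] at h2
    exact e.injective (h2.trans (map_one e).symm)
  have hsub : (V : Set (Matrix.ProjectiveSpecialLinearGroup (Fin 2) F)) ⊆
      {1, QuotientGroup.mk' (Subgroup.center (Matrix.SpecialLinearGroup (Fin 2) F))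
        (g : Matrix.SpecialLinearGroup (Fin 2) F)} := by
    intro v hv
    obtain ⟨s, rfl⟩ := QuotientGroup.mk'_surjective
      (Subgroup.center (Matrix.SpecialLinearGroup (Fin 2) F)) v
    have hsQ : s ∈ Q := (hmemQ s).mpr hv
    have h1 := hg ⟨s, hsQ⟩
    rw [Subgroup.mem_zpowers_iff] at h1
    obtain ⟨k, hk⟩ := h1
    have h2 : s = (g : Matrix.SpecialLinearGroup (Fin 2) F) ^ k := by
      have h3 := congrArg Subtype.val hk
      simpa using h3.symm
    rw [h2, map_zpow]
    rcases zpow_of_sq_one _ (hsqV _ hgV) k with h5 | h5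
    · rw [h5]
      exact Set.mem_insert _ _
    · rw [h5]
      exact Set.mem_insert_of_mem _ rfl
  have hVcard : Nat.card V = 4 := by
    have h1 := Subgroup.index_mul_card V
    have h2 := card_PSL2 hF
    have h3 : Nat.gcd 2 (3 - 1) = 2 := by decide
    rw [h3] at h2
    rw [hVidx] at h1
    omega
  have hle : Nat.card V ≤ 2 := by
    have h1 : Nat.card V = (V : Set (Matrix.ProjectiveSpecialLinearGroup (Fin 2) F)).ncard :=
      Nat.card_coe_set_eq _
    rw [h1]
    calc (V : Set (Matrix.ProjectiveSpecialLinearGroup (Fin 2) F)).ncard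
        ≤ ({1, QuotientGroup.mk' (Subgroup.center (Matrix.SpecialLinearGroup (Fin 2) F))
            (g : Matrix.SpecialLinearGroup (Fin 2) F)} :
            Set (Matrix.ProjectiveSpecialLinearGroup (Fin 2) F)).ncard :=
          Set.ncard_le_ncard hsub (Set.toFinite _)
      _ ≤ 2 := by
          refine (Set.ncard_insert_le _ _).trans ?_
          rw [Set.ncard_singleton]
  omega

end Cfsg.Agent.Lib.Helper1.SL23
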