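import Mathlib
import Cfsg.Agent.Lib.Helper1.UniqP
import Cfsg.Agent.Lib.Helper1.Quat
import Cfsg.Agent.Lib.Helper1.SL23

namespace Cfsg.Agent.Lib.Helper1.MaxCl

open Subgroup

universe u

noncomputable def dihHom {G : Type*} [Group G] (m : ℕ) (α β : G) (h : α ^ m = 1)
    (hb : β * β = 1) (hc : β * α * β⁻¹ = α⁻¹) : DihedralGroup m →* G :=
  MonoidHom.mk' (fun x => match x with
    | DihedralGroup.r i => Quat.qp m α h i
    | DihedralGroup.sr i => β * Quat.qp m α h i) (by
    rintro (i | i) (j | j)
    · show Quat.qp m α h (i + j) = Quat.qp m α h i * Quat.qp m α h j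
      exact Quat.qp_add _ _ _ _ _
    · show β * Quat.qp m α h (j - i) = Quat.qp m α h i * (β * Quat.qp m α h j)
      rw [← mul_assoc, Quat.qp_swap m α β h hc i, sub_eq_neg_add, Quat.qp_add, Quat.qp_neg,
        mul_assoc]
    · show β * Quat.qp m α h (i + j) = β * Quat.qp m α h i * Quat.qp m α h j
      rw [Quat.qp_add, mul_assoc]
    · show Quat.qp m α h (j - i) = β * Quat.qp m α h i * (β * Quat.qp m α h j)
      rw [sub_eq_neg_add, Quat.qp_add, Quat.qp_neg]
      calc (Quat.qp m α h i)⁻¹ * Quat.qp m α h j
          = β * β * ((Quat.qp m α h i)⁻¹ * Quat.qp m α h j) := by rw [hb, one_mul]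
        _ = β * (β * (Quat.qp m α h i)⁻¹) * Quat.qp m α h j := by group
        _ = β * (Quat.qp m α h i * β) * Quat.qp m α h j := by
            rw [Quat.qp_swap m α β h hc i]
        _ = β * Quat.qp m α h i * (β * Quat.qp m α h j) := by group)

theorem dih_recognize {G : Type*} [Group G] [Finite G] (m : ℕ) [NeZero m] (α β : G)
    (h : α ^ m = 1) (hb : β * β = 1) (hc : β * α * β⁻¹ = α⁻¹) (hcard : Nat.card G = 2 * m)
    (hgen : ∀ g : G, g ∈ zpowers α ∨ β⁻¹ * g ∈ zpowers α) :
    Nonempty (G ≃* DihedralGroup m) := by
  have hsurj : Function.Surjective (dihHom m α β h hb hc) := by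
    intro g
    rcases hgen g with hg | hg
    · obtain ⟨k, hk⟩ := Subgroup.mem_zpowers_iff.1 hg
      refine ⟨DihedralGroup.r (k : ZMod m), ?_⟩
      show Quat.qp m α h (k : ZMod m) = g
      rw [Quat.qp_intCast, hk]
    · obtain ⟨k, hk⟩ := Subgroup.mem_zpowers_iff.1 hg
      refine ⟨DihedralGroup.sr (k : ZMod m), ?_⟩
      show β * Quat.qp m α h (k : ZMod m) = g
      rw [Quat.qp_intCast, hk]
      group
  have hbij : Function.Bijective (dihHom m α β h hb hc) := by
    apply hsurj.bijective_of_nat_card_le
    rw [hcard, DihedralGroup.nat_card]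
  exact ⟨(MulEquiv.ofBijective _ hbij).symm⟩

section basics

variable {G : Type*} [Group G]

theorem class_le_one_of_comm (h : ∀ a b : G, a * b = b * a) : Group.nilpotencyClass G ≤ 1 := by
  have hZ : center G = ⊤ := by
    rw [eq_top_iff]
    intro g _
    rw [Subgroup.mem_center_iff]
    intro x
    exact h x g
  have h1 := Group.nilpotencyClass_quotient_center (G := G)
  have h2 : Subsingleton (G ⧸ center G) := by
    rw [hZ]
    exact QuotientGroup.subsingleton_quotient_top
  have h3 : Group.nilpotencyClass (G ⧸ center G) = 0 :=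
    Group.nilpotencyClass_zero_iff_subsingleton.2 h2
  omega

theorem comm_of_class_le_one [Group.IsNilpotent G] (h : Group.nilpotencyClass G ≤ 1) (a b : G) :
    a * b = b * a := by
  have h1 := (Subgroup.upperCentralSeries_eq_top_iff_nilpotencyClass_le (G := G) (n := 1)).2 h
  rw [Subgroup.upperCentralSeries_one] at h1
  have : b ∈ center G := by
    rw [h1]
    exact mem_top b
  exact (Subgroup.mem_center_iff.1 this a)

theorem comm_of_cyclic_quot (N : Subgroup G) [N.Normal] (hN : N ≤ center G) [IsCyclic (G ⧸ N)]
    (a b : G) : a * b = b * a :=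
  ((QuotientGroup.mk' N).isMulCommutative_of_isCyclic_of_ker_le_center
    (by rw [QuotientGroup.ker_mk']; exact hN)).is_comm.comm a b

theorem comm_of_sq (hsq : ∀ x : G, x * x = 1) (a b : G) : a * b = b * a := by
  calc a * b = (a * b)⁻¹ := (inv_eq_of_mul_eq_one_right (hsq (a * b))).symm
    _ = b⁻¹ * a⁻¹ := mul_inv_rev a b
    _ = b * a := by rw [inv_eq_of_mul_eq_one_right (hsq a), inv_eq_of_mul_eq_one_right (hsq b)]

end basics

theorem class_le {p : ℕ} [Fact p.Prime] : ∀ (m : ℕ) (G : Type u) [Group G] [Finite G],
    Nat.card G = p ^ m → 2 ≤ m → Group.nilpotencyClass G ≤ m - 1 := by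
  intro m
  induction m using Nat.strong_induction_on with
  | _ m ih =>
    intro G _ _ hG hm
    have hp : p.Prime := Fact.out
    by_cases hab : ∀ a b : G, a * b = b * a
    · have := class_le_one_of_comm hab
      omega
    · have hGp : IsPGroup p G := IsPGroup.of_card hG
      haveI : Nontrivial G := by
        rw [← Finite.one_lt_card_iff_nontrivial, hG]
        exact Nat.one_lt_pow (by omega) hp.one_lt
      haveI := IsPGroup.center_nontrivial hGp
      obtain ⟨z, hz, hZ⟩ := (Nat.dvd_prime_pow hp).1
        (hG ▸ Subgroup.card_subgroup_dvd_card (center G))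
      have hz1 : 1 ≤ z := by
        by_contra hcon
        have h0 : z = 0 := by omega
        rw [h0, pow_zero] at hZ
        exact (Subgroup.nontrivial_iff_ne_bot _).1 inferInstance (Subgroup.eq_bot_of_card_eq _ hZ)
      have hq : Nat.card (G ⧸ center G) = p ^ (m - z) := by
        have h1 := Subgroup.card_eq_card_quotient_mul_card_subgroup (center G)
        rw [hG, hZ] at h1
        have h2 : p ^ m = p ^ (m - z) * p ^ z := by
          rw [← pow_add]
          congr 1
          omega
        rw [h2] at h1
        exact (Nat.eq_of_mul_eq_mul_right (pow_pos hp.pos z) h1).symm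
      have hmz : 2 ≤ m - z := by
        by_contra hcon
        apply hab
        haveI : IsCyclic (G ⧸ center G) := by
          have h01 : m - z = 0 ∨ m - z = 1 := by omega
          rcases h01 with h0 | h1
          · rw [h0, pow_zero] at hq
            haveI := (Nat.card_eq_one_iff_unique.1 hq).1
            exact isCyclic_of_subsingleton
          · rw [h1, pow_one] at hq
            exact isCyclic_of_prime_card hq
        exact comm_of_cyclic_quot (center G) le_rfl
      have h3 := ih (m - z) (by omega) (G ⧸ center G) hq hmz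
      have h4 := Group.nilpotencyClass_quotient_center (G := G)
      omega

theorem card_center {X : Type u} [Group X] [Finite X] (n : ℕ) (hn : 3 ≤ n)
    (hX : Nat.card X = 2 ^ n) (hc : Group.nilpotencyClass X = n - 1) :
    Nat.card (center X) = 2 ∧ Nat.card (X ⧸ center X) = 2 ^ (n - 1) ∧
      Group.nilpotencyClass (X ⧸ center X) = n - 2 := by
  haveI : Fact (Nat.Prime 2) := ⟨Nat.prime_two⟩
  have hXp : IsPGroup 2 X := IsPGroup.of_card hX
  haveI : Nontrivial X := by
    rw [← Finite.one_lt_card_iff_nontrivial, hX]
    exact Nat.one_lt_pow (by omega) (by norm_num)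
  haveI := IsPGroup.center_nontrivial hXp
  obtain ⟨z, hz, hZ⟩ := (Nat.dvd_prime_pow Nat.prime_two).1
    (hX ▸ Subgroup.card_subgroup_dvd_card (center X))
  have hz1 : 1 ≤ z := by
    by_contra hcon
    have h0 : z = 0 := by omega
    rw [h0, pow_zero] at hZ
    exact (Subgroup.nontrivial_iff_ne_bot _).1 inferInstance (Subgroup.eq_bot_of_card_eq _ hZ)
  have hq : Nat.card (X ⧸ center X) = 2 ^ (n - z) := by
    have h1 := Subgroup.card_eq_card_quotient_mul_card_subgroup (center X)
    rw [hX, hZ] at h1
    have h2 : 2 ^ n = 2 ^ (n - z) * 2 ^ z := by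
      rw [← pow_add]
      congr 1
      omega
    rw [h2] at h1
    exact (Nat.eq_of_mul_eq_mul_right (pow_pos (by norm_num) z) h1).symm
  have h4 := Group.nilpotencyClass_quotient_center (G := X)
  have hz' : z = 1 := by
    by_cases hmz : 2 ≤ n - z
    · have := class_le (p := 2) (n - z) (X ⧸ center X) hq hmz
      omega
    · exfalso
      haveI : IsCyclic (X ⧸ center X) := by
        have h01 : n - z = 0 ∨ n - z = 1 := by omega
        rcases h01 with h0 | h1
        · rw [h0, pow_zero] at hq
          haveI := (Nat.card_eq_one_iff_unique.1 hq).1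
          exact isCyclic_of_subsingleton
        · rw [h1, pow_one] at hq
          exact isCyclic_of_prime_card hq
      have := class_le_one_of_comm (comm_of_cyclic_quot (center X) le_rfl)
      omega
  subst hz'
  refine ⟨by simpa using hZ, hq, by omega⟩

theorem order8_elt4 {X : Type*} [Group X] [Finite X] (hX : Nat.card X = 8)
    (hnc : ¬ ∀ a b : X, a * b = b * a) : ∃ x : X, orderOf x = 4 := by
  by_contra hcon
  simp only [not_exists] at hcon
  apply hnc
  apply comm_of_sq
  intro x
  have hd : orderOf x ∣ 8 := hX ▸ orderOf_dvd_natCard x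
  have h8 : orderOf x ≠ 8 := by
    intro h
    apply hnc
    haveI := isCyclic_of_orderOf_eq_card x (h.trans hX.symm)
    intro a b
    exact (IsCyclic.commGroup (α := X)).mul_comm a b
  have h4 := hcon x
  have h12 : orderOf x = 1 ∨ orderOf x = 2 := by
    have hle : orderOf x ≤ 8 := Nat.le_of_dvd (by norm_num) hd
    have hpos : 0 < orderOf x := Nat.pos_of_dvd_of_pos hd (by norm_num)
    interval_cases h : orderOf x <;> simp_all
  rcases h12 with h | h
  · rw [orderOf_eq_one_iff] at h
    rw [h, one_mul]
  · have := pow_orderOf_eq_one x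
    rw [h, pow_two] at this
    exact this

theorem exists_cyclic_index_two : ∀ (n : ℕ) (X : Type u) [Group X] [Finite X], 3 ≤ n →
    Nat.card X = 2 ^ n → Group.nilpotencyClass X = n - 1 →
    ∃ C : Subgroup X, IsCyclic C ∧ C.index = 2 := by
  intro n
  induction n with
  | zero =>
    intro X _ _ hn
    omega
  | succ k ih =>
    intro X _ _ hn hX hc
    haveI : Fact (Nat.Prime 2) := ⟨Nat.prime_two⟩
    have hXp : IsPGroup 2 X := IsPGroup.of_card hX
    have hnc : ¬ ∀ a b : X, a * b = b * a := by
      intro h
      have := class_le_one_of_comm h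
      omega
    by_cases hk : k = 2
    · subst hk
      obtain ⟨x, hx⟩ := order8_elt4 (by rw [hX]; norm_num) hnc
      refine ⟨zpowers x, inferInstance, ?_⟩
      have h1 := Subgroup.card_mul_index (zpowers x)
      rw [Nat.card_zpowers, hx, hX] at h1
      norm_num at h1
      omega
    · have hk3 : 3 ≤ k := by omega
      obtain ⟨hZ2, hYc, hYcl⟩ := card_center (k + 1) hn hX hc
      obtain ⟨Cb, hCbc, hCbi⟩ := ih (X ⧸ center X) hk3 (by simpa using hYc)
        (by rw [hYcl]; omega)
      haveI := hCbc
      obtain ⟨⟨yb, hyb⟩, hgen⟩ := IsCyclic.exists_generator (α := Cb)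
      obtain ⟨c, rfl⟩ := QuotientGroup.mk_surjective yb
      have hCi : (Cb.comap (QuotientGroup.mk' (center X))).index = 2 := by
        rw [Subgroup.index_comap_of_surjective _ (QuotientGroup.mk'_surjective _)]
        exact hCbi
      have hcC : c ∈ Cb.comap (QuotientGroup.mk' (center X)) := hyb
      have hdec : ∀ x ∈ Cb.comap (QuotientGroup.mk' (center X)),
          ∃ (i : ℤ) (z' : X), z' ∈ center X ∧ x = c ^ i * z' := by
        intro x hx
        have h1 := hgen ⟨QuotientGroup.mk x, hx⟩
        obtain ⟨i, hi⟩ := Subgroup.mem_zpowers_iff.1 h1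
        have h2 : (QuotientGroup.mk c : X ⧸ center X) ^ i = QuotientGroup.mk x := by
          have := congrArg Subtype.val hi
          simpa using this
        rw [← QuotientGroup.mk_zpow] at h2
        have h3 := QuotientGroup.eq.1 h2
        exact ⟨i, (c ^ i)⁻¹ * x, h3, by group⟩
      obtain ⟨⟨z, hzZ⟩, hz1, hzu⟩ := (Nat.card_eq_two_iff' (1 : center X)).1 hZ2
      have hz1' : z ≠ 1 := fun h => hz1 (Subtype.ext h)
      have hZel : ∀ w ∈ center X, w = 1 ∨ w = z := by
        intro w hw
        by_cases h : w = 1
        · exact Or.inl h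
        · right
          have := hzu ⟨w, hw⟩ (fun h' => h (congrArg Subtype.val h'))
          exact congrArg Subtype.val this
      have hZsq : ∀ w ∈ center X, w * w = 1 := by
        intro w hw
        have hd : orderOf (⟨w, hw⟩ : center X) ∣ 2 := hZ2 ▸ orderOf_dvd_natCard _
        have h2 := orderOf_dvd_iff_pow_eq_one.1 hd
        have := congrArg Subtype.val h2
        simpa [pow_two] using this
      by_cases hzc : z ∈ zpowers c
      · have hCeq : Cb.comap (QuotientGroup.mk' (center X)) = zpowers c := by
          apply le_antisymm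
          · intro x hx
            obtain ⟨i, z', hz', rfl⟩ := hdec x hx
            refine Subgroup.mul_mem _ (Subgroup.zpow_mem _ (Subgroup.mem_zpowers c) i) ?_
            rcases hZel z' hz' with h | h
            · rw [h]
              exact one_mem _
            · rw [h]
              exact hzc
          · exact (Subgroup.zpowers_le).2 hcC
        refine ⟨zpowers c, inferInstance, ?_⟩
        rw [← hCeq]
        exact hCi
      · exfalso
        have hcsq : c ^ 2 ≠ 1 := by
          intro h
          have ho : orderOf (⟨QuotientGroup.mk c, hyb⟩ : Cb) = Nat.card Cb :=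
            orderOf_eq_card_of_forall_mem_zpowers hgen
          have hcb : Nat.card Cb = 2 ^ (k - 1) := by
            have h1 := Subgroup.card_mul_index Cb
            rw [hCbi, hYc] at h1
            have h2 : 2 ^ (k + 1 - 1) = 2 ^ (k - 1) * 2 := by
              rw [← pow_succ]
              congr 1
              omega
            rw [h2] at h1
            exact Nat.eq_of_mul_eq_mul_right (by norm_num) h1
          have h3 : (⟨QuotientGroup.mk c, hyb⟩ : Cb) ^ 2 = 1 := by
            apply Subtype.ext
            simp only [Subgroup.coe_pow, Subgroup.coe_one]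
            rw [← QuotientGroup.mk_pow, h]
            rfl
          have h4 := orderOf_dvd_of_pow_eq_one h3
          rw [ho, hcb] at h4
          have h5 : 2 ^ 2 ∣ 2 ^ (k - 1) := pow_dvd_pow 2 (by omega)
          have := Nat.le_of_dvd (by norm_num) (h5.trans h4)
          omega
        obtain ⟨e, he⟩ := UniqP.orderOf_eq_pow hXp c
        have he2 : 2 ≤ e := by
          by_contra hcon
          have h01 : e = 0 ∨ e = 1 := by omega
          apply hcsq
          rcases h01 with h | h
          · rw [h, pow_zero, orderOf_eq_one_iff] at he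
            rw [he, one_pow]
          · rw [h, pow_one] at he
            rw [← he]
            exact pow_orderOf_eq_one c
        obtain ⟨e', rfl⟩ : ∃ e', e = e' + 1 := ⟨e - 1, by omega⟩
        have hu := UniqP.orderOf_pow_prime_pow_pred he
        have hu1 : c ^ 2 ^ e' ≠ 1 := by
          intro h
          rw [h, orderOf_one] at hu
          omega
        have huu : c ^ 2 ^ e' * c ^ 2 ^ e' = 1 := by
          have := pow_orderOf_eq_one (c ^ 2 ^ e')
          rw [hu, pow_two] at this
          exact this
        have huZ : c ^ 2 ^ e' ∉ center X := by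
          intro h
          rcases hZel _ h with h' | h'
          · exact hu1 h'
          · apply hzc
            rw [← h']
            exact Subgroup.pow_mem _ (Subgroup.mem_zpowers c) _
        apply huZ
        rw [Subgroup.mem_center_iff]
        intro g
        haveI : (Cb.comap (QuotientGroup.mk' (center X))).Normal :=
          Subgroup.normal_of_index_eq_two hCi
        have hgc : g * c * g⁻¹ ∈ Cb.comap (QuotientGroup.mk' (center X)) :=
          Subgroup.Normal.conj_mem inferInstance c hcC g
        obtain ⟨i, z', hz', hgcz⟩ := hdec _ hgc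
        have h1 : g * c ^ 2 ^ e' * g⁻¹ = (c ^ 2 ^ e') ^ i := by
          have h2 : g * c ^ 2 ^ e' * g⁻¹ = (g * c * g⁻¹) ^ 2 ^ e' := by rw [conj_pow]
          rw [h2, hgcz]
          have hcomm : Commute (c ^ i) z' := (Subgroup.mem_center_iff.1 hz') (c ^ i)
          rw [hcomm.mul_pow]
          have hz'p : z' ^ 2 ^ e' = 1 := by
            obtain ⟨e'', rfl⟩ : ∃ e'', e' = e'' + 1 := ⟨e' - 1, by omega⟩
            rw [pow_succ', pow_mul, pow_two, hZsq z' hz', one_pow]
          rw [hz'p, mul_one, ← zpow_natCast, ← zpow_natCast, ← zpow_mul, ← zpow_mul, mul_comm]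
        rcases SL23.zpow_of_sq_one (c ^ 2 ^ e') huu i with h | h
        · exfalso
          rw [h] at h1
          apply hu1
          have e1 : c ^ 2 ^ e' = g⁻¹ * (g * c ^ 2 ^ e' * g⁻¹) * g := by group
          rw [e1, h1]
          group
        · rw [h] at h1
          have e1 : g * c ^ 2 ^ e' = g * c ^ 2 ^ e' * g⁻¹ * g := by group
          rw [e1, h1]

end Cfsg.Agent.Lib.Helper1.MaxCl
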