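import Mathlib
import Cfsg.Agent.Lib.Helper1.MaxCl

namespace Cfsg.Agent.Lib.Helper1.MaxCl

open Subgroup
open scoped commutatorElement

universe u

theorem maxclass_struct {X : Type u} [Group X] [Finite X] (n : ℕ) (hn : 3 ≤ n)
    (hX : Nat.card X = 2 ^ n) (hc : Group.nilpotencyClass X = n - 1) :
    ∃ a : X, orderOf a = 2 ^ (n - 1) ∧ (zpowers a).index = 2 ∧
      ∀ b : X, b ∉ zpowers a → (b * b ∈ center X ∧ a * (b * a * b⁻¹) ∈ center X ∧
        (∀ g : X, g ∈ zpowers a ∨ b⁻¹ * g ∈ zpowers a) ∧
        (∀ x ∈ zpowers a, b * x = x * b → x ∈ center X)) := by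
  obtain ⟨C, hCc, hCi⟩ := exists_cyclic_index_two n X hn hX hc
  haveI := hCc
  obtain ⟨⟨a, haC⟩, hgen⟩ := IsCyclic.exists_generator (α := C)
  have hCeq : C = zpowers a := by
    apply le_antisymm
    · intro x hx
      obtain ⟨i, hi⟩ := Subgroup.mem_zpowers_iff.1 (hgen ⟨x, hx⟩)
      rw [Subgroup.mem_zpowers_iff]
      exact ⟨i, by have := congrArg Subtype.val hi; simpa using this⟩
    · exact (Subgroup.zpowers_le).2 haC
  subst hCeq
  refine ⟨a, ?_, hCi, ?_⟩
  · have h3 := Subgroup.card_mul_index (zpowers a)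
    rw [hCi, hX, Nat.card_zpowers] at h3
    have h4 : 2 ^ n = 2 ^ (n - 1) * 2 := by
      rw [← pow_succ]
      congr 1
      omega
    rw [h4] at h3
    exact Nat.eq_of_mul_eq_mul_right (by norm_num) h3
  · intro b hbC
    have hCab : ∀ x ∈ zpowers a, ∀ y ∈ zpowers a, x * y = y * x := by
      intro x hx y hy
      obtain ⟨i, rfl⟩ := Subgroup.mem_zpowers_iff.1 hx
      obtain ⟨j, rfl⟩ := Subgroup.mem_zpowers_iff.1 hy
      rw [← zpow_add, ← zpow_add, add_comm]
    haveI : (zpowers a).Normal := Subgroup.normal_of_index_eq_two hCi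
    have hcos : ∀ g : X, g ∈ zpowers a ∨ b⁻¹ * g ∈ zpowers a := by
      intro g
      by_cases hg : g ∈ zpowers a
      · exact Or.inl hg
      · right
        rw [Subgroup.mul_mem_iff_of_index_two hCi, Subgroup.inv_mem_iff]
        exact ⟨fun h => absurd h hbC, fun h => absurd h hg⟩
    have hb2 : b * b ∈ zpowers a := by
      rw [Subgroup.mul_mem_iff_of_index_two hCi]
    have hcen : ∀ x ∈ zpowers a, b * x = x * b → x ∈ center X := by
      intro x hx hbx
      rw [Subgroup.mem_center_iff]
      intro g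
      rcases hcos g with hg | hg
      · exact hCab g hg x hx
      · calc g * x = b * ((b⁻¹ * g) * x) := by group
          _ = b * (x * (b⁻¹ * g)) := by rw [hCab _ hg x hx]
          _ = (b * x) * (b⁻¹ * g) := by group
          _ = (x * b) * (b⁻¹ * g) := by rw [hbx]
          _ = x * g := by group
    have hbbZ : b * b ∈ center X := hcen _ hb2 (by group)
    have hbab : b * a * b⁻¹ ∈ zpowers a :=
      Subgroup.Normal.conj_mem inferInstance a (Subgroup.mem_zpowers a) b
    refine ⟨hbbZ, ?_, hcos, hcen⟩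
    apply hcen _ (Subgroup.mul_mem _ (Subgroup.mem_zpowers a) hbab)
    have h1 : (b * b) * a = a * (b * b) := (Subgroup.mem_center_iff.1 hbbZ a).symm
    have h2 := hCab a (Subgroup.mem_zpowers a) _ hbab
    calc b * (a * (b * a * b⁻¹)) = b * ((b * a * b⁻¹) * a) := by rw [h2]
      _ = (b * b) * a * b⁻¹ * a := by group
      _ = a * (b * b) * b⁻¹ * a := by rw [h1]
      _ = a * (b * a * b⁻¹) * b := by group

theorem exists_not_mem_of_index_two {X : Type*} [Group X] (C : Subgroup X) (hCi : C.index = 2) :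
    ∃ b, b ∉ C := by
  by_contra hcon
  simp only [not_exists, not_not] at hcon
  have : C = ⊤ := eq_top_iff.2 (fun x _ => hcon x)
  rw [this, Subgroup.index_top] at hCi
  omega

theorem center_sq {X : Type*} [Group X] [Finite X] (hZ2 : Nat.card (center X) = 2) :
    ∀ w ∈ center X, w * w = 1 := by
  intro w hw
  have hd : orderOf (⟨w, hw⟩ : center X) ∣ 2 := hZ2 ▸ orderOf_dvd_natCard _
  have h2 := orderOf_dvd_iff_pow_eq_one.1 hd
  have := congrArg Subtype.val h2
  simpa [pow_two] using this

theorem center_quot_dihedral {X : Type u} [Group X] [Finite X] (n : ℕ) (hn : 3 ≤ n)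
    (hX : Nat.card X = 2 ^ n) (hc : Group.nilpotencyClass X = n - 1) :
    Nonempty (X ⧸ center X ≃* DihedralGroup (2 ^ (n - 2))) := by
  obtain ⟨hZ2, hYc, -⟩ := card_center n hn hX hc
  obtain ⟨a, hoa, hCi, hb⟩ := maxclass_struct n hn hX hc
  obtain ⟨b, hbC⟩ := exists_not_mem_of_index_two _ hCi
  obtain ⟨hbb, hw, hcos, hcen⟩ := hb b hbC
  have hZsq := center_sq hZ2
  have ha2m : a ^ 2 ^ (n - 2) * a ^ 2 ^ (n - 2) = 1 := by
    rw [← pow_add, ← two_mul, ← pow_succ']
    have e : n - 2 + 1 = n - 1 := by omega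
    rw [e, ← hoa]
    exact pow_orderOf_eq_one a
  have hamZ : a ^ 2 ^ (n - 2) ∈ center X := by
    apply hcen _ (Subgroup.pow_mem _ (Subgroup.mem_zpowers a) _)
    have h1 : b * a ^ 2 ^ (n - 2) * b⁻¹ = a ^ 2 ^ (n - 2) := by
      have h2 : b * a ^ 2 ^ (n - 2) * b⁻¹ = (b * a * b⁻¹) ^ 2 ^ (n - 2) := by rw [conj_pow]
      have h3 : b * a * b⁻¹ = a⁻¹ * (a * (b * a * b⁻¹)) := by group
      have hcomm : Commute a⁻¹ (a * (b * a * b⁻¹)) := (Subgroup.mem_center_iff.1 hw) a⁻¹
      have hwp : (a * (b * a * b⁻¹)) ^ 2 ^ (n - 2) = 1 := by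
        obtain ⟨e'', he''⟩ : ∃ e'', n - 2 = e'' + 1 := ⟨n - 3, by omega⟩
        rw [he'', pow_succ', pow_mul, pow_two, hZsq _ hw, one_pow]
      rw [h2, h3, hcomm.mul_pow, hwp, mul_one, inv_pow]
      exact inv_eq_of_mul_eq_one_right ha2m
    calc b * a ^ 2 ^ (n - 2) = b * a ^ 2 ^ (n - 2) * b⁻¹ * b := by group
      _ = a ^ 2 ^ (n - 2) * b := by rw [h1]
  haveI : NeZero (2 ^ (n - 2)) := ⟨by positivity⟩
  apply dih_recognize (2 ^ (n - 2)) (QuotientGroup.mk a : X ⧸ center X) (QuotientGroup.mk b)
  · rw [← QuotientGroup.mk_pow]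
    exact (QuotientGroup.eq_one_iff _).2 hamZ
  · rw [← QuotientGroup.mk_mul]
    exact (QuotientGroup.eq_one_iff _).2 hbb
  · rw [← QuotientGroup.mk_inv, ← QuotientGroup.mk_mul, ← QuotientGroup.mk_mul,
      ← QuotientGroup.mk_inv, QuotientGroup.eq]
    have e : (b * a * b⁻¹)⁻¹ * a⁻¹ = (a * (b * a * b⁻¹))⁻¹ := by group
    rw [e]
    exact inv_mem hw
  · rw [hYc, ← pow_succ']
    congr 1
    omega
  · intro y
    obtain ⟨g, rfl⟩ := QuotientGroup.mk_surjective y
    rcases hcos g with hg | hg
    · left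
      obtain ⟨i, rfl⟩ := Subgroup.mem_zpowers_iff.1 hg
      rw [QuotientGroup.mk_zpow]
      exact Subgroup.zpow_mem _ (Subgroup.mem_zpowers _) i
    · right
      obtain ⟨i, hi⟩ := Subgroup.mem_zpowers_iff.1 hg
      rw [← QuotientGroup.mk_inv, ← QuotientGroup.mk_mul, ← hi, QuotientGroup.mk_zpow]
      exact Subgroup.zpow_mem _ (Subgroup.mem_zpowers _) i

theorem comm_of_commutator_eq_bot {X : Type*} [Group X] (h1 : commutator X = ⊥) (a b : X) :
    a * b = b * a := by
  rw [commutator_eq_bot_iff_center_eq_top] at h1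
  have hb : b ∈ center X := by
    rw [h1]
    exact mem_top b
  exact Subgroup.mem_center_iff.1 hb a

theorem commutator_eq_bot_of_comm {X : Type*} [Group X] (h : ∀ a b : X, a * b = b * a) :
    commutator X = ⊥ := by
  rw [commutator_eq_bot_iff_center_eq_top, eq_top_iff]
  intro g _
  rw [Subgroup.mem_center_iff]
  intro x
  exact h x g

theorem exists_central_in_commutator {X : Type*} [Group X] [Group.IsNilpotent X]
    (hnc : ¬ ∀ a b : X, a * b = b * a) :
    ∃ x ∈ commutator X, x ≠ 1 ∧ x ∈ center X := by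
  have hne : ¬ commutator X ≤ ⊥ := by
    intro h
    exact hnc (comm_of_commutator_eq_bot (le_bot_iff.1 h))
  obtain ⟨x, hxC, hx1, hxc⟩ := UniqP.nil_step ⊥ (commutator X) hne
  refine ⟨x, hxC, fun h => hx1 (by rw [h]; exact one_mem _), ?_⟩
  rw [Subgroup.mem_center_iff]
  intro g
  have h := hxc g⁻¹
  rw [Subgroup.mem_bot] at h
  have e : x * g = g * ((x * g⁻¹ * x⁻¹ * g⁻¹⁻¹)⁻¹ * x) := by group
  rw [e, h, inv_one, one_mul]

theorem center_le_commutator {X : Type u} [Group X] [Finite X] (n : ℕ) (hn : 3 ≤ n)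
    (hX : Nat.card X = 2 ^ n) (hc : Group.nilpotencyClass X = n - 1) :
    center X ≤ commutator X := by
  haveI : Fact (Nat.Prime 2) := ⟨Nat.prime_two⟩
  have hXp : IsPGroup 2 X := IsPGroup.of_card hX
  haveI := hXp.isNilpotent
  obtain ⟨hZ2, -, -⟩ := card_center n hn hX hc
  have hnc : ¬ ∀ a b : X, a * b = b * a := by
    intro h
    have := class_le_one_of_comm h
    omega
  obtain ⟨x, hxC, hx1, hxZ⟩ := exists_central_in_commutator hnc
  intro w hw
  obtain ⟨⟨z, hzZ⟩, hz1, hzu⟩ := (Nat.card_eq_two_iff' (1 : center X)).1 hZ2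
  have hxz : x = z := by
    have := hzu ⟨x, hxZ⟩ (fun h' => hx1 (congrArg Subtype.val h'))
    exact congrArg Subtype.val this
  by_cases h : w = 1
  · rw [h]
    exact one_mem _
  · have := hzu ⟨w, hw⟩ (fun h' => h (congrArg Subtype.val h'))
    have hwz : w = z := congrArg Subtype.val this
    rw [hwz, ← hxz]
    exact hxC

theorem index_commutator_quot {X : Type*} [Group X] (N : Subgroup X) [N.Normal]
    (hN : N ≤ commutator X) : (commutator (X ⧸ N)).index = (commutator X).index := by
  have h1 : commutator (X ⧸ N) = (commutator X).map (QuotientGroup.mk' N) := by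
    rw [_root_.commutator_def, _root_.commutator_def, Subgroup.map_commutator,
      Subgroup.map_top_of_surjective _ (QuotientGroup.mk'_surjective N)]
  rw [h1, Subgroup.index_map_eq _ (QuotientGroup.mk'_surjective N)
    (by rw [QuotientGroup.ker_mk']; exact hN)]

theorem index_commutator_of_maxclass : ∀ (n : ℕ) (X : Type u) [Group X] [Finite X], 2 ≤ n →
    Nat.card X = 2 ^ n → Group.nilpotencyClass X = n - 1 → (commutator X).index = 4 := by
  intro n
  induction n with
  | zero =>
    intro X _ _ hn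
    omega
  | succ k ih =>
    intro X _ _ hn hX hc
    haveI : Fact (Nat.Prime 2) := ⟨Nat.prime_two⟩
    have hXp : IsPGroup 2 X := IsPGroup.of_card hX
    haveI := hXp.isNilpotent
    by_cases hk : k = 1
    · subst hk
      have hcomm := comm_of_class_le_one (G := X) (by omega)
      rw [commutator_eq_bot_of_comm hcomm, Subgroup.index_bot, hX]
      norm_num
    · have hk2 : 3 ≤ k + 1 := by omega
      obtain ⟨hZ2, hYc, hYcl⟩ := card_center (k + 1) hk2 hX hc
      have hZle := center_le_commutator (k + 1) hk2 hX hc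
      have := ih (X ⧸ center X) (by omega) (by simpa using hYc) (by rw [hYcl]; omega)
      rw [index_commutator_quot (center X) hZle] at this
      exact this

theorem klein_of_maxclass {X : Type u} [Group X] [Finite X] (n : ℕ) (hn : 3 ≤ n)
    (hX : Nat.card X = 2 ^ n) (hc : Group.nilpotencyClass X = n - 1) :
    IsKleinFour (X ⧸ commutator X) := by
  have hidx := index_commutator_of_maxclass n X (by omega) hX hc
  have hZle := center_le_commutator n hn hX hc
  obtain ⟨a, hoa, hCi, hb⟩ := maxclass_struct n hn hX hc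
  obtain ⟨b, hbC⟩ := exists_not_mem_of_index_two _ hCi
  have hsq : ∀ g : X, g * g ∈ commutator X := by
    intro g
    by_cases hg : g ∈ zpowers a
    · obtain ⟨i, rfl⟩ := Subgroup.mem_zpowers_iff.1 hg
      have haa : a * a ∈ commutator X := by
        obtain ⟨-, hw, -, -⟩ := hb b hbC
        have e : a * a = (a * (b * a * b⁻¹)) * ⁅b, a⁻¹⁆ := by
          rw [commutatorElement_def]
          group
        rw [e]
        exact Subgroup.mul_mem _ (hZle hw)
          (Subgroup.commutator_mem_commutator (Subgroup.mem_top b) (Subgroup.mem_top a⁻¹))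
      have e2 : a ^ i * a ^ i = (a * a) ^ i := by
        rw [(Commute.refl a).mul_zpow]
      rw [e2]
      exact Subgroup.zpow_mem _ haa i
    · exact hZle (hb g hg).1
  have hcard : Nat.card (X ⧸ commutator X) = 4 := by
    rw [← Subgroup.index_eq_card]
    exact hidx
  refine ⟨hcard, ?_⟩
  have hdvd : Monoid.exponent (X ⧸ commutator X) ∣ 2 := by
    apply Monoid.exponent_dvd_of_forall_pow_eq_one
    intro y
    obtain ⟨g, rfl⟩ := QuotientGroup.mk_surjective y
    rw [pow_two, ← QuotientGroup.mk_mul]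
    exact (QuotientGroup.eq_one_iff _).2 (hsq g)
  rcases (Nat.dvd_prime Nat.prime_two).1 hdvd with h | h
  · exfalso
    rw [Monoid.exp_eq_one_iff] at h
    have h1 : Nat.card (X ⧸ commutator X) = 1 := Nat.card_eq_one_iff_unique.2 ⟨h, ⟨1⟩⟩
    omega
  · exact h

theorem abmax {X : Type*} [Group X] [Finite X] (C : Subgroup X) (hCi : C.index = 2)
    (hCab : ∀ x ∈ C, ∀ y ∈ C, x * y = y * x) (hnc : ¬ ∀ a b : X, a * b = b * a) :
    Nat.card (center X) * Nat.card (commutator X) ≤ Nat.card C := by
  haveI : C.Normal := Subgroup.normal_of_index_eq_two hCi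
  obtain ⟨b, hbC⟩ := exists_not_mem_of_index_two C hCi
  have hcos : ∀ g : X, g ∈ C ∨ b⁻¹ * g ∈ C := by
    intro g
    by_cases hg : g ∈ C
    · exact Or.inl hg
    · right
      rw [Subgroup.mul_mem_iff_of_index_two hCi, Subgroup.inv_mem_iff]
      exact ⟨fun h => absurd h hbC, fun h => absurd h hg⟩
  have hconj : ∀ c ∈ C, b * c * b⁻¹ ∈ C :=
    fun c hc => Subgroup.Normal.conj_mem inferInstance c hc b
  let δ : C →* C := MonoidHom.mk'
    (fun c => ⟨b * c * b⁻¹ * (c : X)⁻¹, Subgroup.mul_mem _ (hconj c c.2) (inv_mem c.2)⟩) (by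
    intro c d
    apply Subtype.ext
    show b * ((c : X) * (d : X)) * b⁻¹ * ((c : X) * (d : X))⁻¹ =
      (b * c * b⁻¹ * (c : X)⁻¹) * (b * d * b⁻¹ * (d : X)⁻¹)
    have h1 := hCab (c : X)⁻¹ (inv_mem c.2) (b * d * b⁻¹ * (d : X)⁻¹)
      (Subgroup.mul_mem _ (hconj d d.2) (inv_mem d.2))
    calc b * ((c : X) * (d : X)) * b⁻¹ * ((c : X) * (d : X))⁻¹
        = b * c * b⁻¹ * ((b * d * b⁻¹ * (d : X)⁻¹) * (c : X)⁻¹) := by group
      _ = b * c * b⁻¹ * ((c : X)⁻¹ * (b * d * b⁻¹ * (d : X)⁻¹)) := by rw [h1]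
      _ = (b * c * b⁻¹ * (c : X)⁻¹) * (b * d * b⁻¹ * (d : X)⁻¹) := by group)
  have hδ : ∀ c : C, ((δ c : C) : X) = b * c * b⁻¹ * (c : X)⁻¹ := fun c => rfl
  have hZC : ∀ z ∈ center X, z ∈ C := by
    intro z hz
    by_contra hzC
    apply hnc
    have hdec : ∀ g : X, ∃ ζ ∈ center X, ∃ c ∈ C, g = ζ * c := by
      intro g
      by_cases hg : g ∈ C
      · exact ⟨1, one_mem _, g, hg, by rw [one_mul]⟩
      · refine ⟨z, hz, z⁻¹ * g, ?_, by group⟩
        rw [Subgroup.mul_mem_iff_of_index_two hCi, Subgroup.inv_mem_iff]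
        exact ⟨fun h => absurd h hzC, fun h => absurd h hg⟩
    intro x y
    obtain ⟨ζ, hζ, c, hc, rfl⟩ := hdec x
    obtain ⟨ζ', hζ', d, hd, rfl⟩ := hdec y
    have h1 := Subgroup.mem_center_iff.1 hζ
    have h2 := Subgroup.mem_center_iff.1 hζ'
    calc ζ * c * (ζ' * d) = ζ * (c * ζ') * d := by group
      _ = ζ * (ζ' * c) * d := by rw [h2 c]
      _ = (ζ * ζ') * (c * d) := by group
      _ = (ζ' * ζ) * (d * c) := by rw [h2 ζ, hCab c hc d hd]
      _ = ζ' * (ζ * d) * c := by group
      _ = ζ' * (d * ζ) * c := by rw [← h1 d]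
      _ = ζ' * d * (ζ * c) := by group
  have hker : Nat.card (center X) ≤ Nat.card δ.ker := by
    apply Nat.card_le_card_of_injective (fun z : center X => (⟨⟨z.1, hZC z.1 z.2⟩, by
      rw [MonoidHom.mem_ker]
      apply Subtype.ext
      rw [hδ]
      show b * z.1 * b⁻¹ * (z.1)⁻¹ = 1
      have := Subgroup.mem_center_iff.1 z.2 b
      rw [this]
      group⟩ : δ.ker))
    intro z z' h
    apply Subtype.ext
    have := congrArg (fun w : δ.ker => ((w : C) : X)) h
    exact this
  have hD : ∀ c ∈ C, b * c * b⁻¹ * c⁻¹ ∈ δ.range.map C.subtype :=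
    fun c hc => ⟨δ ⟨c, hc⟩, ⟨⟨c, hc⟩, rfl⟩, rfl⟩
  have sub1 : ∀ c ∈ C, ∀ g : X, g * c * g⁻¹ * c⁻¹ ∈ δ.range.map C.subtype := by
    intro c hc g
    rcases hcos g with hg | hg
    · have e : g * c * g⁻¹ * c⁻¹ = 1 := by
        rw [hCab g hg c hc]
        group
      rw [e]
      exact one_mem _
    · have h1 := hCab (b⁻¹ * g) hg c hc
      have e : g * c * g⁻¹ * c⁻¹ = b * ((b⁻¹ * g) * c) * (b⁻¹ * g)⁻¹ * b⁻¹ * c⁻¹ := by group
      rw [e, h1]
      have e2 : b * (c * (b⁻¹ * g)) * (b⁻¹ * g)⁻¹ * b⁻¹ * c⁻¹ = b * c * b⁻¹ * c⁻¹ := by group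
      rw [e2]
      exact hD c hc
  have sub2 : ∀ x ∈ δ.range.map C.subtype, b * x * b⁻¹ ∈ δ.range.map C.subtype := by
    rintro x ⟨y, ⟨c, rfl⟩, rfl⟩
    have e : b * (C.subtype (δ c)) * b⁻¹ =
        b * (b * c * b⁻¹) * b⁻¹ * (b * (c : X) * b⁻¹)⁻¹ := by
      show b * ((δ c : C) : X) * b⁻¹ = _
      rw [hδ]
      group
    rw [e]
    exact hD _ (hconj c c.2)
  have hrange : Nat.card (commutator X) ≤ Nat.card δ.range := by
    have hle : commutator X ≤ δ.range.map C.subtype := by
      rw [_root_.commutator_def, Subgroup.commutator_le]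
      intro g _ h _
      rcases hcos h with hh | hh
      · rw [commutatorElement_def]
        exact sub1 h hh g
      · rcases hcos g with hg | hg
        · have e : ⁅g, h⁆ = (h * g * h⁻¹ * g⁻¹)⁻¹ := by
            rw [commutatorElement_def]
            group
          rw [e]
          exact inv_mem (sub1 g hg h)
        · obtain ⟨c, hc, rfl⟩ : ∃ c ∈ C, g = b * c := ⟨b⁻¹ * g, hg, by group⟩
          obtain ⟨d, hd, rfl⟩ : ∃ d ∈ C, h = b * d := ⟨b⁻¹ * h, hh, by group⟩
          have hce := hCab c hc (b * (d * c⁻¹) * b⁻¹) (hconj _ (C.mul_mem hd (inv_mem hc)))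
          have e1 : ⁅b * c, b * d⁆ = b * (c * (b * (d * c⁻¹) * b⁻¹) * d⁻¹) * b⁻¹ := by
            rw [commutatorElement_def]
            group
          rw [e1, hce]
          have e2 : b * (b * (d * c⁻¹) * b⁻¹ * c * d⁻¹) * b⁻¹ =
              b * (b * (d * c⁻¹) * b⁻¹ * (d * c⁻¹)⁻¹) * b⁻¹ := by group
          rw [e2]
          exact sub2 _ (hD _ (C.mul_mem hd (inv_mem hc)))
    calc Nat.card (commutator X) ≤ Nat.card (δ.range.map C.subtype) := Subgroup.card_le_of_le hle
      _ = Nat.card δ.range := Subgroup.card_map_of_injective C.subtype_injective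
  have hcard : Nat.card δ.ker * Nat.card δ.range = Nat.card C := by
    have h1 := Subgroup.card_eq_card_quotient_mul_card_subgroup δ.ker
    rw [Nat.card_congr (QuotientGroup.quotientKerEquivRange δ).toEquiv] at h1
    rw [h1, mul_comm]
  calc Nat.card (center X) * Nat.card (commutator X)
      ≤ Nat.card δ.ker * Nat.card δ.range := Nat.mul_le_mul hker hrange
    _ = Nat.card C := hcard

theorem class_of_center_eq {X : Type*} [Group X] (N : Subgroup X) [N.Normal]
    (hN : N = center X) (m : ℕ) (h : Group.nilpotencyClass (X ⧸ N) = m) [Nontrivial X]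
    [Group.IsNilpotent X] : Group.nilpotencyClass X = m + 1 := by
  subst hN
  rw [Group.nilpotencyClass_eq_quotient_center_plus_one, h]

theorem maxclass_of_index : ∀ (n : ℕ) (X : Type u) [Group X] [Finite X], 2 ≤ n →
    Nat.card X = 2 ^ n → (commutator X).index = 4 → Group.nilpotencyClass X = n - 1 := by
  intro n
  induction n with
  | zero =>
    intro X _ _ hn
    omega
  | succ k ih =>
    intro X _ _ hn hX hidx
    haveI : Fact (Nat.Prime 2) := ⟨Nat.prime_two⟩
    have hXp : IsPGroup 2 X := IsPGroup.of_card hX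
    haveI := hXp.isNilpotent
    haveI : Nontrivial X := by
      rw [← Finite.one_lt_card_iff_nontrivial, hX]
      exact Nat.one_lt_pow (by omega) (by norm_num)
    have hcardX' : Nat.card (commutator X) * 4 = 2 ^ (k + 1) := by
      have := Subgroup.card_mul_index (commutator X)
      rw [hidx, hX] at this
      exact this
    by_cases hk : k = 1
    · subst hk
      have h1 : commutator X = ⊥ := Subgroup.eq_bot_of_card_eq _ (by
        have h4 : (2 : ℕ) ^ (1 + 1) = 4 := by norm_num
        rw [h4] at hcardX'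
        omega)
      have h2 := class_le_one_of_comm (comm_of_commutator_eq_bot h1)
      have h3 : Group.nilpotencyClass X ≠ 0 := by
        intro h
        rw [Group.nilpotencyClass_zero_iff_subsingleton] at h
        exact not_subsingleton X h
      omega
    · have hk2 : 2 ≤ k := by omega
      have hnc : ¬ ∀ a b : X, a * b = b * a := by
        intro h
        rw [commutator_eq_bot_of_comm h, Subgroup.card_bot] at hcardX'
        have : 2 ^ 3 ≤ 2 ^ (k + 1) := Nat.pow_le_pow_right (by norm_num) (by omega)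
        omega
      obtain ⟨x, hxC, hx1, hxZ⟩ := exists_central_in_commutator hnc
      obtain ⟨e, he⟩ := UniqP.orderOf_eq_pow hXp x
      have he0 : e ≠ 0 := by
        intro h
        rw [h, pow_zero, orderOf_eq_one_iff] at he
        exact hx1 he
      obtain ⟨e', rfl⟩ : ∃ e', e = e' + 1 := ⟨e - 1, by omega⟩
      obtain ⟨u, hu, huZ, huC⟩ : ∃ u : X, orderOf u = 2 ∧ u ∈ center X ∧ u ∈ commutator X :=
        ⟨_, UniqP.orderOf_pow_prime_pow_pred he, Subgroup.pow_mem _ hxZ _,
          Subgroup.pow_mem _ hxC _⟩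
      haveI hN : (zpowers u).Normal := by
        constructor
        intro y hy g
        have hyZ : y ∈ center X := by
          obtain ⟨i, rfl⟩ := Subgroup.mem_zpowers_iff.1 hy
          exact Subgroup.zpow_mem _ huZ i
        have := Subgroup.mem_center_iff.1 hyZ g
        rw [this, mul_inv_cancel_right]
        exact hy
      have hZ0le : zpowers u ≤ commutator X := (Subgroup.zpowers_le).2 huC
      have hZ0c : zpowers u ≤ center X := (Subgroup.zpowers_le).2 huZ
      have hYc : Nat.card (X ⧸ zpowers u) = 2 ^ k := by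
        have h1 := Subgroup.card_eq_card_quotient_mul_card_subgroup (zpowers u)
        rw [hX, Nat.card_zpowers, hu, pow_succ] at h1
        exact (Nat.eq_of_mul_eq_mul_right (by norm_num) h1).symm
      have hYi : (commutator (X ⧸ zpowers u)).index = 4 := by
        rw [index_commutator_quot (zpowers u) hZ0le]
        exact hidx
      have hYcl := ih (X ⧸ zpowers u) hk2 hYc hYi
      have hle := class_le (p := 2) (k + 1) X hX (by omega)
      by_cases hk3 : k = 2
      · subst hk3
        have : ¬ Group.nilpotencyClass X ≤ 1 := fun h => hnc (comm_of_class_le_one h)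
        omega
      · have hk3' : 3 ≤ k := by omega
        obtain ⟨Cb, hCbc, hCbi⟩ := exists_cyclic_index_two k (X ⧸ zpowers u) hk3' hYc hYcl
        haveI := hCbc
        have hCi : (Cb.comap (QuotientGroup.mk' (zpowers u))).index = 2 := by
          rw [Subgroup.index_comap_of_surjective _ (QuotientGroup.mk'_surjective _)]
          exact hCbi
        have hCab : ∀ x ∈ Cb.comap (QuotientGroup.mk' (zpowers u)),
            ∀ y ∈ Cb.comap (QuotientGroup.mk' (zpowers u)), x * y = y * x := by
          intro x hx y hy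
          let f : ↥(Cb.comap (QuotientGroup.mk' (zpowers u))) →* ↥Cb :=
            ((QuotientGroup.mk' (zpowers u)).comp (Subgroup.subtype _)).codRestrict Cb
              (fun x => x.2)
          have hf : f.ker ≤ center ↥(Cb.comap (QuotientGroup.mk' (zpowers u))) := by
            intro w hw
            rw [MonoidHom.mem_ker] at hw
            have h1 : (QuotientGroup.mk (w : X) : X ⧸ zpowers u) = 1 := congrArg Subtype.val hw
            have h2 : (w : X) ∈ zpowers u := (QuotientGroup.eq_one_iff _).1 h1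
            rw [Subgroup.mem_center_iff]
            intro g
            apply Subtype.ext
            exact Subgroup.mem_center_iff.1 (hZ0c h2) g
          have hcm := (f.isMulCommutative_of_isCyclic_of_ker_le_center hf).is_comm.comm
            ⟨x, hx⟩ ⟨y, hy⟩
          exact congrArg Subtype.val hcm
        have hab := abmax _ hCi hCab hnc
        have hcC := Subgroup.card_mul_index (Cb.comap (QuotientGroup.mk' (zpowers u)))
        rw [hCi, hX] at hcC
        have hZle2 : Nat.card (center X) ≤ 2 := by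
          have h5 : Nat.card (center X) * Nat.card (commutator X) ≤
              2 * Nat.card (commutator X) := by
            have : Nat.card ↥(Cb.comap (QuotientGroup.mk' (zpowers u))) =
                2 * Nat.card (commutator X) := by omega
            rw [← this]
            exact hab
          exact Nat.le_of_mul_le_mul_right h5 Nat.card_pos
        have hZeq : zpowers u = center X :=
          Subgroup.eq_of_le_of_card_ge hZ0c (by rw [Nat.card_zpowers, hu]; exact hZle2)
        have := class_of_center_eq (zpowers u) hZeq (k - 1) hYcl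
        omega

theorem maxclass_iff {X : Type u} [Group X] [Finite X] (n : ℕ) (hn : 3 ≤ n)
    (hX : Nat.card X = 2 ^ n) :
    Group.nilpotencyClass X = n - 1 ↔ IsKleinFour (X ⧸ commutator X) := by
  constructor
  · exact klein_of_maxclass n hn hX
  · intro h
    apply maxclass_of_index n X (by omega) hX
    rw [Subgroup.index_eq_card]
    exact h.card_four

end Cfsg.Agent.Lib.Helper1.MaxCl
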