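import Mathlib
import Cfsg.Agent.Lib.Helper1.PSLpA

set_option autoImplicit false

namespace Cfsg.Agent.Lib.Helper1.PSLp

def dl11 (k : ℕ) : ℕ := ([0, 0, 2, 1, 4, 3, 3, 4, 1, 2, 0] : List ℕ).getD k 0

def sq11 (k : ℕ) : Bool := ([true, true, false, true, true, true, false, false, false, true, false] : List Bool).getD k true

def certTab11 : List (List ℕ) :=
  [[1, 1, 3], [1, 1, 2], [1, 1, 3], [1, 1, 3], [1, 1, 3], [1, 1, 3],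
   [1, 1, 3], [1, 1, 3], [1, 1, 3], [1, 1, 3], [1, 1, 3], [1, 1, 3],
   [1, 1, 3], [1, 1, 3], [1, 1, 3], [1, 1, 3], [1, 1, 3], [1, 1, 3],
   [1, 1, 3], [1, 1, 3], [1, 1, 3], [1, 1, 2], [1, 2, 6], [1, 1, 10],
   [2, 1, 9, 16, 10, 16, 1, 16], [1, 1, 7], [1, 1, 8], [1, 1, 2], [2, 2, 5, 16, 10, 16, 1, 16], [2, 1, 4, 16, 10, 16, 1, 16],
   [2, 1, 3, 16, 10, 16, 1, 16], [1, 1, 6], [2, 1, 1, 16, 10, 16, 1, 16], [1, 2, 6], [2, 2, 1, 16, 1, 16, 1, 16], [1, 1, 6],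
   [2, 2, 1, 16, 1, 16, 1, 16], [2, 3, 1, 16, 1, 16, 1, 16], [2, 3, 1, 16, 1, 16, 1, 16], [1, 1, 2], [1, 1, 8], [1, 1, 7],
   [2, 2, 1, 16, 1, 16, 1, 16], [1, 1, 10], [1, 2, 6], [1, 1, 10], [2, 1, 9, 16, 10, 16, 1, 16], [1, 1, 2],
   [1, 1, 6], [1, 1, 8], [2, 1, 5, 16, 10, 16, 1, 16], [2, 1, 4, 16, 10, 16, 1, 16], [2, 1, 3, 16, 10, 16, 1, 16], [1, 1, 7],
   [2, 2, 1, 16, 10, 16, 1, 16], [1, 2, 6], [2, 2, 1, 16, 1, 16, 1, 16], [1, 1, 7], [2, 4, 1, 16, 1, 16, 1, 16], [2, 2, 1, 16, 1, 16, 1, 16],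
   [2, 2, 1, 16, 1, 16, 1, 16], [1, 1, 8], [1, 1, 6], [1, 1, 2], [2, 1, 7, 16, 8, 16, 2, 16], [1, 1, 10],
   [1, 2, 6], [1, 1, 10], [2, 1, 9, 16, 10, 16, 1, 16], [1, 1, 6], [1, 1, 2], [1, 1, 7],
   [2, 1, 5, 16, 10, 16, 1, 16], [2, 1, 4, 16, 10, 16, 1, 16], [2, 2, 3, 16, 10, 16, 1, 16], [1, 1, 8], [2, 2, 1, 16, 10, 16, 1, 16], [1, 2, 6],
   [2, 2, 1, 16, 1, 16, 1, 16], [1, 1, 8], [2, 2, 1, 16, 1, 16, 1, 16], [2, 2, 7, 16, 10, 16, 2, 16], [2, 2, 1, 16, 1, 16, 1, 16], [1, 1, 7],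
   [1, 1, 2], [1, 1, 6], [2, 2, 1, 16, 1, 16, 1, 16], [1, 1, 10], [1, 2, 6], [1, 1, 10],
   [2, 2, 9, 16, 10, 16, 1, 16], [1, 1, 8], [1, 1, 7], [1, 1, 6], [2, 2, 5, 16, 10, 16, 1, 16], [2, 2, 4, 16, 10, 16, 1, 16],
   [2, 2, 3, 16, 10, 16, 1, 16], [1, 1, 2], [2, 1, 1, 16, 10, 16, 1, 16], [1, 2, 6], [0], [1, 1, 2],
   [2, 2, 1, 16, 1, 16, 1, 16], [2, 2, 1, 16, 1, 16, 1, 16], [2, 2, 1, 16, 1, 16, 1, 16], [1, 1, 6], [1, 1, 7], [1, 1, 8],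
   [2, 3, 1, 16, 1, 16, 1, 16], [1, 1, 10]]

def cert11 (j : ℕ) (b : Bool) (c2 : ℕ) : List ℕ :=
  certTab11.getD ((j * 2 + (if b then 0 else 1)) * 11 + c2) []

theorem hdl11 : ∀ k < 11, 0 < k → k = ((3 ^ dl11 k * (if sq11 k then 1 else 10)) % 11) := by
  decide

theorem hchk11 : ∀ j < 5, ∀ c2 < 11,
    Chk 11 5 3 10 dl11 sq11 4 false 1 false (cert11 j true c2) j true c2 ∧
    Chk 11 5 3 10 dl11 sq11 4 false 1 false (cert11 j false c2) j false c2 := by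
  decide +kernel

end Cfsg.Agent.Lib.Helper1.PSLp
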