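import Mathlib
import Cfsg.Agent.Lib.Helper1.PSLpA

set_option autoImplicit false

namespace Cfsg.Agent.Lib.Helper1.PSLp

def dl13 (k : ℕ) : ℕ := ([0, 0, 0, 2, 1, 4, 2, 5, 1, 4, 5, 3, 3] : List ℕ).getD k 0

def sq13 (k : ℕ) : Bool := ([true, true, false, true, true, false, false, false, false, true, true, false, true] : List Bool).getD k true

def certTab13 : List (List ℕ) :=
  [[1, 1, 3], [1, 1, 2], [1, 1, 3], [1, 1, 3], [1, 1, 3], [1, 1, 3],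
   [1, 1, 3], [1, 1, 3], [1, 1, 3], [1, 1, 3], [1, 1, 3], [1, 1, 3],
   [1, 1, 3], [1, 1, 3], [1, 1, 3], [1, 1, 2], [1, 1, 3], [1, 1, 3],
   [1, 1, 3], [1, 1, 3], [1, 1, 3], [1, 1, 3], [1, 1, 3], [1, 1, 3],
   [1, 1, 3], [1, 1, 3], [1, 2, 5], [1, 1, 2], [2, 1, 1, 19, 12, 19, 1, 19], [1, 1, 5],
   [1, 1, 7], [2, 1, 1, 19, 12, 19, 1, 19], [2, 2, 1, 19, 12, 19, 1, 19], [2, 2, 1, 19, 12, 19, 1, 19], [2, 2, 1, 19, 12, 19, 1, 19], [1, 1, 6],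
   [1, 1, 8], [2, 1, 1, 19, 12, 19, 1, 19], [1, 1, 11], [1, 2, 5], [2, 2, 1, 19, 11, 19, 1, 19], [1, 1, 2],
   [2, 1, 3, 19, 11, 19, 1, 19], [2, 2, 4, 19, 11, 19, 1, 19], [1, 1, 6], [1, 1, 5], [1, 1, 8], [1, 1, 7],
   [2, 2, 9, 19, 11, 19, 1, 19], [2, 1, 10, 19, 11, 19, 1, 19], [1, 1, 11], [2, 1, 12, 19, 11, 19, 1, 19], [1, 1, 12], [1, 1, 2],
   [1, 1, 12], [1, 1, 6], [1, 1, 12], [1, 1, 12], [1, 1, 12], [1, 1, 12],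
   [1, 1, 12], [1, 1, 5], [1, 1, 12], [1, 1, 12], [1, 1, 12], [1, 1, 12],
   [1, 1, 12], [1, 1, 2], [1, 1, 12], [1, 1, 12], [1, 1, 5], [1, 1, 6],
   [1, 1, 12], [1, 1, 12], [1, 1, 12], [1, 1, 12], [1, 1, 12], [1, 1, 12],
   [1, 1, 3], [1, 1, 2], [1, 1, 3], [1, 1, 3], [1, 1, 3], [1, 1, 3],
   [1, 1, 3], [1, 1, 3], [1, 1, 3], [1, 1, 3], [1, 1, 3], [1, 1, 3],
   [1, 1, 3], [1, 1, 3], [1, 1, 3], [1, 1, 2], [1, 1, 3], [1, 1, 3],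
   [1, 1, 3], [1, 1, 3], [1, 1, 3], [1, 1, 3], [1, 1, 3], [1, 1, 3],
   [1, 1, 3], [1, 1, 3], [1, 1, 12], [1, 1, 2], [1, 1, 12], [1, 1, 5],
   [1, 1, 12], [1, 1, 12], [1, 1, 12], [1, 1, 12], [1, 1, 12], [1, 1, 6],
   [1, 1, 12], [1, 1, 12], [1, 1, 12], [1, 1, 12], [1, 1, 12], [1, 1, 2],
   [1, 1, 12], [1, 1, 12], [1, 1, 6], [1, 1, 5], [1, 1, 12], [1, 1, 12],
   [1, 1, 12], [1, 1, 12], [1, 1, 12], [1, 1, 12], [1, 2, 5], [1, 1, 2],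
   [2, 1, 1, 19, 12, 19, 1, 19], [1, 1, 6], [1, 1, 8], [2, 1, 1, 19, 12, 19, 1, 19], [2, 1, 1, 19, 12, 19, 1, 19], [0],
   [2, 1, 1, 19, 12, 19, 1, 19], [1, 1, 5], [1, 1, 7], [2, 1, 1, 19, 12, 19, 1, 19], [1, 1, 11], [1, 2, 5],
   [2, 1, 1, 19, 11, 19, 1, 19], [1, 1, 2], [2, 1, 3, 19, 11, 19, 1, 19], [2, 2, 4, 19, 11, 19, 1, 19], [1, 1, 5], [1, 1, 6],
   [1, 1, 7], [1, 1, 8], [2, 2, 9, 19, 11, 19, 1, 19], [2, 1, 10, 19, 11, 19, 1, 19], [1, 1, 11], [2, 2, 12, 19, 11, 19, 1, 19]]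

def cert13 (j : ℕ) (b : Bool) (c2 : ℕ) : List ℕ :=
  certTab13.getD ((j * 2 + (if b then 0 else 1)) * 13 + c2) []

theorem hdl13 : ∀ k < 13, 0 < k → k = ((4 ^ dl13 k * (if sq13 k then 1 else 2)) % 13) := by
  decide

theorem hchk13 : ∀ j < 6, ∀ c2 < 13,
    Chk 13 6 4 2 dl13 sq13 5 true 7 false (cert13 j true c2) j true c2 ∧
    Chk 13 6 4 2 dl13 sq13 5 true 7 false (cert13 j false c2) j false c2 := by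
  decide +kernel

end Cfsg.Agent.Lib.Helper1.PSLp
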