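import Mathlib
import Cfsg.Agent.Lib.Helper1.PSLpA

set_option autoImplicit false

namespace Cfsg.Agent.Lib.Helper1.PSLp

def dl17 (k : ℕ) : ℕ := ([0, 0, 1, 0, 2, 6, 1, 3, 3, 7, 7, 5, 2, 6, 4, 5, 4] : List ℕ).getD k 0

def sq17 (k : ℕ) : Bool := ([true, true, true, false, true, false, false, false, true, true, false, false, false, true, false, true, true] : List Bool).getD k true

def certTab17 : List (List ℕ) :=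
  [[1, 1, 2], [1, 1, 2], [1, 1, 2], [1, 1, 2], [1, 1, 2], [1, 1, 2],
   [1, 1, 2], [1, 1, 2], [1, 1, 2], [1, 1, 2], [1, 1, 2], [1, 1, 2],
   [1, 1, 2], [1, 1, 2], [1, 1, 2], [1, 1, 2], [1, 1, 2], [1, 1, 2],
   [1, 1, 2], [1, 1, 2], [1, 1, 2], [1, 1, 2], [1, 1, 2], [1, 1, 2],
   [1, 1, 2], [1, 1, 2], [1, 1, 2], [1, 1, 2], [1, 1, 2], [1, 1, 2],
   [1, 1, 2], [1, 1, 2], [1, 1, 2], [1, 1, 2], [1, 3, 5], [1, 1, 3],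
   [1, 1, 10], [2, 2, 1, 25, 16, 25, 1, 25], [1, 1, 5], [2, 2, 1, 25, 16, 25, 1, 25], [2, 2, 1, 25, 16, 25, 1, 25], [2, 2, 1, 25, 16, 25, 1, 25],
   [1, 1, 11], [1, 1, 6], [2, 2, 1, 25, 16, 25, 1, 25], [2, 2, 1, 25, 16, 25, 1, 25], [2, 2, 1, 25, 16, 25, 1, 25], [1, 1, 12],
   [2, 2, 1, 25, 16, 25, 1, 25], [1, 1, 7], [1, 1, 14], [1, 3, 5], [2, 1, 1, 25, 14, 25, 1, 25], [2, 1, 2, 25, 14, 25, 1, 25],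
   [1, 1, 3], [2, 1, 4, 25, 14, 25, 1, 25], [1, 1, 12], [1, 1, 10], [1, 1, 11], [2, 2, 8, 25, 14, 25, 1, 25],
   [2, 2, 9, 25, 14, 25, 1, 25], [1, 1, 6], [1, 1, 7], [1, 1, 5], [2, 1, 13, 25, 14, 25, 1, 25], [1, 1, 14],
   [2, 2, 15, 25, 14, 25, 1, 25], [2, 2, 16, 25, 14, 25, 1, 25], [1, 1, 16], [1, 1, 3], [1, 1, 16], [1, 1, 16],
   [1, 1, 7], [1, 1, 16], [1, 1, 16], [1, 1, 16], [1, 1, 16], [1, 1, 16],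
   [1, 1, 16], [1, 1, 16], [1, 1, 16], [1, 1, 6], [1, 1, 16], [1, 1, 16],
   [1, 1, 5], [1, 1, 16], [1, 1, 16], [1, 1, 16], [1, 1, 3], [1, 1, 16],
   [1, 1, 6], [1, 1, 16], [1, 1, 16], [1, 1, 16], [1, 1, 16], [1, 1, 16],
   [1, 1, 16], [1, 1, 7], [1, 1, 16], [1, 1, 5], [1, 1, 16], [1, 1, 16],
   [1, 3, 5], [1, 1, 3], [1, 1, 11], [2, 1, 1, 25, 16, 25, 1, 25], [1, 1, 12], [2, 1, 1, 25, 16, 25, 1, 25],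
   [2, 2, 1, 25, 16, 25, 1, 25], [2, 2, 1, 25, 16, 25, 1, 25], [1, 1, 10], [1, 1, 7], [2, 3, 1, 25, 16, 25, 1, 25], [2, 1, 1, 25, 16, 25, 1, 25],
   [2, 2, 1, 25, 16, 25, 1, 25], [1, 1, 5], [2, 1, 1, 25, 16, 25, 1, 25], [1, 1, 6], [1, 1, 14], [1, 3, 5],
   [2, 2, 1, 25, 14, 25, 1, 25], [2, 2, 2, 25, 14, 25, 1, 25], [1, 1, 3], [2, 1, 4, 25, 14, 25, 1, 25], [1, 1, 5], [1, 1, 11],
   [1, 1, 10], [2, 2, 8, 25, 14, 25, 1, 25], [2, 2, 9, 25, 14, 25, 1, 25], [1, 1, 7], [1, 1, 6], [1, 1, 12],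
   [2, 1, 13, 25, 14, 25, 1, 25], [1, 1, 14], [2, 1, 15, 25, 14, 25, 1, 25], [2, 1, 16, 25, 14, 25, 1, 25], [1, 1, 4], [1, 1, 3],
   [1, 1, 4], [1, 1, 4], [1, 1, 4], [1, 1, 4], [1, 1, 4], [1, 1, 4],
   [1, 1, 4], [1, 1, 4], [1, 1, 4], [1, 1, 4], [1, 1, 4], [1, 1, 4],
   [1, 1, 4], [1, 1, 4], [1, 1, 4], [1, 1, 4], [1, 1, 4], [1, 1, 4],
   [1, 1, 3], [1, 1, 4], [1, 1, 4], [1, 1, 4], [1, 1, 4], [1, 1, 4],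
   [1, 1, 4], [1, 1, 4], [1, 1, 4], [1, 1, 4], [1, 1, 4], [1, 1, 4],
   [1, 1, 4], [1, 1, 4], [1, 3, 5], [1, 1, 3], [1, 1, 7], [2, 2, 1, 25, 16, 25, 1, 25],
   [1, 1, 5], [2, 2, 1, 25, 16, 25, 1, 25], [2, 1, 1, 25, 16, 25, 1, 25], [2, 1, 1, 25, 16, 25, 1, 25], [1, 1, 6], [1, 1, 11],
   [2, 2, 1, 25, 16, 25, 1, 25], [2, 1, 1, 25, 16, 25, 1, 25], [2, 1, 1, 25, 16, 25, 1, 25], [1, 1, 12], [2, 2, 1, 25, 16, 25, 1, 25], [1, 1, 10],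
   [1, 1, 14], [1, 3, 5], [2, 2, 1, 25, 14, 25, 1, 25], [2, 2, 2, 25, 14, 25, 1, 25], [1, 1, 3], [2, 1, 4, 25, 14, 25, 1, 25],
   [1, 1, 12], [1, 1, 7], [1, 1, 6], [2, 2, 8, 25, 14, 25, 1, 25], [2, 2, 9, 25, 14, 25, 1, 25], [1, 1, 11],
   [1, 1, 10], [1, 1, 5], [2, 1, 13, 25, 14, 25, 1, 25], [1, 1, 14], [2, 1, 15, 25, 14, 25, 1, 25], [2, 1, 16, 25, 14, 25, 1, 25],
   [1, 1, 16], [1, 1, 3], [1, 1, 16], [1, 1, 16], [1, 1, 6], [1, 1, 16],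
   [1, 1, 16], [1, 1, 16], [1, 1, 16], [1, 1, 16], [1, 1, 16], [1, 1, 16],
   [1, 1, 16], [1, 1, 7], [1, 1, 16], [1, 1, 16], [1, 1, 5], [1, 1, 16],
   [1, 1, 16], [1, 1, 16], [1, 1, 3], [1, 1, 16], [1, 1, 7], [1, 1, 16],
   [1, 1, 16], [1, 1, 16], [1, 1, 16], [1, 1, 16], [1, 1, 16], [1, 1, 6],
   [1, 1, 16], [1, 1, 5], [1, 1, 16], [1, 1, 16], [1, 3, 5], [1, 1, 3],
   [1, 1, 6], [2, 2, 1, 25, 16, 25, 1, 25], [1, 1, 12], [2, 2, 1, 25, 16, 25, 1, 25], [0], [2, 2, 1, 25, 16, 25, 1, 25],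
   [1, 1, 7], [1, 1, 10], [2, 2, 1, 25, 16, 25, 1, 25], [2, 2, 1, 25, 16, 25, 1, 25], [2, 2, 1, 25, 16, 25, 1, 25], [1, 1, 5],
   [2, 2, 1, 25, 16, 25, 1, 25], [1, 1, 11], [1, 1, 14], [1, 3, 5], [2, 1, 1, 25, 14, 25, 1, 25], [2, 1, 2, 25, 14, 25, 1, 25],
   [1, 1, 3], [2, 1, 4, 25, 14, 25, 1, 25], [1, 1, 5], [1, 1, 6], [1, 1, 7], [2, 2, 8, 25, 14, 25, 1, 25],
   [2, 2, 9, 25, 14, 25, 1, 25], [1, 1, 10], [1, 1, 11], [1, 1, 12], [2, 1, 13, 25, 14, 25, 1, 25], [1, 1, 14],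
   [2, 2, 15, 25, 14, 25, 1, 25], [2, 2, 16, 25, 14, 25, 1, 25]]

def cert17 (j : ℕ) (b : Bool) (c2 : ℕ) : List ℕ :=
  certTab17.getD ((j * 2 + (if b then 0 else 1)) * 17 + c2) []

theorem hdl17 : ∀ k < 17, 0 < k → k = ((2 ^ dl17 k * (if sq17 k then 1 else 3)) % 17) := by
  decide

theorem hchk17 : ∀ j < 8, ∀ c2 < 17,
    Chk 17 8 2 3 dl17 sq17 7 true 6 false (cert17 j true c2) j true c2 ∧
    Chk 17 8 2 3 dl17 sq17 7 true 6 false (cert17 j false c2) j false c2 := by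
  decide +kernel

end Cfsg.Agent.Lib.Helper1.PSLp
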