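import Mathlib
import Cfsg.Agent.Lib.Helper1.PSLpA

set_option autoImplicit false

namespace Cfsg.Agent.Lib.Helper1.PSLp

def dl19 (k : ℕ) : ℕ := ([0, 0, 5, 2, 1, 8, 7, 3, 6, 4, 4, 6, 3, 7, 8, 1, 2, 5, 0] : List ℕ).getD k 0

def sq19 (k : ℕ) : Bool := ([true, true, false, false, true, true, true, true, false, true, false, true, false, false, false, false, true, true, false] : List Bool).getD k true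

def certTab19 : List (List ℕ) :=
  [[1, 1, 4], [1, 1, 2], [1, 1, 4], [1, 1, 4], [1, 1, 4], [1, 1, 4],
   [1, 1, 4], [1, 1, 4], [1, 1, 4], [1, 1, 4], [1, 1, 4], [1, 1, 4],
   [1, 1, 4], [1, 1, 4], [1, 1, 4], [1, 1, 4], [1, 1, 4], [1, 1, 4],
   [1, 1, 4], [1, 1, 4], [1, 1, 4], [1, 1, 4], [1, 1, 4], [1, 1, 4],
   [1, 1, 4], [1, 1, 4], [1, 1, 4], [1, 1, 4], [1, 1, 4], [1, 1, 4],
   [1, 1, 4], [1, 1, 4], [1, 1, 4], [1, 1, 4], [1, 1, 4], [1, 1, 4],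
   [1, 1, 4], [1, 1, 2], [1, 2, 3], [1, 1, 18], [2, 1, 17, 28, 18, 28, 1, 28], [2, 1, 16, 28, 18, 28, 1, 28],
   [1, 1, 14], [1, 1, 15], [1, 1, 3], [1, 1, 8], [2, 1, 11, 28, 18, 28, 1, 28], [1, 1, 2],
   [2, 2, 9, 28, 18, 28, 1, 28], [1, 1, 12], [2, 1, 7, 28, 18, 28, 1, 28], [2, 2, 6, 28, 18, 28, 1, 28], [2, 1, 5, 28, 18, 28, 1, 28], [2, 2, 4, 28, 18, 28, 1, 28],
   [1, 1, 13], [1, 1, 10], [2, 1, 1, 28, 18, 28, 1, 28], [1, 2, 3], [2, 2, 1, 28, 1, 28, 1, 28], [1, 1, 10],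
   [1, 1, 13], [2, 2, 1, 28, 1, 28, 1, 28], [2, 2, 1, 28, 1, 28, 1, 28], [2, 2, 1, 28, 1, 28, 1, 28], [2, 2, 1, 28, 1, 28, 1, 28], [1, 1, 12],
   [2, 3, 1, 28, 1, 28, 1, 28], [1, 1, 2], [2, 2, 1, 28, 1, 28, 1, 28], [1, 1, 8], [1, 1, 3], [1, 1, 15],
   [1, 1, 14], [2, 3, 1, 28, 1, 28, 1, 28], [2, 2, 1, 28, 1, 28, 1, 28], [1, 1, 18], [1, 2, 3], [1, 1, 18],
   [2, 2, 17, 28, 18, 28, 1, 28], [2, 2, 16, 28, 18, 28, 1, 28], [1, 1, 10], [1, 1, 2], [1, 1, 15], [1, 1, 12],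
   [2, 2, 11, 28, 18, 28, 1, 28], [1, 1, 13], [2, 1, 9, 28, 18, 28, 1, 28], [1, 1, 8], [2, 1, 7, 28, 18, 28, 1, 28], [2, 1, 6, 28, 18, 28, 1, 28],
   [2, 2, 5, 28, 18, 28, 1, 28], [2, 2, 4, 28, 18, 28, 1, 28], [1, 1, 14], [1, 1, 3], [2, 1, 1, 28, 18, 28, 1, 28], [1, 2, 3],
   [2, 2, 1, 28, 1, 28, 1, 28], [1, 1, 3], [1, 1, 14], [2, 2, 1, 28, 1, 28, 1, 28], [2, 3, 1, 28, 1, 28, 1, 28], [2, 2, 1, 28, 1, 28, 1, 28],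
   [2, 2, 1, 28, 1, 28, 1, 28], [1, 1, 8], [2, 2, 1, 28, 1, 28, 1, 28], [1, 1, 13], [2, 2, 1, 28, 1, 28, 1, 28], [1, 1, 12],
   [1, 1, 15], [1, 1, 2], [1, 1, 10], [2, 2, 1, 28, 1, 28, 1, 28], [2, 2, 1, 28, 1, 28, 1, 28], [1, 1, 18],
   [1, 1, 7], [1, 1, 7], [1, 1, 7], [1, 1, 7], [1, 1, 7], [1, 1, 7],
   [1, 1, 7], [1, 1, 2], [1, 1, 7], [1, 1, 7], [1, 1, 7], [1, 1, 7],
   [1, 1, 7], [1, 1, 7], [1, 1, 7], [1, 1, 7], [1, 1, 7], [1, 1, 7],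
   [1, 1, 7], [1, 1, 7], [1, 1, 7], [1, 1, 7], [1, 1, 7], [1, 1, 7],
   [1, 1, 7], [1, 1, 7], [1, 1, 7], [1, 1, 7], [1, 1, 7], [1, 1, 7],
   [1, 1, 7], [1, 1, 2], [1, 1, 7], [1, 1, 7], [1, 1, 7], [1, 1, 7],
   [1, 1, 7], [1, 1, 7], [1, 2, 3], [1, 1, 18], [2, 1, 17, 28, 18, 28, 1, 28], [2, 1, 16, 28, 18, 28, 1, 28],
   [1, 1, 3], [1, 1, 13], [1, 1, 2], [1, 1, 8], [2, 2, 11, 28, 18, 28, 1, 28], [1, 1, 14],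
   [2, 2, 9, 28, 18, 28, 1, 28], [1, 1, 12], [2, 1, 7, 28, 18, 28, 1, 28], [2, 1, 6, 28, 18, 28, 1, 28], [2, 1, 5, 28, 18, 28, 1, 28], [2, 1, 4, 28, 18, 28, 1, 28],
   [1, 1, 10], [1, 1, 15], [2, 2, 1, 28, 18, 28, 1, 28], [1, 2, 3], [2, 2, 1, 28, 1, 28, 1, 28], [1, 1, 15],
   [1, 1, 10], [2, 2, 1, 28, 1, 28, 1, 28], [2, 2, 1, 28, 1, 28, 1, 28], [2, 4, 1, 28, 1, 28, 1, 28], [2, 3, 1, 28, 1, 28, 1, 28], [1, 1, 12],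
   [2, 2, 1, 28, 1, 28, 1, 28], [1, 1, 14], [2, 2, 1, 28, 1, 28, 1, 28], [1, 1, 8], [1, 1, 2], [1, 1, 13],
   [1, 1, 3], [2, 2, 1, 28, 1, 28, 1, 28], [2, 2, 1, 28, 1, 28, 1, 28], [1, 1, 18], [1, 2, 3], [1, 1, 18],
   [2, 2, 17, 28, 18, 28, 1, 28], [2, 1, 16, 28, 18, 28, 1, 28], [1, 1, 13], [1, 1, 3], [1, 1, 10], [1, 1, 12],
   [2, 1, 11, 28, 18, 28, 1, 28], [1, 1, 15], [2, 1, 9, 28, 18, 28, 1, 28], [1, 1, 8], [2, 2, 7, 28, 18, 28, 1, 28], [2, 3, 6, 28, 18, 28, 1, 28],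
   [2, 2, 5, 28, 18, 28, 1, 28], [2, 1, 4, 28, 18, 28, 1, 28], [1, 1, 2], [1, 1, 14], [2, 2, 1, 28, 18, 28, 1, 28], [1, 2, 3],
   [2, 2, 1, 28, 1, 28, 1, 28], [1, 1, 14], [1, 1, 2], [2, 2, 1, 28, 1, 28, 1, 28], [2, 2, 1, 28, 1, 28, 1, 28], [2, 2, 1, 28, 1, 28, 1, 28],
   [2, 2, 1, 28, 1, 28, 1, 28], [1, 1, 8], [2, 2, 1, 28, 1, 28, 1, 28], [1, 1, 15], [2, 2, 1, 28, 1, 28, 1, 28], [1, 1, 12],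
   [1, 1, 10], [1, 1, 3], [1, 1, 13], [2, 3, 1, 28, 1, 28, 1, 28], [2, 2, 1, 28, 1, 28, 1, 28], [1, 1, 18],
   [1, 1, 7], [1, 1, 7], [1, 1, 7], [1, 1, 7], [1, 1, 7], [1, 1, 7],
   [1, 1, 7], [1, 1, 7], [1, 1, 7], [1, 1, 7], [1, 1, 7], [1, 1, 2],
   [1, 1, 7], [1, 1, 7], [1, 1, 7], [1, 1, 7], [1, 1, 7], [1, 1, 7],
   [1, 1, 7], [1, 1, 7], [1, 1, 7], [1, 1, 7], [1, 1, 7], [1, 1, 7],
   [1, 1, 7], [1, 1, 7], [1, 1, 7], [1, 1, 2], [1, 1, 7], [1, 1, 7],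
   [1, 1, 7], [1, 1, 7], [1, 1, 7], [1, 1, 7], [1, 1, 7], [1, 1, 7],
   [1, 1, 7], [1, 1, 7], [1, 2, 3], [1, 1, 18], [2, 1, 17, 28, 18, 28, 1, 28], [2, 3, 16, 28, 18, 28, 1, 28],
   [1, 1, 2], [1, 1, 10], [1, 1, 14], [1, 1, 8], [2, 1, 11, 28, 18, 28, 1, 28], [1, 1, 3],
   [2, 2, 9, 28, 18, 28, 1, 28], [1, 1, 12], [2, 1, 7, 28, 18, 28, 1, 28], [2, 1, 6, 28, 18, 28, 1, 28], [2, 1, 5, 28, 18, 28, 1, 28], [2, 2, 4, 28, 18, 28, 1, 28],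
   [1, 1, 15], [1, 1, 13], [2, 2, 1, 28, 18, 28, 1, 28], [1, 2, 3], [2, 2, 1, 28, 1, 28, 1, 28], [1, 1, 13],
   [1, 1, 15], [2, 3, 1, 28, 1, 28, 1, 28], [2, 2, 1, 28, 1, 28, 1, 28], [2, 2, 1, 28, 1, 28, 1, 28], [2, 2, 1, 28, 1, 28, 1, 28], [1, 1, 12],
   [2, 2, 1, 28, 1, 28, 1, 28], [1, 1, 3], [2, 3, 1, 28, 1, 28, 1, 28], [1, 1, 8], [1, 1, 14], [1, 1, 10],
   [1, 1, 2], [2, 2, 1, 28, 1, 28, 1, 28], [2, 2, 1, 28, 1, 28, 1, 28], [1, 1, 18], [1, 2, 3], [1, 1, 18],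
   [2, 2, 17, 28, 18, 28, 1, 28], [2, 1, 16, 28, 18, 28, 1, 28], [1, 1, 15], [1, 1, 14], [1, 1, 13], [1, 1, 12],
   [2, 2, 11, 28, 18, 28, 1, 28], [1, 1, 10], [2, 2, 9, 28, 18, 28, 1, 28], [1, 1, 8], [2, 2, 7, 28, 18, 28, 1, 28], [2, 2, 6, 28, 18, 28, 1, 28],
   [2, 1, 5, 28, 18, 28, 1, 28], [2, 2, 4, 28, 18, 28, 1, 28], [1, 1, 3], [1, 1, 2], [2, 1, 1, 28, 18, 28, 1, 28], [1, 2, 3],
   [0], [1, 1, 2], [1, 1, 3], [2, 2, 1, 28, 1, 28, 1, 28], [2, 2, 1, 28, 1, 28, 1, 28], [2, 2, 1, 28, 1, 28, 1, 28],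
   [2, 2, 1, 28, 1, 28, 1, 28], [1, 1, 8], [2, 2, 1, 28, 1, 28, 1, 28], [1, 1, 10], [2, 2, 1, 28, 1, 28, 1, 28], [1, 1, 12],
   [1, 1, 13], [1, 1, 14], [1, 1, 15], [2, 2, 1, 28, 1, 28, 1, 28], [2, 3, 1, 28, 1, 28, 1, 28], [1, 1, 18]]

def cert19 (j : ℕ) (b : Bool) (c2 : ℕ) : List ℕ :=
  certTab19.getD ((j * 2 + (if b then 0 else 1)) * 19 + c2) []

theorem hdl19 : ∀ k < 19, 0 < k → k = ((4 ^ dl19 k * (if sq19 k then 1 else 18)) % 19) := by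
  decide

theorem hchk19 : ∀ j < 9, ∀ c2 < 19,
    Chk 19 9 4 18 dl19 sq19 8 false 1 false (cert19 j true c2) j true c2 ∧
    Chk 19 9 4 18 dl19 sq19 8 false 1 false (cert19 j false c2) j false c2 := by
  decide +kernel

end Cfsg.Agent.Lib.Helper1.PSLp
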