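import Mathlib
import Cfsg.Agent.Lib.Helper1.PSLpA

set_option autoImplicit false

namespace Cfsg.Agent.Lib.Helper1.PSLp

def dl23 (k : ℕ) : ℕ := ([0, 0, 1, 8, 2, 6, 9, 4, 3, 5, 7, 10, 10, 7, 5, 3, 4, 9, 6, 2, 8, 1, 0] : List ℕ).getD k 0

def sq23 (k : ℕ) : Bool := ([true, true, true, true, true, false, true, false, true, true, false, false, true, true, false, false, true, false, true, false, false, false, false] : List Bool).getD k true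

def certTab23 : List (List ℕ) :=
  [[1, 1, 2], [1, 1, 2], [1, 1, 2], [1, 1, 2], [1, 1, 2], [1, 1, 2],
   [1, 1, 2], [1, 1, 2], [1, 1, 2], [1, 1, 2], [1, 1, 2], [1, 1, 2],
   [1, 1, 2], [1, 1, 2], [1, 1, 2], [1, 1, 2], [1, 1, 2], [1, 1, 2],
   [1, 1, 2], [1, 1, 2], [1, 1, 2], [1, 1, 2], [1, 1, 2], [1, 1, 2],
   [1, 1, 2], [1, 1, 2], [1, 1, 2], [1, 1, 2], [1, 1, 2], [1, 1, 2],
   [1, 1, 2], [1, 1, 2], [1, 1, 2], [1, 1, 2], [1, 1, 2], [1, 1, 2],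
   [1, 1, 2], [1, 1, 2], [1, 1, 2], [1, 1, 2], [1, 1, 2], [1, 1, 2],
   [1, 1, 2], [1, 1, 2], [1, 1, 2], [1, 1, 2], [1, 5, 7], [1, 1, 22],
   [1, 1, 11], [1, 1, 15], [1, 1, 17], [2, 1, 18, 34, 22, 34, 1, 34], [1, 1, 19], [2, 1, 16, 34, 22, 34, 1, 34],
   [1, 1, 20], [1, 1, 5], [2, 1, 13, 34, 22, 34, 1, 34], [2, 2, 12, 34, 22, 34, 1, 34], [1, 1, 21], [1, 1, 7],
   [2, 1, 9, 34, 22, 34, 1, 34], [2, 2, 8, 34, 22, 34, 1, 34], [1, 1, 10], [2, 1, 6, 34, 22, 34, 1, 34], [1, 1, 14], [2, 1, 4, 34, 22, 34, 1, 34],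
   [2, 2, 3, 34, 22, 34, 1, 34], [2, 2, 2, 34, 22, 34, 1, 34], [2, 2, 1, 34, 22, 34, 1, 34], [1, 5, 7], [2, 2, 1, 34, 1, 34, 1, 34], [2, 2, 1, 34, 1, 34, 1, 34],
   [2, 2, 1, 34, 1, 34, 1, 34], [2, 2, 1, 34, 1, 34, 1, 34], [1, 1, 14], [2, 2, 1, 34, 1, 34, 1, 34], [1, 1, 10], [2, 2, 1, 34, 1, 34, 1, 34],
   [2, 2, 1, 34, 1, 34, 1, 34], [1, 1, 7], [1, 1, 21], [2, 2, 1, 34, 1, 34, 1, 34], [2, 2, 1, 34, 1, 34, 1, 34], [1, 1, 5],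
   [1, 1, 20], [2, 2, 1, 34, 1, 34, 1, 34], [1, 1, 19], [2, 2, 1, 34, 1, 34, 1, 34], [1, 1, 17], [1, 1, 15],
   [1, 1, 11], [1, 1, 22], [1, 5, 7], [1, 1, 22], [1, 1, 14], [1, 1, 10],
   [1, 1, 11], [2, 2, 18, 34, 22, 34, 1, 34], [1, 1, 21], [2, 2, 16, 34, 22, 34, 1, 34], [1, 1, 7], [1, 1, 15],
   [2, 1, 13, 34, 22, 34, 1, 34], [2, 1, 12, 34, 22, 34, 1, 34], [1, 1, 5], [1, 1, 19], [2, 2, 9, 34, 22, 34, 1, 34], [2, 1, 8, 34, 22, 34, 1, 34],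
   [1, 1, 17], [2, 1, 6, 34, 22, 34, 1, 34], [1, 1, 20], [2, 2, 4, 34, 22, 34, 1, 34], [2, 2, 3, 34, 22, 34, 1, 34], [2, 1, 2, 34, 22, 34, 1, 34],
   [2, 1, 1, 34, 22, 34, 1, 34], [1, 5, 7], [2, 2, 1, 34, 1, 34, 1, 34], [2, 2, 1, 34, 1, 34, 1, 34], [2, 2, 1, 34, 1, 34, 1, 34], [2, 2, 1, 34, 1, 34, 1, 34],
   [1, 1, 20], [2, 2, 1, 34, 1, 34, 1, 34], [1, 1, 17], [2, 2, 1, 34, 1, 34, 1, 34], [2, 2, 1, 34, 1, 34, 1, 34], [1, 1, 19],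
   [1, 1, 5], [2, 2, 1, 34, 1, 34, 1, 34], [2, 2, 1, 34, 1, 34, 1, 34], [1, 1, 15], [1, 1, 7], [2, 2, 1, 34, 1, 34, 1, 34],
   [1, 1, 21], [2, 2, 1, 34, 1, 34, 1, 34], [1, 1, 11], [1, 1, 10], [1, 1, 14], [1, 1, 22],
   [1, 5, 7], [1, 1, 22], [1, 1, 10], [1, 1, 21], [1, 1, 15], [2, 1, 18, 34, 22, 34, 1, 34],
   [1, 1, 20], [2, 1, 16, 34, 22, 34, 1, 34], [1, 1, 11], [1, 1, 19], [2, 1, 13, 34, 22, 34, 1, 34], [2, 1, 12, 34, 22, 34, 1, 34],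
   [1, 1, 7], [1, 1, 14], [2, 1, 9, 34, 22, 34, 1, 34], [2, 1, 8, 34, 22, 34, 1, 34], [1, 1, 5], [2, 1, 6, 34, 22, 34, 1, 34],
   [1, 1, 17], [2, 1, 4, 34, 22, 34, 1, 34], [2, 1, 3, 34, 22, 34, 1, 34], [2, 1, 2, 34, 22, 34, 1, 34], [2, 1, 1, 34, 22, 34, 1, 34], [1, 5, 7],
   [2, 3, 1, 34, 1, 34, 1, 34], [2, 2, 1, 34, 1, 34, 1, 34], [2, 2, 1, 34, 1, 34, 1, 34], [2, 2, 1, 34, 1, 34, 1, 34], [1, 1, 17], [2, 2, 1, 34, 1, 34, 1, 34],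
   [1, 1, 5], [2, 2, 1, 34, 1, 34, 1, 34], [2, 2, 1, 34, 1, 34, 1, 34], [1, 1, 14], [1, 1, 7], [2, 2, 1, 34, 1, 34, 1, 34],
   [2, 2, 1, 34, 1, 34, 1, 34], [1, 1, 19], [1, 1, 11], [2, 2, 1, 34, 1, 34, 1, 34], [1, 1, 20], [2, 2, 1, 34, 1, 34, 1, 34],
   [1, 1, 15], [1, 1, 21], [1, 1, 10], [1, 1, 22], [1, 5, 7], [1, 1, 22],
   [1, 1, 20], [1, 1, 17], [1, 1, 14], [2, 1, 18, 34, 22, 34, 1, 34], [1, 1, 5], [2, 1, 16, 34, 22, 34, 1, 34],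
   [1, 1, 19], [1, 1, 10], [2, 1, 13, 34, 22, 34, 1, 34], [2, 1, 12, 34, 22, 34, 1, 34], [1, 1, 15], [1, 1, 21],
   [2, 1, 9, 34, 22, 34, 1, 34], [2, 1, 8, 34, 22, 34, 1, 34], [1, 1, 11], [2, 1, 6, 34, 22, 34, 1, 34], [1, 1, 7], [2, 1, 4, 34, 22, 34, 1, 34],
   [2, 1, 3, 34, 22, 34, 1, 34], [2, 1, 2, 34, 22, 34, 1, 34], [2, 1, 1, 34, 22, 34, 1, 34], [1, 5, 7], [2, 3, 1, 34, 1, 34, 1, 34], [2, 2, 1, 34, 1, 34, 1, 34],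
   [2, 2, 1, 34, 1, 34, 1, 34], [2, 2, 1, 34, 1, 34, 1, 34], [1, 1, 7], [2, 2, 1, 34, 1, 34, 1, 34], [1, 1, 11], [2, 2, 1, 34, 1, 34, 1, 34],
   [2, 2, 1, 34, 1, 34, 1, 34], [1, 1, 21], [1, 1, 15], [2, 2, 1, 34, 1, 34, 1, 34], [2, 2, 1, 34, 1, 34, 1, 34], [1, 1, 10],
   [1, 1, 19], [2, 2, 1, 34, 1, 34, 1, 34], [1, 1, 5], [2, 2, 1, 34, 1, 34, 1, 34], [1, 1, 14], [1, 1, 17],
   [1, 1, 20], [1, 1, 22], [1, 5, 7], [1, 1, 22], [1, 1, 19], [1, 1, 14],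
   [1, 1, 7], [2, 1, 18, 34, 22, 34, 1, 34], [1, 1, 10], [2, 2, 16, 34, 22, 34, 1, 34], [1, 1, 5], [1, 1, 11],
   [2, 2, 13, 34, 22, 34, 1, 34], [2, 1, 12, 34, 22, 34, 1, 34], [1, 1, 17], [1, 1, 15], [2, 2, 9, 34, 22, 34, 1, 34], [2, 2, 8, 34, 22, 34, 1, 34],
   [1, 1, 20], [2, 1, 6, 34, 22, 34, 1, 34], [1, 1, 21], [2, 1, 4, 34, 22, 34, 1, 34], [2, 1, 3, 34, 22, 34, 1, 34], [2, 2, 2, 34, 22, 34, 1, 34],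
   [2, 1, 1, 34, 22, 34, 1, 34], [1, 5, 7], [2, 2, 1, 34, 1, 34, 1, 34], [2, 2, 1, 34, 1, 34, 1, 34], [2, 2, 1, 34, 1, 34, 1, 34], [2, 2, 1, 34, 1, 34, 1, 34],
   [1, 1, 21], [2, 2, 1, 34, 1, 34, 1, 34], [1, 1, 20], [2, 2, 1, 34, 1, 34, 1, 34], [2, 2, 1, 34, 1, 34, 1, 34], [1, 1, 15],
   [1, 1, 17], [2, 2, 1, 34, 1, 34, 1, 34], [2, 2, 1, 34, 1, 34, 1, 34], [1, 1, 11], [1, 1, 5], [2, 2, 1, 34, 1, 34, 1, 34],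
   [1, 1, 10], [2, 2, 1, 34, 1, 34, 1, 34], [1, 1, 7], [1, 1, 14], [1, 1, 19], [1, 1, 22],
   [1, 5, 7], [1, 1, 22], [1, 1, 17], [1, 1, 5], [1, 1, 10], [2, 2, 18, 34, 22, 34, 1, 34],
   [1, 1, 7], [2, 2, 16, 34, 22, 34, 1, 34], [1, 1, 14], [1, 1, 21], [2, 2, 13, 34, 22, 34, 1, 34], [2, 2, 12, 34, 22, 34, 1, 34],
   [1, 1, 19], [1, 1, 20], [2, 2, 9, 34, 22, 34, 1, 34], [2, 2, 8, 34, 22, 34, 1, 34], [1, 1, 15], [2, 2, 6, 34, 22, 34, 1, 34],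
   [1, 1, 11], [2, 2, 4, 34, 22, 34, 1, 34], [2, 2, 3, 34, 22, 34, 1, 34], [2, 2, 2, 34, 22, 34, 1, 34], [2, 2, 1, 34, 22, 34, 1, 34], [1, 5, 7],
   [2, 2, 1, 34, 1, 34, 1, 34], [2, 2, 1, 34, 1, 34, 1, 34], [2, 2, 1, 34, 1, 34, 1, 34], [2, 2, 1, 34, 1, 34, 1, 34], [1, 1, 11], [2, 2, 1, 34, 1, 34, 1, 34],
   [1, 1, 15], [2, 2, 1, 34, 1, 34, 1, 34], [2, 2, 1, 34, 1, 34, 1, 34], [1, 1, 20], [1, 1, 19], [2, 2, 1, 34, 1, 34, 1, 34],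
   [2, 2, 1, 34, 1, 34, 1, 34], [1, 1, 21], [1, 1, 14], [2, 2, 1, 34, 1, 34, 1, 34], [1, 1, 7], [2, 2, 1, 34, 1, 34, 1, 34],
   [1, 1, 10], [1, 1, 5], [1, 1, 17], [1, 1, 22], [1, 5, 7], [1, 1, 22],
   [1, 1, 15], [1, 1, 19], [1, 1, 5], [2, 1, 18, 34, 22, 34, 1, 34], [1, 1, 14], [2, 2, 16, 34, 22, 34, 1, 34],
   [1, 1, 17], [1, 1, 7], [2, 2, 13, 34, 22, 34, 1, 34], [2, 1, 12, 34, 22, 34, 1, 34], [1, 1, 20], [1, 1, 11],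
   [2, 2, 9, 34, 22, 34, 1, 34], [2, 2, 8, 34, 22, 34, 1, 34], [1, 1, 21], [2, 1, 6, 34, 22, 34, 1, 34], [1, 1, 10], [2, 1, 4, 34, 22, 34, 1, 34],
   [2, 1, 3, 34, 22, 34, 1, 34], [2, 2, 2, 34, 22, 34, 1, 34], [2, 1, 1, 34, 22, 34, 1, 34], [1, 5, 7], [2, 2, 1, 34, 1, 34, 1, 34], [2, 2, 1, 34, 1, 34, 1, 34],
   [2, 2, 1, 34, 1, 34, 1, 34], [2, 2, 1, 34, 1, 34, 1, 34], [1, 1, 10], [2, 2, 1, 34, 1, 34, 1, 34], [1, 1, 21], [2, 2, 1, 34, 1, 34, 1, 34],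
   [2, 3, 1, 34, 1, 34, 1, 34], [1, 1, 11], [1, 1, 20], [2, 2, 1, 34, 1, 34, 1, 34], [2, 2, 1, 34, 1, 34, 1, 34], [1, 1, 7],
   [1, 1, 17], [2, 2, 1, 34, 1, 34, 1, 34], [1, 1, 14], [2, 2, 1, 34, 1, 34, 1, 34], [1, 1, 5], [1, 1, 19],
   [1, 1, 15], [1, 1, 22], [1, 5, 7], [1, 1, 22], [1, 1, 7], [1, 1, 11],
   [1, 1, 20], [2, 1, 18, 34, 22, 34, 1, 34], [1, 1, 15], [2, 1, 16, 34, 22, 34, 1, 34], [1, 1, 21], [1, 1, 17],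
   [2, 2, 13, 34, 22, 34, 1, 34], [2, 1, 12, 34, 22, 34, 1, 34], [1, 1, 10], [1, 1, 5], [2, 2, 9, 34, 22, 34, 1, 34], [2, 1, 8, 34, 22, 34, 1, 34],
   [1, 1, 14], [2, 2, 6, 34, 22, 34, 1, 34], [1, 1, 19], [2, 1, 4, 34, 22, 34, 1, 34], [2, 2, 3, 34, 22, 34, 1, 34], [2, 1, 2, 34, 22, 34, 1, 34],
   [2, 2, 1, 34, 22, 34, 1, 34], [1, 5, 7], [2, 2, 1, 34, 1, 34, 1, 34], [2, 3, 1, 34, 1, 34, 1, 34], [2, 2, 1, 34, 1, 34, 1, 34], [2, 2, 1, 34, 1, 34, 1, 34],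
   [1, 1, 19], [2, 2, 1, 34, 1, 34, 1, 34], [1, 1, 14], [2, 2, 1, 34, 1, 34, 1, 34], [2, 2, 1, 34, 1, 34, 1, 34], [1, 1, 5],
   [1, 1, 10], [2, 2, 1, 34, 1, 34, 1, 34], [2, 2, 1, 34, 1, 34, 1, 34], [1, 1, 17], [1, 1, 21], [2, 2, 1, 34, 1, 34, 1, 34],
   [1, 1, 15], [2, 2, 1, 34, 1, 34, 1, 34], [1, 1, 20], [1, 1, 11], [1, 1, 7], [1, 1, 22],
   [1, 5, 7], [1, 1, 22], [1, 1, 5], [1, 1, 7], [1, 1, 21], [2, 2, 18, 34, 22, 34, 1, 34],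
   [1, 1, 11], [2, 2, 16, 34, 22, 34, 1, 34], [1, 1, 10], [1, 1, 20], [2, 2, 13, 34, 22, 34, 1, 34], [2, 2, 12, 34, 22, 34, 1, 34],
   [1, 1, 14], [1, 1, 17], [2, 2, 9, 34, 22, 34, 1, 34], [2, 2, 8, 34, 22, 34, 1, 34], [1, 1, 19], [2, 2, 6, 34, 22, 34, 1, 34],
   [1, 1, 15], [2, 2, 4, 34, 22, 34, 1, 34], [2, 2, 3, 34, 22, 34, 1, 34], [2, 2, 2, 34, 22, 34, 1, 34], [2, 2, 1, 34, 22, 34, 1, 34], [1, 5, 7],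
   [2, 2, 1, 34, 1, 34, 1, 34], [2, 2, 1, 34, 1, 34, 1, 34], [2, 2, 1, 34, 1, 34, 1, 34], [2, 2, 1, 34, 1, 34, 1, 34], [1, 1, 15], [2, 2, 1, 34, 1, 34, 1, 34],
   [1, 1, 19], [2, 2, 1, 34, 1, 34, 1, 34], [2, 2, 1, 34, 1, 34, 1, 34], [1, 1, 17], [1, 1, 14], [2, 2, 1, 34, 1, 34, 1, 34],
   [2, 2, 1, 34, 1, 34, 1, 34], [1, 1, 20], [1, 1, 10], [2, 2, 1, 34, 1, 34, 1, 34], [1, 1, 11], [2, 2, 1, 34, 1, 34, 1, 34],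
   [1, 1, 21], [1, 1, 7], [1, 1, 5], [1, 1, 22], [1, 5, 7], [1, 1, 22],
   [1, 1, 21], [1, 1, 20], [1, 1, 19], [2, 1, 18, 34, 22, 34, 1, 34], [1, 1, 17], [2, 1, 16, 34, 22, 34, 1, 34],
   [1, 1, 15], [1, 1, 14], [2, 1, 13, 34, 22, 34, 1, 34], [2, 1, 12, 34, 22, 34, 1, 34], [1, 1, 11], [1, 1, 10],
   [2, 1, 9, 34, 22, 34, 1, 34], [2, 1, 8, 34, 22, 34, 1, 34], [1, 1, 7], [2, 1, 6, 34, 22, 34, 1, 34], [1, 1, 5], [2, 1, 4, 34, 22, 34, 1, 34],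
   [2, 1, 3, 34, 22, 34, 1, 34], [2, 1, 2, 34, 22, 34, 1, 34], [2, 1, 1, 34, 22, 34, 1, 34], [1, 5, 7], [0], [2, 2, 1, 34, 1, 34, 1, 34],
   [2, 2, 1, 34, 1, 34, 1, 34], [2, 2, 1, 34, 1, 34, 1, 34], [1, 1, 5], [2, 2, 1, 34, 1, 34, 1, 34], [1, 1, 7], [2, 2, 1, 34, 1, 34, 1, 34],
   [2, 2, 1, 34, 1, 34, 1, 34], [1, 1, 10], [1, 1, 11], [2, 2, 1, 34, 1, 34, 1, 34], [2, 2, 1, 34, 1, 34, 1, 34], [1, 1, 14],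
   [1, 1, 15], [2, 2, 1, 34, 1, 34, 1, 34], [1, 1, 17], [2, 2, 1, 34, 1, 34, 1, 34], [1, 1, 19], [1, 1, 20],
   [1, 1, 21], [1, 1, 22]]

def cert23 (j : ℕ) (b : Bool) (c2 : ℕ) : List ℕ :=
  certTab23.getD ((j * 2 + (if b then 0 else 1)) * 23 + c2) []

theorem hdl23 : ∀ k < 23, 0 < k → k = ((2 ^ dl23 k * (if sq23 k then 1 else 22)) % 23) := by
  decide

theorem hchk23 : ∀ j < 11, ∀ c2 < 23,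
    Chk 23 11 2 22 dl23 sq23 10 false 1 false (cert23 j true c2) j true c2 ∧
    Chk 23 11 2 22 dl23 sq23 10 false 1 false (cert23 j false c2) j false c2 := by
  decide +kernel

end Cfsg.Agent.Lib.Helper1.PSLp
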