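import Mathlib

set_option autoImplicit false

namespace Cfsg.Agent.Lib.Helper1.S6Idx

open Equiv

/-- the six synthematic totals -/
def tot : Fin 6 → List (Perm (Fin 6)) :=
  ![[swap 0 1 * swap 2 3 * swap 4 5,
     swap 0 2 * swap 1 4 * swap 3 5,
     swap 0 3 * swap 1 5 * swap 2 4,
     swap 0 4 * swap 1 3 * swap 2 5,
     swap 0 5 * swap 1 2 * swap 3 4],
    [swap 0 1 * swap 2 3 * swap 4 5,
     swap 0 2 * swap 1 5 * swap 3 4,
     swap 0 3 * swap 1 4 * swap 2 5,
     swap 0 4 * swap 1 2 * swap 3 5,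
     swap 0 5 * swap 1 3 * swap 2 4],
    [swap 0 1 * swap 2 4 * swap 3 5,
     swap 0 2 * swap 1 3 * swap 4 5,
     swap 0 3 * swap 1 4 * swap 2 5,
     swap 0 4 * swap 1 5 * swap 2 3,
     swap 0 5 * swap 1 2 * swap 3 4],
    [swap 0 1 * swap 2 4 * swap 3 5,
     swap 0 2 * swap 1 5 * swap 3 4,
     swap 0 3 * swap 1 2 * swap 4 5,
     swap 0 4 * swap 1 3 * swap 2 5,
     swap 0 5 * swap 1 4 * swap 2 3],
    [swap 0 1 * swap 2 5 * swap 3 4,
     swap 0 2 * swap 1 3 * swap 4 5,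
     swap 0 3 * swap 1 5 * swap 2 4,
     swap 0 4 * swap 1 2 * swap 3 5,
     swap 0 5 * swap 1 4 * swap 2 3],
    [swap 0 1 * swap 2 5 * swap 3 4,
     swap 0 2 * swap 1 4 * swap 3 5,
     swap 0 3 * swap 1 2 * swap 4 5,
     swap 0 4 * swap 1 5 * swap 2 3,
     swap 0 5 * swap 1 3 * swap 2 4]]

/-- a permutation stabilizes a total -/
def stabB (i : Fin 6) (σ : Perm (Fin 6)) : Bool :=
  (tot i).all (fun s => (tot i).contains (σ * s * σ⁻¹))

/-- witnesses separating the stabilizers of the totals -/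
def wit : Fin 6 → Fin 6 → Perm (Fin 6) :=
  ![![1, swap 1 2 * swap 3 4, swap 2 3 * swap 4 5, swap 2 3 * swap 4 5, swap 2 3 * swap 4 5, swap 2 3 * swap 4 5],
    ![swap 1 2 * swap 3 5, 1, swap 2 3 * swap 4 5, swap 2 3 * swap 4 5, swap 2 3 * swap 4 5, swap 2 3 * swap 4 5],
    ![swap 2 3 * swap 3 4 * swap 4 5, swap 2 3 * swap 3 4 * swap 4 5, 1, swap 1 2 * swap 3 4, swap 2 3 * swap 3 4 * swap 4 5, swap 2 3 * swap 3 4 * swap 4 5],
    ![swap 2 3 * swap 3 4 * swap 4 5, swap 2 3 * swap 3 4 * swap 4 5, swap 1 2 * swap 4 5, 1, swap 2 3 * swap 3 4 * swap 4 5, swap 2 3 * swap 3 4 * swap 4 5],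
    ![swap 2 3 * swap 3 5 * swap 5 4, swap 2 3 * swap 3 5 * swap 5 4, swap 2 3 * swap 3 5 * swap 5 4, swap 2 3 * swap 3 5 * swap 5 4, 1, swap 1 2 * swap 3 5],
    ![swap 2 3 * swap 3 5 * swap 5 4, swap 2 3 * swap 3 5 * swap 5 4, swap 2 3 * swap 3 5 * swap 5 4, swap 2 3 * swap 3 5 * swap 5 4, swap 1 2 * swap 4 5, 1]]

/-- fixed-point-free elements of the stabilizers of the totals -/
def fpf : Fin 6 → Perm (Fin 6) := ![swap 0 1 * swap 2 4 * swap 3 5, swap 0 1 * swap 2 4 * swap 3 5, swap 0 1 * swap 2 3 * swap 4 5, swap 0 1 * swap 2 3 * swap 4 5, swap 0 1 * swap 2 3 * swap 4 5, swap 0 1 * swap 2 3 * swap 4 5]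

/-- relations of an element of order five -/
def relC (c : Perm (Fin 6)) : Bool := decide (c ≠ 1) && decide (c ^ 5 = 1)

/-- relations of an involution -/
def relT (t : Perm (Fin 6)) : Bool := decide (t ≠ 1) && decide (t ^ 2 = 1)

/-- the mixed relations -/
def relX (t c : Perm (Fin 6)) : Bool :=
  decide ((t * c) ^ 4 = 1) && (decide ((t * c⁻¹ * t * c) ^ 3 = 1)
    && decide ((t * (c ^ 2)⁻¹ * t * c ^ 2) ^ 2 = 1))

/-- the conclusion: a common fixed point or a common stabilized total -/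
def concl (t c : Perm (Fin 6)) : Bool :=
  (List.finRange 6).any (fun p => decide (t p = p) && decide (c p = p))
    || (List.finRange 6).any (fun i => stabB i t && stabB i c)

set_option maxRecDepth 100000 in
theorem d1_0 : (Finset.univ.filter (fun σ : Perm (Fin 6) => stabB 0 σ = true)).card = 120 := by
  decide +kernel

set_option maxRecDepth 100000 in
theorem d1_1 : (Finset.univ.filter (fun σ : Perm (Fin 6) => stabB 1 σ = true)).card = 120 := by
  decide +kernel

set_option maxRecDepth 100000 in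
theorem d1_2 : (Finset.univ.filter (fun σ : Perm (Fin 6) => stabB 2 σ = true)).card = 120 := by
  decide +kernel

set_option maxRecDepth 100000 in
theorem d1_3 : (Finset.univ.filter (fun σ : Perm (Fin 6) => stabB 3 σ = true)).card = 120 := by
  decide +kernel

set_option maxRecDepth 100000 in
theorem d1_4 : (Finset.univ.filter (fun σ : Perm (Fin 6) => stabB 4 σ = true)).card = 120 := by
  decide +kernel

set_option maxRecDepth 100000 in
theorem d1_5 : (Finset.univ.filter (fun σ : Perm (Fin 6) => stabB 5 σ = true)).card = 120 := by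
  decide +kernel

set_option maxRecDepth 100000 in
theorem d3b : ∀ i j : Fin 6, i ≠ j → stabB i (wit i j) = true ∧ stabB j (wit i j) = false := by
  decide +kernel

set_option maxRecDepth 100000 in
theorem d3c : ∀ i : Fin 6, stabB i (fpf i) = true ∧ ∀ p : Fin 6, fpf i p ≠ p := by
  decide +kernel

set_option maxRecDepth 100000 in
theorem d3a : ∀ p q : Fin 6, p ≠ q → swap q (if p = 0 ∨ q = 0 then (if p = 1 ∨ q = 1 then 2 else 1) else 0) p = p
    ∧ swap q (if p = 0 ∨ q = 0 then (if p = 1 ∨ q = 1 then 2 else 1) else 0) q ≠ q := by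
  decide +kernel

theorem s5rel : (swap (0 : Fin 5) 1 ≠ 1 ∧ swap (0 : Fin 5) 1 ^ 2 = 1) ∧
    (finRotate 5 ≠ 1 ∧ finRotate 5 ^ 5 = 1) ∧
    ((swap (0 : Fin 5) 1 * finRotate 5) ^ 4 = 1 ∧
      (swap (0 : Fin 5) 1 * (finRotate 5)⁻¹ * swap (0 : Fin 5) 1 * finRotate 5) ^ 3 = 1 ∧
      (swap (0 : Fin 5) 1 * (finRotate 5 ^ 2)⁻¹ * swap (0 : Fin 5) 1 * finRotate 5 ^ 2) ^ 2 = 1) := by
  decide +kernel


end Cfsg.Agent.Lib.Helper1.S6Idx
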