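import Mathlib
import Cfsg.Prelude.Def_Involutions
import Cfsg.Agent.Lib.Helper1.Inv

set_option autoImplicit false
open Pointwise

namespace Cfsg.Agent.Lib.Helper1

theorem stronglyEmbedded_iff_conj {G : Type*} [Group G] [Finite G] (H : Subgroup G) (hH : H ≠ ⊤)
    (heven : Even (Nat.card H)) :
    Cfsg.IsStronglyEmbedded H ↔ ∀ g : G, g ∉ H → ∀ h ∈ H, orderOf h = 2 → g * h * g⁻¹ ∉ H := by
  have : Fact (Nat.Prime 2) := ⟨Nat.prime_two⟩
  constructor
  · rintro ⟨-, -, hodd⟩ g hg h hh h2 hmem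
    have hm : g * h * g⁻¹ ∈ H ⊓ H.map (MulAut.conj g).toMonoidHom := ⟨hmem, ⟨h, hh, rfl⟩⟩
    have ho : orderOf (⟨g * h * g⁻¹, hm⟩ : ↥(H ⊓ H.map (MulAut.conj g).toMonoidHom)) = 2 := by
      rw [Subgroup.orderOf_mk]
      exact orderOf_conj_two h2 g
    have hd := orderOf_dvd_natCard (⟨g * h * g⁻¹, hm⟩ : ↥(H ⊓ H.map (MulAut.conj g).toMonoidHom))
    rw [ho] at hd
    exact (hodd g hg).not_two_dvd_nat hd
  · intro hyp
    refine ⟨hH, heven, fun g hg => ?_⟩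
    by_contra hodd
    rw [Nat.not_odd_iff_even] at hodd
    obtain ⟨t, ht⟩ := exists_prime_orderOf_dvd_card' 2 hodd.two_dvd
    obtain ⟨h, hh, hht⟩ := t.2.2
    have ht2 : orderOf (t : G) = 2 := by rw [Subgroup.orderOf_coe]; exact ht
    have hht' : g * h * g⁻¹ = (t : G) := hht
    have hh2 : orderOf h = 2 := by
      have : h = g⁻¹ * (t : G) * g⁻¹⁻¹ := by rw [← hht']; group
      rw [this]
      exact orderOf_conj_two ht2 g⁻¹
    apply hyp g hg h hh hh2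
    rw [hht']
    exact t.2.1

end Cfsg.Agent.Lib.Helper1
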