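import Mathlib
import Cfsg.Agent.Lib.Helper1.Inv
import Cfsg.Agent.Lib.Helper1.SE

set_option autoImplicit false

namespace Cfsg.Agent.Lib.Helper1.SEmb

open Cfsg.Agent.Lib.Helper1

theorem normalizer_le_of_two_subgroup {G : Type*} [Group G] [Finite G] (H : Subgroup G)
    (P : Sylow 2 ↥H)
    (hyp : ∀ X : Subgroup ↥H, X ≤ (P : Subgroup ↥H) → X ≠ ⊥ →
      Subgroup.normalizer ((X.map H.subtype : Subgroup G) : Set G) ≤ H)
    (X : Subgroup G) (hXH : X ≤ H) (hX2 : IsPGroup 2 X) (hXne : X ≠ ⊥) :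
    Subgroup.normalizer (X : Set G) ≤ H := by
  haveI : Fact (Nat.Prime 2) := ⟨Nat.prime_two⟩
  have hXH2 : IsPGroup 2 (X.subgroupOf H) :=
    hX2.comap_of_injective H.subtype H.subtype_injective
  obtain ⟨Q, hQ⟩ := hXH2.exists_le_sylow
  obtain ⟨h, hh⟩ := MulAction.exists_smul_eq ↥H Q P
  have hmem : ∀ z : G,
      z ∈ ((X.subgroupOf H).map (MulAut.conj h).toMonoidHom).map H.subtype ↔
        (h : G)⁻¹ * z * (h : G) ∈ X := by
    intro z
    constructor
    · rintro ⟨y, ⟨x', hx', rfl⟩, rfl⟩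
      have e : (h : G)⁻¹ * (H.subtype ((MulAut.conj h).toMonoidHom x')) * (h : G) = (x' : G) := by
        show (h : G)⁻¹ * ((h : G) * (x' : G) * (h : G)⁻¹) * (h : G) = (x' : G)
        group
      rw [e]
      exact hx'
    · intro hz
      refine ⟨(MulAut.conj h).toMonoidHom ⟨(h : G)⁻¹ * z * (h : G), hXH hz⟩,
        ⟨⟨(h : G)⁻¹ * z * (h : G), hXH hz⟩, hz, rfl⟩, ?_⟩
      show (h : G) * ((h : G)⁻¹ * z * (h : G)) * (h : G)⁻¹ = z
      group
  have hYP : (X.subgroupOf H).map (MulAut.conj h).toMonoidHom ≤ (P : Subgroup ↥H) := by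
    rintro y ⟨x', hx', rfl⟩
    have h1 : x' ∈ Q := hQ hx'
    show (MulAut.conj h).toMonoidHom x' ∈ P
    rw [← hh, mem_sylow_smul_iff]
    have e : h⁻¹ * (MulAut.conj h).toMonoidHom x' * h = x' := by
      show h⁻¹ * (h * x' * h⁻¹) * h = x'
      group
    rw [e]
    exact h1
  have hYne : (X.subgroupOf H).map (MulAut.conj h).toMonoidHom ≠ ⊥ := by
    intro hbot
    apply hXne
    rw [Subgroup.eq_bot_iff_forall]
    intro x hx
    have h1 : (MulAut.conj h).toMonoidHom ⟨x, hXH hx⟩ ∈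
        (X.subgroupOf H).map (MulAut.conj h).toMonoidHom := ⟨_, hx, rfl⟩
    rw [hbot, Subgroup.mem_bot] at h1
    have h2 : h * (⟨x, hXH hx⟩ : ↥H) * h⁻¹ = 1 := h1
    have h3 : (⟨x, hXH hx⟩ : ↥H) = 1 := conj_eq_one_iff.mp h2
    exact congrArg Subtype.val h3
  have hN := hyp _ hYP hYne
  intro n hn
  have hm : (h : G) * n * (h : G)⁻¹ ∈ Subgroup.normalizer
      ((((X.subgroupOf H).map (MulAut.conj h).toMonoidHom).map H.subtype : Subgroup G) :
        Set G) := by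
    rw [Subgroup.mem_normalizer_iff]
    intro z
    rw [hmem, hmem]
    have h3 := (Subgroup.mem_normalizer_iff.mp hn) ((h : G)⁻¹ * z * (h : G))
    rw [h3]
    have e : n * ((h : G)⁻¹ * z * (h : G)) * n⁻¹ =
        (h : G)⁻¹ * ((h : G) * n * (h : G)⁻¹ * z * ((h : G) * n * (h : G)⁻¹)⁻¹) * (h : G) := by
      group
    rw [e]
  have h4 := hN hm
  have e : n = (h : G)⁻¹ * ((h : G) * n * (h : G)⁻¹) * (h : G) := by group
  rw [e]
  exact H.mul_mem (H.mul_mem (H.inv_mem h.2) h4) h.2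

theorem le_of_inf_ne_bot {G : Type*} [Group G] [Finite G] (H : Subgroup G)
    (hstar : ∀ X : Subgroup G, X ≤ H → IsPGroup 2 X → X ≠ ⊥ →
      Subgroup.normalizer (X : Set G) ≤ H)
    (S : Subgroup G) (hS : IsPGroup 2 S) (s : G) (hsS : s ∈ S) (hsH : s ∈ H) (hs1 : s ≠ 1) :
    S ≤ H := by
  haveI : Fact (Nat.Prime 2) := ⟨Nat.prime_two⟩
  by_contra hle
  have hne : S ⊓ H ≠ S := by
    intro h
    apply hle
    rw [← h]
    exact inf_le_right
  obtain ⟨n, hnS, hnX, hnn⟩ := exists_normalizing_not_mem (S ⊓ H) S hS inf_le_left hne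
  have hbot : S ⊓ H ≠ ⊥ := by
    intro h
    have h1 : s ∈ S ⊓ H := ⟨hsS, hsH⟩
    rw [h, Subgroup.mem_bot] at h1
    exact hs1 h1
  have hnN : n ∈ Subgroup.normalizer ((S ⊓ H : Subgroup G) : Set G) :=
    Subgroup.mem_normalizer_fintype hnn
  have h2 := hstar (S ⊓ H) inf_le_right (hS.to_le inf_le_left) hbot hnN
  exact hnX ⟨hnS, h2⟩

theorem mem_of_conj_invol {G : Type*} [Group G] [Finite G] (H : Subgroup G)
    (hstar : ∀ X : Subgroup G, X ≤ H → IsPGroup 2 X → X ≠ ⊥ →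
      Subgroup.normalizer (X : Set G) ≤ H)
    (g s : G) (hs : orderOf s = 2) (hsH : s ∈ H) (htH : g * s * g⁻¹ ∈ H) : g ∈ H := by
  haveI : Fact (Nat.Prime 2) := ⟨Nat.prime_two⟩
  have hpg : IsPGroup 2 (Subgroup.zpowers s) :=
    IsPGroup.of_card (n := 1) (by rw [Nat.card_zpowers, hs, pow_one])
  obtain ⟨S, hS⟩ := hpg.exists_le_sylow
  have hsS : s ∈ S := hS (Subgroup.mem_zpowers s)
  have hs1 : s ≠ 1 := ne_one_of_orderOf_two hs
  have h1 : (S : Subgroup G) ≤ H := le_of_inf_ne_bot H hstar S S.2 s hsS hsH hs1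
  have htS : g * s * g⁻¹ ∈ g • S := by
    rw [mem_sylow_smul_iff]
    have e : g⁻¹ * (g * s * g⁻¹) * g = s := by group
    rw [e]
    exact hsS
  have ht1 : g * s * g⁻¹ ≠ 1 := by
    intro h
    exact hs1 (conj_eq_one_iff.mp h)
  have h2 : ((g • S : Sylow 2 G) : Subgroup G) ≤ H :=
    le_of_inf_ne_bot H hstar _ (g • S).2 _ htS htH ht1
  obtain ⟨h, hh⟩ := MulAction.exists_smul_eq ↥H ((g • S).subtype h2) (S.subtype h1)
  simp_rw [Sylow.smul_subtype, Subgroup.smul_def, smul_smul] at hh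
  have h3 : (h : G) * g ∈ Subgroup.normalizer ((S : Subgroup G) : Set G) :=
    Sylow.smul_eq_iff_mem_normalizer.mp (Sylow.subtype_injective hh)
  have hSne : (S : Subgroup G) ≠ ⊥ := by
    intro hb
    have h5 : s ∈ (S : Subgroup G) := hsS
    rw [hb, Subgroup.mem_bot] at h5
    exact hs1 h5
  have h4 := hstar S h1 S.2 hSne h3
  have e : g = (h : G)⁻¹ * ((h : G) * g) := by group
  rw [e]
  exact H.mul_mem (H.inv_mem h.2) h4

theorem two_dvd_card_of_ne_bot {G : Type*} [Group G] [Finite G] (X : Subgroup G)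
    (hX2 : IsPGroup 2 X) (hXne : X ≠ ⊥) : 2 ∣ Nat.card X := by
  obtain ⟨k, hk⟩ := hX2.exists_card_eq
  have hk0 : k ≠ 0 := by
    rintro rfl
    rw [pow_zero] at hk
    exact hXne (Subgroup.card_eq_one.mp hk)
  rw [hk]
  exact dvd_pow_self 2 hk0

theorem strongly_embedded_iff_normalizers {G : Type*} [Group G] [Finite G] (H : Subgroup G)
    (hH : H ≠ ⊤) (P : Sylow 2 ↥H) (hP : (P : Subgroup ↥H) ≠ ⊥) :
    Cfsg.IsStronglyEmbedded H ↔ (∀ X : Subgroup ↥H, X ≤ (P : Subgroup ↥H) → X ≠ ⊥ →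
      Subgroup.normalizer ((X.map H.subtype : Subgroup G) : Set G) ≤ H) := by
  haveI : Fact (Nat.Prime 2) := ⟨Nat.prime_two⟩
  have heven : Even (Nat.card H) := by
    have h2 := two_dvd_card_of_ne_bot (P : Subgroup ↥H) P.2 hP
    exact even_iff_two_dvd.mpr (h2.trans (Subgroup.card_subgroup_dvd_card _))
  rw [stronglyEmbedded_iff_conj H hH heven]
  constructor
  · intro hse X hXP hXne g hg
    by_contra hgH
    have hX2 : IsPGroup 2 X := P.2.to_le hXP
    have h2 := two_dvd_card_of_ne_bot X hX2 hXne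
    obtain ⟨x, hx⟩ := exists_prime_orderOf_dvd_card' (G := X) 2 h2
    have hxG : orderOf (((x : ↥H) : G)) = 2 := by
      rw [Subgroup.orderOf_coe, Subgroup.orderOf_coe]
      exact hx
    have hxm : (((x : ↥H) : G)) ∈ X.map H.subtype := ⟨(x : ↥H), x.2, rfl⟩
    have hc : g * ((x : ↥H) : G) * g⁻¹ ∈ X.map H.subtype :=
      (Subgroup.mem_normalizer_iff.mp hg _).mp hxm
    have hcH : g * ((x : ↥H) : G) * g⁻¹ ∈ H := by
      obtain ⟨y, -, hy⟩ := hc
      rw [← hy]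
      exact y.2
    exact hse g hgH _ (x : ↥H).2 hxG hcH
  · intro hyp g hgH h hhH hh2 hc
    exact hgH (mem_of_conj_invol H (normalizer_le_of_two_subgroup H P hyp) g h hh2 hhH hc)

end Cfsg.Agent.Lib.Helper1.SEmb
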