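import Mathlib
import Cfsg.Agent.S0012
import Cfsg.Agent.S0013
import Cfsg.Agent.S0065
import Cfsg.Agent.S0130

set_option autoImplicit false

namespace Cfsg.Agent.Lib.Helper1.Spec

open scoped commutatorElement

variable {G : Type*} [Group G]

theorem char_central (A : Subgroup (MulAut G))
    (hGA : Subgroup.closure {x : G | ∃ g : G, ∃ a ∈ A, x = g⁻¹ * a g} = ⊤)
    (hchar : ∀ H : Subgroup G, H.Characteristic → IsMulCommutative H → ∀ a ∈ A, ∀ h ∈ H, a h = h)
    (H : Subgroup G) (hH : H.Characteristic) (hab : ∀ x ∈ H, ∀ y ∈ H, x * y = y * x) :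
    H ≤ Subgroup.center G := by
  intro h hh
  have hmc : IsMulCommutative H := ⟨⟨fun a b => Subtype.ext (hab a.1 a.2 b.1 b.2)⟩⟩
  have hfix := hchar H hH hmc
  haveI := hH
  have hle : Subgroup.closure {x : G | ∃ g : G, ∃ a ∈ A, x = g⁻¹ * a g} ≤
      Subgroup.centralizer {h} := by
    rw [Subgroup.closure_le]
    rintro x ⟨g, a, ha, rfl⟩
    rw [SetLike.mem_coe, Subgroup.mem_centralizer_singleton_iff]
    have h1 : a (g * h * g⁻¹) = g * h * g⁻¹ :=
      hfix a ha _ (Subgroup.Normal.conj_mem inferInstance h hh g)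
    rw [map_mul, map_mul, map_inv, hfix a ha h hh] at h1
    calc g⁻¹ * a g * h = g⁻¹ * (a g * h * (a g)⁻¹) * a g := by group
      _ = g⁻¹ * (g * h * g⁻¹) * a g := by rw [h1]
      _ = h * (g⁻¹ * a g) := by group
  rw [hGA] at hle
  rw [Subgroup.mem_center_iff]
  intro g
  have h2 := hle (Subgroup.mem_top g)
  rw [Subgroup.mem_centralizer_singleton_iff] at h2
  exact h2

theorem fixed_mem [Finite G] {p : ℕ} [Fact p.Prime] (hG : IsPGroup p G) (A : Subgroup (MulAut G))
    (hA : Nat.Coprime (Nat.card A) p)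
    (hGA : Subgroup.closure {x : G | ∃ g : G, ∃ a ∈ A, x = g⁻¹ * a g} = ⊤)
    (N : Subgroup G) [N.Normal] (hN : commutator G ≤ N) (z : G) (hz : ∀ a ∈ A, a z = z) :
    z ∈ N := by
  classical
  haveI : Finite (MulAut G) := Finite.of_injective (fun f : MulAut G => (f : G → G))
    (fun f g h => MulEquiv.ext (congrFun h))
  letI : Fintype A := Fintype.ofFinite A
  have hcomm : ∀ x y : G ⧸ N, x * y = y * x := by
    intro x y
    induction x using QuotientGroup.induction_on with | _ a =>
    induction y using QuotientGroup.induction_on with | _ b =>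
    rw [← QuotientGroup.mk_mul, ← QuotientGroup.mk_mul, QuotientGroup.eq]
    apply hN
    have e : (a * b)⁻¹ * (b * a) = ⁅b⁻¹, a⁻¹⁆ := by
      rw [commutatorElement_def]
      group
    rw [e]
    exact Subgroup.commutator_mem_commutator (Subgroup.mem_top _) (Subgroup.mem_top _)
  letI : CommGroup (G ⧸ N) := { (inferInstance : Group (G ⧸ N)) with mul_comm := hcomm }
  let ν : G →* G ⧸ N := MonoidHom.mk' (fun g => ∏ a : A, (QuotientGroup.mk' N) ((a : MulAut G) g))
    (by
      intro g h
      rw [← Finset.prod_mul_distrib]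
      exact Finset.prod_congr rfl (fun a _ => by rw [map_mul, map_mul]))
  have hν : ∀ g, ν g = ∏ a : A, (QuotientGroup.mk' N) ((a : MulAut G) g) := fun g => rfl
  have hνa : ∀ a₀ ∈ A, ∀ g, ν (a₀ g) = ν g := by
    intro a₀ ha₀ g
    rw [hν, hν]
    exact Fintype.prod_equiv (Equiv.mulRight ⟨a₀, ha₀⟩) _ _ (fun a => rfl)
  have hker : ν.ker = ⊤ := by
    rw [eq_top_iff, ← hGA, Subgroup.closure_le]
    rintro x ⟨g, a, ha, rfl⟩
    rw [SetLike.mem_coe, MonoidHom.mem_ker, map_mul, map_inv, hνa a ha, inv_mul_cancel]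
  have hνz : ν z = 1 := by
    rw [← MonoidHom.mem_ker, hker]
    exact Subgroup.mem_top z
  have h1 : (QuotientGroup.mk' N z) ^ (Fintype.card A) = 1 := by
    rw [← hνz, hν]
    rw [Finset.prod_congr rfl (fun (a : A) _ => by rw [hz a.1 a.2]), Finset.prod_const,
      Finset.card_univ]
  obtain ⟨k, hk⟩ := (hG.to_quotient N) (QuotientGroup.mk' N z)
  have h2 : orderOf (QuotientGroup.mk' N z) ∣ Fintype.card A := orderOf_dvd_of_pow_eq_one h1
  have h3 : orderOf (QuotientGroup.mk' N z) ∣ p ^ k := orderOf_dvd_of_pow_eq_one hk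
  have h4 : Nat.Coprime (Fintype.card A) (p ^ k) := by
    rw [← Nat.card_eq_fintype_card]
    exact Nat.Coprime.pow_right k hA
  have h5 : orderOf (QuotientGroup.mk' N z) = 1 := Nat.eq_one_of_dvd_coprimes h4 h2 h3
  rw [orderOf_eq_one_iff] at h5
  exact (QuotientGroup.eq_one_iff z).1 h5

theorem comm_le_center [Finite G] {p : ℕ} [Fact p.Prime] (hG : IsPGroup p G)
    (A : Subgroup (MulAut G))
    (hGA : Subgroup.closure {x : G | ∃ g : G, ∃ a ∈ A, x = g⁻¹ * a g} = ⊤)
    (hchar : ∀ H : Subgroup G, H.Characteristic → IsMulCommutative H → ∀ a ∈ A, ∀ h ∈ H, a h = h) :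
    commutator G ≤ Subgroup.center G := by
  have hZ2 : ∀ x : G, x ∈ (Subgroup.center (G ⧸ Subgroup.center G)).comap
      (QuotientGroup.mk' (Subgroup.center G)) ↔
        ∀ g, x * g * x⁻¹ * g⁻¹ ∈ Subgroup.center G := by
    intro x
    rw [Subgroup.mem_comap, Subgroup.mem_center_iff]
    constructor
    · intro h g
      have h1 := h (QuotientGroup.mk' (Subgroup.center G) g)
      rw [← QuotientGroup.eq_one_iff]
      have h2 : ((x * g * x⁻¹ * g⁻¹ : G) : G ⧸ Subgroup.center G) =
          QuotientGroup.mk' (Subgroup.center G) x * QuotientGroup.mk' (Subgroup.center G) g *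
            (QuotientGroup.mk' (Subgroup.center G) x)⁻¹ *
              (QuotientGroup.mk' (Subgroup.center G) g)⁻¹ := rfl
      rw [h2, ← h1]
      group
    · intro h y
      induction y using QuotientGroup.induction_on with | _ g =>
      have h1 := (QuotientGroup.eq_one_iff _).2 (h g)
      have h2 : ((x * g * x⁻¹ * g⁻¹ : G) : G ⧸ Subgroup.center G) =
          QuotientGroup.mk' (Subgroup.center G) x * QuotientGroup.mk' (Subgroup.center G) g *
            (QuotientGroup.mk' (Subgroup.center G) x)⁻¹ *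
              (QuotientGroup.mk' (Subgroup.center G) g)⁻¹ := rfl
      rw [h2] at h1
      change QuotientGroup.mk' (Subgroup.center G) g * QuotientGroup.mk' (Subgroup.center G) x =
        QuotientGroup.mk' (Subgroup.center G) x * QuotientGroup.mk' (Subgroup.center G) g
      calc QuotientGroup.mk' (Subgroup.center G) g * QuotientGroup.mk' (Subgroup.center G) x
          = (QuotientGroup.mk' (Subgroup.center G) x * QuotientGroup.mk' (Subgroup.center G) g *
            (QuotientGroup.mk' (Subgroup.center G) x)⁻¹ *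
              (QuotientGroup.mk' (Subgroup.center G) g)⁻¹)⁻¹ *
              (QuotientGroup.mk' (Subgroup.center G) x *
                QuotientGroup.mk' (Subgroup.center G) g) := by group
        _ = _ := by rw [h1, inv_one, one_mul]
  have key : ∀ y ∈ (Subgroup.center (G ⧸ Subgroup.center G)).comap
      (QuotientGroup.mk' (Subgroup.center G)), ∀ x ∈ commutator G, y * x = x * y := by
    intro y hy
    let φ : G →* Subgroup.center G := MonoidHom.mk'
      (fun g => ⟨y * g * y⁻¹ * g⁻¹, (hZ2 y).1 hy g⟩) (by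
        intro g h
        apply Subtype.ext
        have hc := Subgroup.mem_center_iff.1 ((hZ2 y).1 hy h) g⁻¹
        change y * (g * h) * y⁻¹ * (g * h)⁻¹ = (y * g * y⁻¹ * g⁻¹) * (y * h * y⁻¹ * h⁻¹)
        calc y * (g * h) * y⁻¹ * (g * h)⁻¹ = y * g * y⁻¹ * ((y * h * y⁻¹ * h⁻¹) * g⁻¹) := by group
          _ = y * g * y⁻¹ * (g⁻¹ * (y * h * y⁻¹ * h⁻¹)) := by rw [hc]
          _ = _ := by group)
    have hker : commutator G ≤ φ.ker := by
      rw [commutator_def, Subgroup.commutator_le]
      intro a _ b _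
      rw [MonoidHom.mem_ker, commutatorElement_def]
      simp only [map_mul, map_inv]
      have hc : φ a * φ b = φ b * φ a :=
        Subtype.ext (Subgroup.mem_center_iff.1 (φ b).2 (φ a).1)
      rw [hc]
      group
    intro x hx
    have h1 : y * x * y⁻¹ * x⁻¹ = 1 := congrArg Subtype.val (MonoidHom.mem_ker.1 (hker hx))
    calc y * x = (y * x * y⁻¹ * x⁻¹) * x * y := by group
      _ = x * y := by rw [h1, one_mul]
  have hKab : ∀ x ∈ commutator G ⊓ (Subgroup.center (G ⧸ Subgroup.center G)).comap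
      (QuotientGroup.mk' (Subgroup.center G)), ∀ y ∈ commutator G ⊓
        (Subgroup.center (G ⧸ Subgroup.center G)).comap (QuotientGroup.mk' (Subgroup.center G)),
        x * y = y * x := fun x hx y hy => (key y hy.2 x hx.1).symm
  have hKchar : (commutator G ⊓ (Subgroup.center (G ⧸ Subgroup.center G)).comap
      (QuotientGroup.mk' (Subgroup.center G))).Characteristic := by
    rw [Subgroup.characteristic_iff_map_le]
    intro φ
    rintro _ ⟨x, hx, rfl⟩
    refine ⟨?_, (hZ2 _).2 ?_⟩
    · exact Subgroup.characteristic_iff_map_le.1 (inferInstance : (commutator G).Characteristic) φ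
        ⟨x, hx.1, rfl⟩
    · intro g
      have h1 := (hZ2 x).1 hx.2 (φ.symm g)
      have h2 := Subgroup.characteristic_iff_map_le.1
        (inferInstance : (Subgroup.center G).Characteristic) φ ⟨_, h1, rfl⟩
      have e : φ.toMonoidHom (x * φ.symm g * x⁻¹ * (φ.symm g)⁻¹) =
          φ.toMonoidHom x * g * (φ.toMonoidHom x)⁻¹ * g⁻¹ := by
        simp
      rw [e] at h2
      exact h2
  have hKZ := char_central A hGA hchar _ hKchar hKab
  by_contra hcon
  have hne : (commutator G).map (QuotientGroup.mk' (Subgroup.center G)) ≠ ⊥ := by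
    intro h
    apply hcon
    have h1 := (Subgroup.map_eq_bot_iff _).1 h
    rwa [QuotientGroup.ker_mk'] at h1
  haveI : ((commutator G).map (QuotientGroup.mk' (Subgroup.center G))).Normal :=
    Subgroup.Normal.map inferInstance _ (QuotientGroup.mk'_surjective _)
  haveI : Group.IsNilpotent (G ⧸ Subgroup.center G) :=
    (hG.to_quotient (Subgroup.center G)).isNilpotent
  have h2 := Cfsg.Agent.S0065.result ((commutator G).map (QuotientGroup.mk' (Subgroup.center G)))
    hne
  obtain ⟨⟨y, hy⟩, hy1⟩ := (Subgroup.ne_bot_iff_exists_ne_one).1 h2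
  obtain ⟨x, hx, hxy⟩ := hy.1
  have hxK : x ∈ commutator G ⊓ (Subgroup.center (G ⧸ Subgroup.center G)).comap
      (QuotientGroup.mk' (Subgroup.center G)) := by
    refine ⟨hx, ?_⟩
    change QuotientGroup.mk' (Subgroup.center G) x ∈ Subgroup.center (G ⧸ Subgroup.center G)
    rw [hxy]
    exact hy.2
  have hxZ := hKZ hxK
  have hy1' : y ≠ 1 := fun h => hy1 (Subtype.ext h)
  apply hy1'
  rw [← hxy]
  exact (QuotientGroup.eq_one_iff x).2 hxZ

theorem pow_mem_center [Finite G] {p : ℕ} [Fact p.Prime] (hG : IsPGroup p G)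
    (A : Subgroup (MulAut G))
    (hGA : Subgroup.closure {x : G | ∃ g : G, ∃ a ∈ A, x = g⁻¹ * a g} = ⊤)
    (hchar : ∀ H : Subgroup G, H.Characteristic → IsMulCommutative H → ∀ a ∈ A, ∀ h ∈ H, a h = h)
    (hcl : commutator G ≤ Subgroup.center G) (x : G) : x ^ p ∈ Subgroup.center G := by
  have hc : ∀ u v : G, v⁻¹ * u⁻¹ * v * u ∈ Subgroup.center G := by
    intro u v
    apply hcl
    have e : v⁻¹ * u⁻¹ * v * u = ⁅v⁻¹, u⁻¹⁆ := by
      rw [commutatorElement_def]
      group
    rw [e]
    exact Subgroup.commutator_mem_commutator (Subgroup.mem_top _) (Subgroup.mem_top _)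
  have step : ∀ k, 1 ≤ k → (∀ x : G, x ^ (p ^ (k + 1)) ∈ Subgroup.center G) →
      ∀ x : G, x ^ (p ^ k) ∈ Subgroup.center G := by
    intro k hk hP
    have hcomm : ∀ x y : G, x ^ (p ^ k) * y ^ (p ^ k) = y ^ (p ^ k) * x ^ (p ^ k) := by
      intro x y
      have hcz := hc x y
      have hyx : y * x = x * y * (y⁻¹ * x⁻¹ * y * x) := by group
      have hcx : (y⁻¹ * x⁻¹ * y * x) * x = x * (y⁻¹ * x⁻¹ * y * x) :=
        (Subgroup.mem_center_iff.1 hcz x).symm
      have hcy : (y⁻¹ * x⁻¹ * y * x) * y = y * (y⁻¹ * x⁻¹ * y * x) :=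
        (Subgroup.mem_center_iff.1 hcz y).symm
      have h1 := Cfsg.Agent.S0130.pow_comm1 x y _ hyx hcx (p ^ k)
      have hcky : (y⁻¹ * x⁻¹ * y * x) ^ (p ^ k) * y = y * (y⁻¹ * x⁻¹ * y * x) ^ (p ^ k) :=
        (Commute.pow_left hcy (p ^ k)).eq
      have h2 := Cfsg.Agent.S0130.pow_comm2 (x ^ (p ^ k)) y _ h1 hcky (p ^ k)
      have h3 := Cfsg.Agent.S0130.pow_comm1 x y _ hyx hcx (p ^ (k + 1))
      have hXz := Subgroup.mem_center_iff.1 (hP x) y
      rw [hXz] at h3
      have h4 : (y⁻¹ * x⁻¹ * y * x) ^ (p ^ (k + 1)) = 1 := by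
        have h6 : x ^ p ^ (k + 1) * y * 1 =
            x ^ p ^ (k + 1) * y * (y⁻¹ * x⁻¹ * y * x) ^ p ^ (k + 1) := by
          rw [mul_one]
          exact h3
        exact (mul_left_cancel h6).symm
      have h5 : ((y⁻¹ * x⁻¹ * y * x) ^ (p ^ k)) ^ (p ^ k) = 1 := by
        rw [← pow_mul, ← pow_add]
        have e1 : k + k = (k + 1) + (k - 1) := by omega
        rw [e1, pow_add, pow_mul, h4, one_pow]
      rw [h2, h5, mul_one]
    have hS : ∀ a ∈ {g : G | (∃ x : G, g = x ^ (p ^ k)) ∨ g ∈ Subgroup.center G},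
        ∀ b ∈ {g : G | (∃ x : G, g = x ^ (p ^ k)) ∨ g ∈ Subgroup.center G}, a * b = b * a := by
      rintro a (⟨x, rfl⟩ | ha) b (⟨y, rfl⟩ | hb)
      · exact hcomm x y
      · exact Subgroup.mem_center_iff.1 hb _
      · exact (Subgroup.mem_center_iff.1 ha _).symm
      · exact Subgroup.mem_center_iff.1 hb _
    have hab : ∀ a ∈ Subgroup.closure {g : G | (∃ x : G, g = x ^ (p ^ k)) ∨
        g ∈ Subgroup.center G}, ∀ b ∈ Subgroup.closure {g : G | (∃ x : G, g = x ^ (p ^ k)) ∨
        g ∈ Subgroup.center G}, a * b = b * a := by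
      letI := Subgroup.closureCommGroupOfComm hS
      intro a ha b hb
      exact congrArg Subtype.val (mul_comm (⟨a, ha⟩ : Subgroup.closure
        {g : G | (∃ x : G, g = x ^ (p ^ k)) ∨ g ∈ Subgroup.center G}) ⟨b, hb⟩)
    have hchr : (Subgroup.closure {g : G | (∃ x : G, g = x ^ (p ^ k)) ∨
        g ∈ Subgroup.center G}).Characteristic := by
      rw [Subgroup.characteristic_iff_map_le]
      intro φ
      rw [MonoidHom.map_closure, Subgroup.closure_le]
      rintro _ ⟨g, hg, rfl⟩
      rcases hg with ⟨x, rfl⟩ | hgz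
      · exact Subgroup.subset_closure (Or.inl ⟨φ x, map_pow _ _ _⟩)
      · exact Subgroup.subset_closure (Or.inr (Subgroup.characteristic_iff_map_le.1
          (inferInstance : (Subgroup.center G).Characteristic) φ ⟨g, hgz, rfl⟩))
    have hle := char_central A hGA hchar _ hchr hab
    intro x
    exact hle (Subgroup.subset_closure (Or.inl ⟨x, rfl⟩))
  have big : ∀ j k, 1 ≤ k → (∀ x : G, x ^ (p ^ (k + j)) ∈ Subgroup.center G) →
      ∀ x : G, x ^ (p ^ k) ∈ Subgroup.center G := by
    intro j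
    induction j with
    | zero =>
      intro k _ h
      simpa using h
    | succ j ih =>
      intro k hk h
      apply ih k hk
      apply step (k + j) (by omega)
      intro x
      have h1 := h x
      rwa [show k + (j + 1) = k + j + 1 by omega] at h1
  obtain ⟨n, hn⟩ := IsPGroup.iff_card.1 hG
  have h1 := big n 1 le_rfl (fun y => by
    have h2 : y ^ (p ^ (1 + n)) = 1 := by
      rw [add_comm, pow_succ, pow_mul, ← hn, pow_card_eq_one', one_pow]
    rw [h2]
    exact Subgroup.one_mem _)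
  simpa using h1 x

end Cfsg.Agent.Lib.Helper1.Spec
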