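import Mathlib

set_option autoImplicit false

namespace Cfsg.Agent.Lib.Helper1.Sz

open Matrix

variable {F : Type*} [Field F]

def ff (θ : F →+* F) (x y : F) : F := x * y + θ x * x ^ 2 + θ y

def vc (θ : F →+* F) (x y : F) : Fin 4 → F := ![ff θ x y, y, x, 1]

def e0 : Fin 4 → F := ![1, 0, 0, 0]

def TT (θ : F →+* F) (a b : F) : Matrix (Fin 4) (Fin 4) F :=
  !![1, a, b + θ a * a, ff θ a b; 0, 1, θ a, b; 0, 0, 1, a; 0, 0, 0, 1]

def HH (θ : F →+* F) (t : F) : Matrix (Fin 4) (Fin 4) F :=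
  !![θ t * t ^ 2, 0, 0, 0; 0, θ t, 0, 0; 0, 0, (θ t)⁻¹, 0; 0, 0, 0, (θ t * t ^ 2)⁻¹]

def WW : Matrix (Fin 4) (Fin 4) F :=
  !![0, 0, 0, 1; 0, 0, 1, 0; 0, 1, 0, 0; 1, 0, 0, 0]

theorem vc_ne_zero (θ : F →+* F) (x y : F) : vc θ x y ≠ 0 := by
  intro h
  have := congrFun h 3
  simp [vc] at this

theorem e0_ne_zero : (e0 : Fin 4 → F) ≠ 0 := by
  intro h
  have := congrFun h 0
  simp [e0] at this

theorem ff_zero (θ : F →+* F) : ff θ 0 0 = 0 := by simp [ff]

theorem vc_zero (θ : F →+* F) : vc θ 0 0 = ![0, 0, 0, 1] := by simp [vc, ff]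

theorem TT_e0 (θ : F →+* F) (a b : F) : TT θ a b *ᵥ e0 = e0 := by
  ext i
  fin_cases i <;> simp [TT, e0, Matrix.mulVec, dotProduct, Fin.sum_univ_four]

theorem HH_e0 (θ : F →+* F) (t : F) : HH θ t *ᵥ e0 = (θ t * t ^ 2) • e0 := by
  ext i
  fin_cases i <;> simp [HH, e0, Matrix.mulVec, dotProduct, Fin.sum_univ_four]

theorem WW_e0 (θ : F →+* F) : WW *ᵥ e0 = vc θ 0 0 := by
  ext i
  fin_cases i <;> simp [WW, e0, vc, ff, Matrix.mulVec, dotProduct, Fin.sum_univ_four]

theorem WW_vc0 (θ : F →+* F) : WW *ᵥ vc θ 0 0 = e0 := by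
  ext i
  fin_cases i <;> simp [WW, e0, vc, ff, Matrix.mulVec, dotProduct, Fin.sum_univ_four]

theorem WW_mul : (WW : Matrix (Fin 4) (Fin 4) F) * WW = 1 := by
  ext i j
  fin_cases i <;> fin_cases j <;> simp [WW, Matrix.mul_apply, Fin.sum_univ_four]

theorem TT_zero (θ : F →+* F) : TT θ 0 0 = 1 := by
  ext i j
  fin_cases i <;> fin_cases j <;> simp [TT, ff]

theorem HH_one (θ : F →+* F) : HH θ 1 = 1 := by
  ext i j
  fin_cases i <;> fin_cases j <;> simp [HH]

theorem HH_mul (θ : F →+* F) (s t : F) : HH θ s * HH θ t = HH θ (s * t) := by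
  ext i j
  fin_cases i <;> fin_cases j <;> simp [HH, Matrix.mul_apply, Fin.sum_univ_four] <;> ring

theorem det_TT (θ : F →+* F) (a b : F) : (TT θ a b).det = 1 := by
  have h : (TT θ a b).BlockTriangular id := by
    intro i j hij
    fin_cases i <;> fin_cases j <;> first | (exfalso; revert hij; decide) | simp [TT]
  rw [Matrix.det_of_upperTriangular h]
  simp [Fin.prod_univ_four, TT]

theorem det_HH (θ : F →+* F) {t : F} (ht : t ≠ 0) : (HH θ t).det = 1 := by
  have h : (HH θ t).BlockTriangular id := by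
    intro i j hij
    fin_cases i <;> fin_cases j <;> first | (exfalso; revert hij; decide) | simp [HH]
  rw [Matrix.det_of_upperTriangular h]
  have h1 : θ t ≠ 0 := by simpa using ht
  simp [Fin.prod_univ_four, HH]
  field_simp

theorem HH_vc (θ : F →+* F) (hθ : ∀ x, θ (θ x) = x ^ 2) {t : F} (ht : t ≠ 0) (x y : F) :
    HH θ t *ᵥ vc θ x y = (θ t * t ^ 2)⁻¹ • vc θ (t ^ 2 * x) (θ t ^ 2 * t ^ 2 * y) := by
  have h1 : θ t ≠ 0 := by simpa using ht
  ext i
  fin_cases i
  · simp [HH, vc, Matrix.mulVec, dotProduct, Fin.sum_univ_four, ff, hθ]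
    field_simp
  · simp [HH, vc, Matrix.mulVec, dotProduct, Fin.sum_univ_four]
    field_simp
  · simp [HH, vc, Matrix.mulVec, dotProduct, Fin.sum_univ_four]
    field_simp
  · simp [HH, vc, Matrix.mulVec, dotProduct, Fin.sum_univ_four]

section alg

variable {θ : F →+* F} (h2 : (2 : F) = 0) (hθ : ∀ x, θ (θ x) = x ^ 2)
include h2 hθ

theorem ff_eq_zero {x y : F} (h : ff θ x y = 0) : x = 0 ∧ y = 0 := by
  have h1 : θ (ff θ x y) = 0 := by rw [h, map_zero]
  simp only [ff, map_add, map_mul, map_pow, hθ] at h1 h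
  have h3 : y * (θ x * x + y) = 0 := by grind
  rcases mul_eq_zero.mp h3 with hy | hy
  · subst hy
    simp only [mul_zero, map_zero, add_zero, zero_add] at h
    rcases mul_eq_zero.mp h with hx | hx
    · exact ⟨by simpa using hx, rfl⟩
    · exact ⟨by simpa using hx, rfl⟩
  · have hy' : y = -(θ x * x) := by linear_combination hy
    subst hy'
    have h4 : x ^ 2 * θ x = 0 := by
      simp only [map_neg, map_mul, hθ] at h
      linear_combination -h
    have hx : x = 0 := by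
      rcases mul_eq_zero.mp h4 with hx | hx
      · simpa using hx
      · simpa using hx
    subst hx
    simp

theorem ff_ne_zero {x y : F} (h : x ≠ 0 ∨ y ≠ 0) : ff θ x y ≠ 0 := by
  intro h0
  obtain ⟨hx, hy⟩ := ff_eq_zero h2 hθ h0
  rcases h with h | h
  · exact h hx
  · exact h hy

theorem TT_vc (a b x y : F) : TT θ a b *ᵥ vc θ x y = vc θ (x + a) (y + b + θ a * x) := by
  ext i
  fin_cases i
  · simp only [TT, vc, Matrix.mulVec, dotProduct, Fin.sum_univ_four, ff, map_add, map_mul, hθ]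
    simp
    grind
  · simp [TT, vc, Matrix.mulVec, dotProduct, Fin.sum_univ_four]
    ring
  · simp [TT, vc, Matrix.mulVec, dotProduct, Fin.sum_univ_four]
  · simp [TT, vc, Matrix.mulVec, dotProduct, Fin.sum_univ_four]

theorem WW_vc {x y : F} (hf : ff θ x y ≠ 0) :
    WW *ᵥ vc θ x y = ff θ x y • vc θ (y / ff θ x y) (x / ff θ x y) := by
  have key : ff θ (y / ff θ x y) (x / ff θ x y) = 1 / ff θ x y := by
    have h1 : θ (ff θ x y) ≠ 0 := by simpa using hf
    have e : ff θ (y / ff θ x y) (x / ff θ x y)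
        = (y * x * θ (ff θ x y) + θ y * y ^ 2 + θ x * (ff θ x y) ^ 2)
          / (θ (ff θ x y) * (ff θ x y) ^ 2) := by
      rw [ff, map_div₀, map_div₀]
      field_simp
    rw [e, div_eq_div_iff (mul_ne_zero h1 (pow_ne_zero 2 hf)) hf]
    simp only [ff, map_add, map_mul, map_pow, hθ]
    grind
  ext i
  fin_cases i
  · simp [WW, vc, Matrix.mulVec, dotProduct, Fin.sum_univ_four]
    rw [key]
    field_simp
  · simp [WW, vc, Matrix.mulVec, dotProduct, Fin.sum_univ_four]
    field_simp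
  · simp [WW, vc, Matrix.mulVec, dotProduct, Fin.sum_univ_four]
    field_simp
  · simp [WW, vc, Matrix.mulVec, dotProduct, Fin.sum_univ_four]

theorem TT_mul (a b c d : F) : TT θ a b * TT θ c d = TT θ (a + c) (b + d + θ a * c) := by
  ext i j
  fin_cases i <;> fin_cases j <;>
    simp [TT, Matrix.mul_apply, Fin.sum_univ_four, ff, hθ] <;> grind

theorem det_WW : (WW : Matrix (Fin 4) (Fin 4) F).det = 1 := by
  have h : (WW : Matrix (Fin 4) (Fin 4) F).det * (WW : Matrix (Fin 4) (Fin 4) F).det = 1 := by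
    rw [← Matrix.det_mul, WW_mul, Matrix.det_one]
  have h3 : ((WW : Matrix (Fin 4) (Fin 4) F).det - 1) ^ 2 = 0 := by grind
  have h4 := pow_eq_zero_iff (two_ne_zero) |>.mp h3
  linear_combination h4

theorem HH_TT {t : F} (ht : t ≠ 0) (a b : F) :
    HH θ t * TT θ a b = TT θ (t ^ 2 * a) (θ t ^ 2 * t ^ 2 * b) * HH θ t := by
  have h1 : θ t ≠ 0 := by simpa using ht
  ext i j
  fin_cases i <;> fin_cases j <;>
    simp [TT, HH, Matrix.mul_apply, Fin.sum_univ_four, ff, hθ] <;> field_simp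

theorem WW_HH {t : F} (ht : t ≠ 0) : WW * HH θ t * WW = HH θ t⁻¹ := by
  have h1 : θ t ≠ 0 := by simpa using ht
  ext i j
  fin_cases i <;> fin_cases j <;>
    simp [WW, HH, Matrix.mul_apply, Fin.sum_univ_four]
  all_goals ring

theorem TT_form (a b : F) : (TT θ a b)ᵀ * WW * TT θ a b = WW := by
  ext i j
  fin_cases i <;> fin_cases j <;>
    simp [TT, WW, Matrix.mul_apply, Fin.sum_univ_four, Matrix.transpose_apply] <;> grind

theorem HH_form {t : F} (ht : t ≠ 0) : (HH θ t)ᵀ * WW * HH θ t = WW := by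
  have h1 : θ t ≠ 0 := by simpa using ht
  ext i j
  fin_cases i <;> fin_cases j <;>
    simp [HH, WW, Matrix.mul_apply, Fin.sum_univ_four, Matrix.transpose_apply] <;> field_simp

theorem WW_form : (WW : Matrix (Fin 4) (Fin 4) F)ᵀ * WW * WW = WW := by
  ext i j
  fin_cases i <;> fin_cases j <;>
    simp [WW, Matrix.mul_apply, Fin.sum_univ_four, Matrix.transpose_apply]

end alg

end Cfsg.Agent.Lib.Helper1.Sz
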