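import Mathlib
import Cfsg.Prelude.Def_LieExceptional
import Cfsg.Agent.Lib.Helper1.Sz1

set_option autoImplicit false

namespace Cfsg.Agent.Lib.Helper1.Sz

open Matrix
open scoped Pointwise

variable {F : Type*} [Field F] [Fintype F] {m : ℕ}

structure Dat (F : Type*) [Field F] [Fintype F] (m : ℕ) where
  θ : F →+* F
  hpow : ∀ x, θ x = x ^ 2 ^ (m + 1)
  h2 : (2 : F) = 0
  hθ : ∀ x, θ (θ x) = x ^ 2
  hm : 1 ≤ m
  hF : Fintype.card F = 2 ^ (2 * m + 1)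

theorem exists_dat (hm : 1 ≤ m) (hF : Fintype.card F = 2 ^ (2 * m + 1)) : Nonempty (Dat F m) := by
  have h2 : (2 : F) = 0 := by
    have h := Nat.cast_card_eq_zero F
    rw [hF] at h
    push_cast at h
    exact (pow_eq_zero_iff (by omega)).mp h
  haveI : CharP F 2 := CharTwo.of_one_ne_zero_of_two_eq_zero one_ne_zero h2
  refine ⟨⟨iterateFrobenius F 2 (m + 1), fun x => iterateFrobenius_def .., h2, ?_, hm, hF⟩⟩
  intro x
  rw [iterateFrobenius_def, iterateFrobenius_def, ← pow_mul, ← pow_add]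
  have : 2 ^ (m + 1 + (m + 1)) = Fintype.card F * 2 := by rw [hF]; ring
  rw [this, pow_mul, FiniteField.pow_card]

theorem Dat.add_self (D : Dat F m) (x : F) : x + x = 0 := by linear_combination x * D.h2

theorem Dat.neg_eq (D : Dat F m) (x : F) : -x = x := by linear_combination (-x) * D.h2

theorem Dat.sub_eq (D : Dat F m) (x y : F) : x - y = x + y := by linear_combination (-y) * D.h2

theorem Dat.th_inj (D : Dat F m) {x y : F} (h : D.θ x = D.θ y) : x = y := D.θ.injective h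

theorem Dat.card_gt (D : Dat F m) : 2 ^ (m + 1) + 2 < Fintype.card F := by
  rw [D.hF]
  have hm := D.hm
  have h1 : 2 ^ (2 * m + 1) = 2 ^ (m + 1) * 2 ^ m := by rw [← pow_add]; congr 1; omega
  have h2 : 2 ≤ 2 ^ m := by
    calc 2 = 2 ^ 1 := by norm_num
      _ ≤ 2 ^ m := Nat.pow_le_pow_right (by norm_num) hm
  have h3 : 4 ≤ 2 ^ (m + 1) := by
    calc 4 = 2 ^ 2 := by norm_num
      _ ≤ 2 ^ (m + 1) := Nat.pow_le_pow_right (by norm_num) (by omega)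
  rw [h1]
  nlinarith

theorem Dat.sg_gt (D : Dat F m) : 2 < 2 ^ (m + 1) := by
  have hm := D.hm
  calc 2 < 2 ^ 2 := by norm_num
    _ ≤ 2 ^ (m + 1) := Nat.pow_le_pow_right (by norm_num) (by omega)

theorem Dat.exists_sqrt (D : Dat F m) (x : F) : ∃ t : F, t ^ 2 = x := by
  refine ⟨x ^ 2 ^ (2 * m), ?_⟩
  rw [← pow_mul]
  have : 2 ^ (2 * m) * 2 = Fintype.card F := by rw [D.hF]; ring
  rw [this, FiniteField.pow_card]

theorem Dat.eq_one_of_pow_four (D : Dat F m) {z : F} (h : z ^ 4 = 1) : z = 1 := by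
  have h3 : (z - 1) ^ 4 = 0 := by
    have := D.h2
    grind
  have h4 := (pow_eq_zero_iff (by norm_num)).mp h3
  linear_combination h4

theorem Dat.eq_one_of_sq (D : Dat F m) {z : F} (h : z ^ 2 = 1) : z = 1 := by
  have h3 : (z - 1) ^ 2 = 0 := by
    have := D.h2
    grind
  have h4 := (pow_eq_zero_iff (by norm_num)).mp h3
  linear_combination h4

def Ts (D : Dat F m) (a b : F) : Matrix.SpecialLinearGroup (Fin 4) F :=
  ⟨TT D.θ a b, det_TT D.θ a b⟩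

def Hs (D : Dat F m) (t : Fˣ) : Matrix.SpecialLinearGroup (Fin 4) F :=
  ⟨HH D.θ (t : F), det_HH D.θ t.ne_zero⟩

def Ws (D : Dat F m) : Matrix.SpecialLinearGroup (Fin 4) F :=
  ⟨WW, det_WW D.h2 D.hθ⟩

def pI : Projectivization F (Fin 4 → F) := Cfsg.suzukiPointInfinity F

def pt (D : Dat F m) (x y : F) : Projectivization F (Fin 4 → F) :=
  Projectivization.mk F (vc D.θ x y) (vc_ne_zero _ _ _)

theorem mk_congr {v w : Fin 4 → F} (hv : v ≠ 0) (hw : w ≠ 0) (h : v = w) :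
    Projectivization.mk F v hv = Projectivization.mk F w hw := by
  subst h; rfl

theorem pI_eq : (pI : Projectivization F (Fin 4 → F)) = Projectivization.mk F e0 e0_ne_zero := rfl

theorem pZ_eq (D : Dat F m) : Cfsg.suzukiPointZero F = pt D 0 0 :=
  mk_congr _ _ (vc_zero D.θ).symm

theorem vc_eq (D : Dat F m) (x y : F) :
    vc D.θ x y = ![x * y + x ^ (2 ^ (m + 1) + 2) + y ^ (2 ^ (m + 1)), y, x, 1] := by
  simp [vc, ff, D.hpow, pow_add]

theorem mem_ovoid (D : Dat F m) (p : Projectivization F (Fin 4 → F)) :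
    p ∈ Cfsg.suzukiOvoid F m ↔ p = pI ∨ ∃ x y, p = pt D x y := by
  constructor
  · rintro ⟨v, hv, rfl, (rfl | ⟨x, y, rfl⟩)⟩
    · left; rfl
    · right; exact ⟨x, y, mk_congr _ _ (vc_eq D x y).symm⟩
  · rintro (rfl | ⟨x, y, rfl⟩)
    · exact ⟨![1, 0, 0, 0], e0_ne_zero, rfl, Or.inl rfl⟩
    · exact ⟨_, (vc_eq D x y) ▸ vc_ne_zero D.θ x y, mk_congr _ _ (vc_eq D x y), Or.inr ⟨x, y, rfl⟩⟩

theorem pI_mem : (pI : Projectivization F (Fin 4 → F)) ∈ Cfsg.suzukiOvoid F m :=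
  ⟨![1, 0, 0, 0], e0_ne_zero, rfl, Or.inl rfl⟩

theorem pt_mem (D : Dat F m) (x y : F) : pt D x y ∈ Cfsg.suzukiOvoid F m :=
  (mem_ovoid D _).mpr (Or.inr ⟨x, y, rfl⟩)

theorem pt_inj (D : Dat F m) {x y x' y' : F} (h : pt D x y = pt D x' y') : x = x' ∧ y = y' := by
  unfold pt at h
  rw [Projectivization.mk_eq_mk_iff'] at h
  obtain ⟨c, hc⟩ := h
  have h1 := congrFun hc 1
  have h2 := congrFun hc 2
  have h3 := congrFun hc 3
  simp [vc] at h1 h2 h3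
  subst h3
  simp at h1 h2
  exact ⟨h2.symm, h1.symm⟩

theorem pt_ne_pI (D : Dat F m) (x y : F) : pt D x y ≠ pI := by
  intro h
  rw [pI_eq] at h
  unfold pt at h
  rw [Projectivization.mk_eq_mk_iff'] at h
  obtain ⟨c, hc⟩ := h
  have h3 := congrFun hc 3
  simp [vc, e0] at h3

theorem smul_mk_eq (g : Matrix.SpecialLinearGroup (Fin 4) F) {v w : Fin 4 → F} (hv : v ≠ 0)
    (hw : w ≠ 0) (c : F) (h : g.1 *ᵥ v = c • w) :
    g • Projectivization.mk F v hv = Projectivization.mk F w hw := by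
  rw [Projectivization.smul_mk, Projectivization.mk_eq_mk_iff']
  exact ⟨c, h.symm⟩

theorem smul_mk_iff (g : Matrix.SpecialLinearGroup (Fin 4) F) {v w : Fin 4 → F} (hv : v ≠ 0)
    (hw : w ≠ 0) (h : g • Projectivization.mk F v hv = Projectivization.mk F w hw) :
    ∃ c : F, c ≠ 0 ∧ c • w = g.1 *ᵥ v := by
  rw [Projectivization.smul_mk, Projectivization.mk_eq_mk_iff'] at h
  obtain ⟨c, hc⟩ := h
  refine ⟨c, ?_, hc⟩
  rintro rfl
  rw [zero_smul] at hc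
  exact hv ((smul_eq_zero_iff_eq g).mp hc.symm)

theorem Ts_pt (D : Dat F m) (a b x y : F) :
    Ts D a b • pt D x y = pt D (x + a) (y + b + D.θ a * x) :=
  smul_mk_eq _ _ _ 1 (by rw [one_smul]; exact TT_vc D.h2 D.hθ a b x y)

theorem Ts_pI (D : Dat F m) (a b : F) : Ts D a b • (pI : Projectivization F (Fin 4 → F)) = pI :=
  smul_mk_eq _ _ _ 1 (by rw [one_smul]; exact TT_e0 D.θ a b)

theorem Hs_pt (D : Dat F m) (t : Fˣ) (x y : F) :
    Hs D t • pt D x y = pt D ((t : F) ^ 2 * x) (D.θ t ^ 2 * (t : F) ^ 2 * y) :=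
  smul_mk_eq _ _ _ _ (HH_vc D.θ D.hθ t.ne_zero x y)

theorem Hs_pI (D : Dat F m) (t : Fˣ) : Hs D t • (pI : Projectivization F (Fin 4 → F)) = pI :=
  smul_mk_eq _ _ _ _ (HH_e0 D.θ t)

theorem Hs_pt0 (D : Dat F m) (t : Fˣ) : Hs D t • pt D 0 0 = pt D 0 0 := by
  rw [Hs_pt]; simp

theorem Ws_pI (D : Dat F m) : Ws D • (pI : Projectivization F (Fin 4 → F)) = pt D 0 0 :=
  smul_mk_eq _ _ _ 1 (by rw [one_smul]; exact WW_e0 D.θ)

theorem Ws_pt0 (D : Dat F m) : Ws D • pt D 0 0 = pI :=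
  smul_mk_eq _ _ _ 1 (by rw [one_smul]; exact WW_vc0 D.θ)

theorem Ws_pt (D : Dat F m) {x y : F} (h : x ≠ 0 ∨ y ≠ 0) :
    Ws D • pt D x y = pt D (y / ff D.θ x y) (x / ff D.θ x y) :=
  smul_mk_eq _ _ _ _ (WW_vc D.h2 D.hθ (ff_ne_zero D.h2 D.hθ h))

theorem mem_Sz_of {g : Matrix.SpecialLinearGroup (Fin 4) F}
    (h : ∀ p ∈ Cfsg.suzukiOvoid F m, g • p ∈ Cfsg.suzukiOvoid F m) : g ∈ Cfsg.Sz F m :=
  (MulAction.mem_stabilizer_set_iff_smul_set_subset (Set.toFinite _)).mpr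
    (by rintro _ ⟨p, hp, rfl⟩; exact h p hp)

theorem smul_mem {g : Matrix.SpecialLinearGroup (Fin 4) F} (hg : g ∈ Cfsg.Sz F m)
    {p : Projectivization F (Fin 4 → F)} (hp : p ∈ Cfsg.suzukiOvoid F m) :
    g • p ∈ Cfsg.suzukiOvoid F m := by
  have h := MulAction.mem_stabilizer_iff.mp hg
  have h2 : g • p ∈ g • Cfsg.suzukiOvoid F m := Set.smul_mem_smul_set hp
  rwa [h] at h2

theorem Ts_mem (D : Dat F m) (a b : F) : Ts D a b ∈ Cfsg.Sz F m := by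
  apply mem_Sz_of
  intro p hp
  rcases (mem_ovoid D p).mp hp with rfl | ⟨x, y, rfl⟩
  · rw [Ts_pI]; exact pI_mem
  · rw [Ts_pt]; exact pt_mem D _ _

theorem Hs_mem (D : Dat F m) (t : Fˣ) : Hs D t ∈ Cfsg.Sz F m := by
  apply mem_Sz_of
  intro p hp
  rcases (mem_ovoid D p).mp hp with rfl | ⟨x, y, rfl⟩
  · rw [Hs_pI]; exact pI_mem
  · rw [Hs_pt]; exact pt_mem D _ _

theorem Ws_mem (D : Dat F m) : Ws D ∈ Cfsg.Sz F m := by
  apply mem_Sz_of
  intro p hp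
  rcases (mem_ovoid D p).mp hp with rfl | ⟨x, y, rfl⟩
  · rw [Ws_pI]; exact pt_mem D _ _
  · by_cases h : x ≠ 0 ∨ y ≠ 0
    · rw [Ws_pt D h]; exact pt_mem D _ _
    · simp only [not_or, not_not] at h
      obtain ⟨rfl, rfl⟩ := h
      rw [Ws_pt0]; exact pI_mem

theorem Ts_mul (D : Dat F m) (a b c d : F) :
    Ts D a b * Ts D c d = Ts D (a + c) (b + d + D.θ a * c) :=
  Subtype.ext (TT_mul D.h2 D.hθ a b c d)

theorem Ts_zero (D : Dat F m) : Ts D 0 0 = 1 := Subtype.ext (TT_zero D.θ)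

theorem Ts_inv (D : Dat F m) (a b : F) : (Ts D a b)⁻¹ = Ts D a (b + D.θ a * a) := by
  apply inv_eq_of_mul_eq_one_right
  rw [Ts_mul, ← Ts_zero D]
  congr 1
  · exact D.add_self a
  · have := D.h2
    grind

theorem Hs_mul (D : Dat F m) (s t : Fˣ) : Hs D s * Hs D t = Hs D (s * t) := by
  apply Subtype.ext
  rw [Matrix.SpecialLinearGroup.coe_mul]
  show HH D.θ (s : F) * HH D.θ (t : F) = HH D.θ ((s * t : Fˣ) : F)
  rw [Units.val_mul]
  exact HH_mul D.θ _ _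

theorem Hs_one (D : Dat F m) : Hs D 1 = 1 := Subtype.ext (by simpa [Hs] using HH_one D.θ)

def HsHom (D : Dat F m) : Fˣ →* Matrix.SpecialLinearGroup (Fin 4) F where
  toFun := Hs D
  map_one' := Hs_one D
  map_mul' s t := (Hs_mul D s t).symm

theorem Hs_pow (D : Dat F m) (t : Fˣ) (k : ℕ) : Hs D t ^ k = Hs D (t ^ k) :=
  (map_pow (HsHom D) t k).symm

theorem Hs_inv (D : Dat F m) (t : Fˣ) : (Hs D t)⁻¹ = Hs D t⁻¹ :=
  (map_inv (HsHom D) t).symm

theorem Hs_inj (D : Dat F m) {s t : Fˣ} (h : Hs D s = Hs D t) : s = t := by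
  have h1 := congrArg (fun g : Matrix.SpecialLinearGroup (Fin 4) F => g.1 1 1) h
  simp [Hs, HH] at h1
  exact Units.ext (D.th_inj h1)

theorem Ws_mul (D : Dat F m) : Ws D * Ws D = 1 := Subtype.ext WW_mul

theorem Ws_inv (D : Dat F m) : (Ws D)⁻¹ = Ws D := inv_eq_of_mul_eq_one_right (Ws_mul D)

theorem Hs_Ts (D : Dat F m) (t : Fˣ) (a b : F) :
    Hs D t * Ts D a b = Ts D ((t : F) ^ 2 * a) (D.θ t ^ 2 * (t : F) ^ 2 * b) * Hs D t :=
  Subtype.ext (HH_TT D.h2 D.hθ t.ne_zero a b)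

theorem Ws_Hs (D : Dat F m) (t : Fˣ) : Ws D * Hs D t * Ws D = Hs D t⁻¹ := by
  apply Subtype.ext
  rw [Matrix.SpecialLinearGroup.coe_mul, Matrix.SpecialLinearGroup.coe_mul]
  show WW * HH D.θ (t : F) * WW = HH D.θ ((t⁻¹ : Fˣ) : F)
  rw [Units.val_inv_eq_inv_val]
  exact WW_HH D.h2 D.hθ t.ne_zero

end Cfsg.Agent.Lib.Helper1.Sz
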