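import Mathlib
import Cfsg.Prelude.Def_LieExceptional
import Cfsg.Agent.Lib.Helper1.Sz2

set_option autoImplicit false

namespace Cfsg.Agent.Lib.Helper1.Sz

open Matrix
open scoped Pointwise

variable {F : Type*} [Field F] [Fintype F] {m : ℕ}

theorem poly4 {s : ℕ} (hs : 2 < s) (hq : s + 2 < Fintype.card F) (a b c d : F)
    (h : ∀ x : F, a * x + b * x ^ 2 + c * x ^ s + d * (x ^ s * x ^ 2) = 0) :
    a = 0 ∧ b = 0 ∧ c = 0 ∧ d = 0 := by
  classical
  let p : Polynomial F := Polynomial.C a * Polynomial.X + Polynomial.C b * Polynomial.X ^ 2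
    + Polynomial.C c * Polynomial.X ^ s + Polynomial.C d * Polynomial.X ^ (s + 2)
  have hp : p = 0 := by
    apply Polynomial.eq_zero_of_natDegree_lt_card_of_eval_eq_zero p (f := id)
      Function.injective_id
    · intro x
      simp only [p, id, Polynomial.eval_add, Polynomial.eval_mul, Polynomial.eval_C,
        Polynomial.eval_X, Polynomial.eval_pow]
      rw [pow_add]
      exact h x
    · have hd : p.natDegree ≤ s + 2 := by
        simp only [p]
        compute_degree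
        all_goals omega
      omega
  have e1 : (1 : ℕ) ≠ 2 := by norm_num
  have e2 : (1 : ℕ) ≠ s := by omega
  have e3 : (1 : ℕ) ≠ s + 2 := by omega
  have e4 : (2 : ℕ) ≠ 1 := by norm_num
  have e5 : (2 : ℕ) ≠ s := by omega
  have e6 : (2 : ℕ) ≠ s + 2 := by omega
  have e7 : s ≠ 1 := by omega
  have e8 : s ≠ 2 := by omega
  have e9 : s ≠ s + 2 := by omega
  have e10 : s + 2 ≠ 1 := by omega
  have e11 : s + 2 ≠ 2 := by omega
  have e12 : s + 2 ≠ s := by omega
  have c1 := congrArg (fun p => Polynomial.coeff p 1) hp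
  have c2 := congrArg (fun p => Polynomial.coeff p 2) hp
  have c3 := congrArg (fun p => Polynomial.coeff p s) hp
  have c4 := congrArg (fun p => Polynomial.coeff p (s + 2)) hp
  simp only [p, Polynomial.coeff_add, Polynomial.coeff_C_mul_X_pow, Polynomial.coeff_C_mul_X,
    Polynomial.coeff_zero, e1, e2, e3, e4, e5, e6, e7, e8, e9, e10, e11, e12, if_false, if_true,
    add_zero, zero_add] at c1 c2 c3 c4
  exact ⟨c1, c2, c3, c4⟩

theorem stab2 (D : Dat F m) {g : Matrix.SpecialLinearGroup (Fin 4) F} (hg : g ∈ Cfsg.Sz F m)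
    (h1 : g • (pI : Projectivization F (Fin 4 → F)) = pI) (h0 : g • pt D 0 0 = pt D 0 0) :
    ∃ t : Fˣ, g = Hs D t := by
  obtain ⟨lam, hlam0, hlam⟩ := smul_mk_iff g e0_ne_zero e0_ne_zero h1
  obtain ⟨mu, hmu0, hmu⟩ := smul_mk_iff g (vc_ne_zero D.θ 0 0) (vc_ne_zero D.θ 0 0) h0
  rw [vc_zero] at hmu
  have c00 : g.1 0 0 = lam := by
    have := congrFun hlam 0
    simp [e0, Matrix.mulVec, dotProduct, Fin.sum_univ_four] at this
    exact this.symm
  have c10 : g.1 1 0 = 0 := by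
    have := congrFun hlam 1
    simp [e0, Matrix.mulVec, dotProduct, Fin.sum_univ_four] at this
    exact this.symm
  have c20 : g.1 2 0 = 0 := by
    have := congrFun hlam 2
    simp [e0, Matrix.mulVec, dotProduct, Fin.sum_univ_four] at this
    exact this.symm
  have c30 : g.1 3 0 = 0 := by
    have := congrFun hlam 3
    simp [e0, Matrix.mulVec, dotProduct, Fin.sum_univ_four] at this
    exact this.symm
  have c03 : g.1 0 3 = 0 := by
    have := congrFun hmu 0
    simp [Matrix.mulVec, dotProduct, Fin.sum_univ_four] at this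
    exact this.symm
  have c13 : g.1 1 3 = 0 := by
    have := congrFun hmu 1
    simp [Matrix.mulVec, dotProduct, Fin.sum_univ_four] at this
    exact this.symm
  have c23 : g.1 2 3 = 0 := by
    have := congrFun hmu 2
    simp [Matrix.mulVec, dotProduct, Fin.sum_univ_four] at this
    exact this.symm
  have c33 : g.1 3 3 = mu := by
    have := congrFun hmu 3
    simp [Matrix.mulVec, dotProduct, Fin.sum_univ_four] at this
    exact this.symm
  have key : ∀ x y : F, ∃ c x' y', c ≠ 0 ∧ c = g.1 3 1 * y + g.1 3 2 * x + mu ∧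
      c * x' = g.1 2 1 * y + g.1 2 2 * x ∧ c * y' = g.1 1 1 * y + g.1 1 2 * x ∧
      c * ff D.θ x' y' = lam * ff D.θ x y + g.1 0 1 * y + g.1 0 2 * x := by
    intro x y
    have hmem := smul_mem hg (pt_mem D x y)
    rcases (mem_ovoid D _).mp hmem with h | ⟨x', y', h⟩
    · exfalso
      rw [← h1] at h
      exact pt_ne_pI D x y (MulAction.injective g h)
    · obtain ⟨c, hc0, hc⟩ := smul_mk_iff g (vc_ne_zero D.θ x y) (vc_ne_zero D.θ x' y') h
      refine ⟨c, x', y', hc0, ?_, ?_, ?_, ?_⟩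
      · have := congrFun hc 3
        simp [vc, Matrix.mulVec, dotProduct, Fin.sum_univ_four, c30, c33] at this
        rw [this]
      · have := congrFun hc 2
        simp [vc, Matrix.mulVec, dotProduct, Fin.sum_univ_four, c20, c23] at this
        rw [this]
      · have := congrFun hc 1
        simp [vc, Matrix.mulVec, dotProduct, Fin.sum_univ_four, c10, c13] at this
        rw [this]
      · have := congrFun hc 0
        simp [vc, Matrix.mulVec, dotProduct, Fin.sum_univ_four, c00, c03] at this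
        rw [this]
  have g31 : g.1 3 1 = 0 := by
    by_contra hne
    obtain ⟨c, x', y', hc0, hc, -⟩ := key 0 (-mu / g.1 3 1)
    apply hc0
    rw [hc]
    field_simp
    ring
  have g32 : g.1 3 2 = 0 := by
    by_contra hne
    obtain ⟨c, x', y', hc0, hc, -⟩ := key (-mu / g.1 3 2) 0
    apply hc0
    rw [hc]
    field_simp
    ring
  have key2 : ∀ x y : F, mu * ff D.θ ((g.1 2 1 * y + g.1 2 2 * x) / mu)
      ((g.1 1 1 * y + g.1 1 2 * x) / mu) = lam * ff D.θ x y + g.1 0 1 * y + g.1 0 2 * x := by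
    intro x y
    obtain ⟨c, x', y', hc0, hc, hx, hy, hf⟩ := key x y
    rw [g31, g32] at hc
    simp only [zero_mul, zero_add] at hc
    subst hc
    rw [← hx, ← hy, ← hf, mul_div_cancel_left₀ _ hmu0, mul_div_cancel_left₀ _ hmu0]
  have hθ0 : ∀ z : F, D.θ z = 0 → z = 0 := fun z hz => by simpa using hz
  have hX : ∀ x : F, (-g.1 0 2) * x + (mu * (g.1 2 2 / mu) * (g.1 1 2 / mu)) * x ^ 2
      + (mu * D.θ (g.1 1 2 / mu)) * x ^ 2 ^ (m + 1)
      + (mu * D.θ (g.1 2 2 / mu) * (g.1 2 2 / mu) ^ 2 - lam) * (x ^ 2 ^ (m + 1) * x ^ 2) = 0 := by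
    intro x
    have e := key2 x 0
    rw [show (g.1 2 1 * 0 + g.1 2 2 * x) / mu = g.1 2 2 / mu * x by ring,
      show (g.1 1 1 * 0 + g.1 1 2 * x) / mu = g.1 1 2 / mu * x by ring] at e
    simp only [ff, map_mul, mul_zero, map_zero, add_zero] at e
    rw [D.hpow x] at e
    linear_combination e
  obtain ⟨g02, -, hγ, hα⟩ := poly4 D.sg_gt D.card_gt _ _ _ _ hX
  have hY : ∀ y : F, (-g.1 0 1) * y + (mu * (g.1 2 1 / mu) * (g.1 1 1 / mu)) * y ^ 2
      + (mu * D.θ (g.1 1 1 / mu) - lam) * y ^ 2 ^ (m + 1)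
      + (mu * D.θ (g.1 2 1 / mu) * (g.1 2 1 / mu) ^ 2) * (y ^ 2 ^ (m + 1) * y ^ 2) = 0 := by
    intro y
    have e := key2 0 y
    rw [show (g.1 2 1 * y + g.1 2 2 * 0) / mu = g.1 2 1 / mu * y by ring,
      show (g.1 1 1 * y + g.1 1 2 * 0) / mu = g.1 1 1 / mu * y by ring] at e
    simp only [ff, map_mul, mul_zero, map_zero, add_zero, zero_mul, zero_add] at e
    rw [D.hpow y] at e
    linear_combination e
  obtain ⟨g01, -, hδ, hβ⟩ := poly4 D.sg_gt D.card_gt _ _ _ _ hY
  have g02' : g.1 0 2 = 0 := by linear_combination -g02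
  have g01' : g.1 0 1 = 0 := by linear_combination -g01
  have g12 : g.1 1 2 = 0 := by
    have h3 : D.θ (g.1 1 2 / mu) = 0 := by
      rcases mul_eq_zero.mp hγ with h | h
      · exact absurd h hmu0
      · exact h
    have h4 := hθ0 _ h3
    rcases div_eq_zero_iff.mp h4 with h | h
    · exact h
    · exact absurd h hmu0
  have g21 : g.1 2 1 = 0 := by
    have h3 : g.1 2 1 / mu = 0 := by
      rcases mul_eq_zero.mp hβ with h | h
      · rcases mul_eq_zero.mp h with h | h
        · exact absurd h hmu0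
        · exact hθ0 _ h
      · exact pow_eq_zero_iff (by norm_num) |>.mp h
    rcases div_eq_zero_iff.mp h3 with h | h
    · exact h
    · exact absurd h hmu0
  have h11 := key2 1 1
  rw [g21, g12, g01', g02'] at h11
  simp only [zero_mul, zero_add, mul_one, add_zero] at h11
  have hf11 : ff D.θ 1 1 = 1 := by
    have := D.h2
    simp only [ff, map_one]
    grind
  rw [hf11] at h11
  set α := g.1 2 2 / mu with hαdef
  set δ := g.1 1 1 / mu with hδdef
  have E1 : lam = mu * D.θ α * α ^ 2 := by linear_combination -hα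
  have E2 : lam = mu * D.θ δ := by linear_combination -hδ
  have E3 : lam = mu * α * δ := by
    have := D.h2
    simp only [ff] at h11
    grind
  have hα0 : α ≠ 0 := by
    rintro h
    rw [h] at E1
    simp at E1
    exact hlam0 E1
  obtain ⟨t, ht⟩ := D.exists_sqrt α
  have ht0 : t ≠ 0 := by
    rintro rfl
    exact hα0 (by rw [← ht]; simp)
  have hθt0 : D.θ t ≠ 0 := fun h => ht0 (hθ0 _ h)
  have hθα : D.θ α = D.θ t ^ 2 := by rw [← ht, map_pow]
  have h22 : g.1 2 2 = mu * α := by rw [hαdef]; field_simp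
  have h11' : g.1 1 1 = mu * δ := by rw [hδdef]; field_simp
  have hδ' : δ = D.θ α * α := by
    have : mu * α * δ = mu * α * (D.θ α * α) := by rw [← E3, E1]; ring
    exact mul_left_cancel₀ (mul_ne_zero hmu0 hα0) this
  have hdiag : g.1 = Matrix.diagonal ![lam, g.1 1 1, g.1 2 2, mu] := by
    ext i j
    fin_cases i <;> fin_cases j <;>
      simp [c00, c10, c20, c30, c03, c13, c23, c33, g31, g32, g01', g02', g12, g21]
  have hdet : lam * g.1 1 1 * g.1 2 2 * mu = 1 := by
    have := g.2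
    rw [hdiag, Matrix.det_diagonal, Fin.prod_univ_four] at this
    simpa using this
  have hz : mu * D.θ t * t ^ 2 = 1 := by
    apply D.eq_one_of_pow_four
    rw [← hdet, h11', h22, hδ', E1, hθα, ← ht]
    ring
  refine ⟨Units.mk0 t ht0, ?_⟩
  apply Subtype.ext
  rw [hdiag]
  show _ = HH D.θ t
  have r0 : lam = D.θ t * t ^ 2 := by
    rw [E1, hθα, ← ht]
    linear_combination (D.θ t * t ^ 2) * hz
  have r1 : g.1 1 1 = D.θ t := by
    rw [h11', hδ', hθα, ← ht]
    linear_combination (D.θ t) * hz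
  have r2 : g.1 2 2 = (D.θ t)⁻¹ := by
    rw [h22, ← ht]
    apply eq_inv_of_mul_eq_one_left
    linear_combination hz
  have r3 : mu = (D.θ t * t ^ 2)⁻¹ := by
    apply eq_inv_of_mul_eq_one_left
    linear_combination hz
  rw [r0, r1, r2]
  ext i j
  fin_cases i <;> fin_cases j <;> simp [HH, r3]

theorem stab1 (D : Dat F m) {g : Matrix.SpecialLinearGroup (Fin 4) F} (hg : g ∈ Cfsg.Sz F m)
    (h1 : g • (pI : Projectivization F (Fin 4 → F)) = pI) :
    ∃ (a b : F) (t : Fˣ), g = Ts D a b * Hs D t := by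
  have hmem := smul_mem hg (pt_mem D 0 0)
  rcases (mem_ovoid D _).mp hmem with h | ⟨a, b, h⟩
  · exfalso
    rw [← h1] at h
    exact pt_ne_pI D 0 0 (MulAction.injective g h)
  · have hg' : (Ts D a b)⁻¹ * g ∈ Cfsg.Sz F m :=
      Subgroup.mul_mem _ (Subgroup.inv_mem _ (Ts_mem D a b)) hg
    have e1 : ((Ts D a b)⁻¹ * g) • (pI : Projectivization F (Fin 4 → F)) = pI := by
      rw [mul_smul, h1, inv_smul_eq_iff, Ts_pI]
    have e0 : ((Ts D a b)⁻¹ * g) • pt D 0 0 = pt D 0 0 := by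
      rw [mul_smul, h, inv_smul_eq_iff, Ts_pt]
      simp
    obtain ⟨t, ht⟩ := stab2 D hg' e1 e0
    exact ⟨a, b, t, by rw [← ht]; group⟩

theorem decomp (D : Dat F m) {g : Matrix.SpecialLinearGroup (Fin 4) F} (hg : g ∈ Cfsg.Sz F m) :
    (∃ (a b : F) (t : Fˣ), g = Ts D a b * Hs D t) ∨
    (∃ (a b c d : F) (t : Fˣ), g = Ts D a b * Ws D * (Ts D c d * Hs D t)) := by
  have hmem := smul_mem hg (pI_mem (F := F) (m := m))
  rcases (mem_ovoid D _).mp hmem with h | ⟨a, b, h⟩
  · left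
    exact stab1 D hg h
  · right
    have hg' : (Ts D a b * Ws D)⁻¹ * g ∈ Cfsg.Sz F m :=
      Subgroup.mul_mem _ (Subgroup.inv_mem _ (Subgroup.mul_mem _ (Ts_mem D a b) (Ws_mem D))) hg
    have e1 : ((Ts D a b * Ws D)⁻¹ * g) • (pI : Projectivization F (Fin 4 → F)) = pI := by
      rw [mul_smul, h, inv_smul_eq_iff, mul_smul, Ws_pI, Ts_pt]
      simp
    obtain ⟨c, d, t, ht⟩ := stab1 D hg' e1
    exact ⟨a, b, c, d, t, by rw [← ht]; group⟩

theorem exists_Ts (D : Dat F m) (x y x' y' : F) :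
    ∃ a b : F, Ts D a b • pt D x y = pt D x' y' := by
  refine ⟨x' - x, y' - y - D.θ (x' - x) * x, ?_⟩
  rw [Ts_pt]
  congr 1 <;> ring

theorem two_trans0 (D : Dat F m) {p q : Projectivization F (Fin 4 → F)}
    (hp : p ∈ Cfsg.suzukiOvoid F m) (hq : q ∈ Cfsg.suzukiOvoid F m) (hpq : p ≠ q) :
    ∃ g ∈ Cfsg.Sz F m, g • p = pI ∧ g • q = pt D 0 0 := by
  have step1 : ∃ g1 ∈ Cfsg.Sz F m, g1 • p = pI := by
    rcases (mem_ovoid D p).mp hp with rfl | ⟨a, b, rfl⟩
    · exact ⟨1, Subgroup.one_mem _, one_smul _ _⟩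
    · obtain ⟨a', b', h⟩ := exists_Ts D a b 0 0
      exact ⟨Ws D * Ts D a' b', Subgroup.mul_mem _ (Ws_mem D) (Ts_mem D _ _), by
        rw [mul_smul, h, Ws_pt0]⟩
  obtain ⟨g1, hg1, e1⟩ := step1
  have hq1 := smul_mem hg1 hq
  rcases (mem_ovoid D _).mp hq1 with h | ⟨c, d, h⟩
  · exfalso
    rw [← e1] at h
    exact hpq (MulAction.injective g1 h).symm
  · obtain ⟨a', b', h'⟩ := exists_Ts D c d 0 0
    refine ⟨Ts D a' b' * g1, Subgroup.mul_mem _ (Ts_mem D _ _) hg1, ?_, ?_⟩
    · rw [mul_smul, e1, Ts_pI]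
    · rw [mul_smul, h, h']

theorem two_trans (D : Dat F m) {p q p' q' : Projectivization F (Fin 4 → F)}
    (hp : p ∈ Cfsg.suzukiOvoid F m) (hq : q ∈ Cfsg.suzukiOvoid F m) (hpq : p ≠ q)
    (hp' : p' ∈ Cfsg.suzukiOvoid F m) (hq' : q' ∈ Cfsg.suzukiOvoid F m) (hpq' : p' ≠ q') :
    ∃ g ∈ Cfsg.Sz F m, g • p = p' ∧ g • q = q' := by
  obtain ⟨g1, hg1, e1, f1⟩ := two_trans0 D hp hq hpq
  obtain ⟨g2, hg2, e2, f2⟩ := two_trans0 D hp' hq' hpq'
  refine ⟨g2⁻¹ * g1, Subgroup.mul_mem _ (Subgroup.inv_mem _ hg2) hg1, ?_, ?_⟩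
  · rw [mul_smul, e1, inv_smul_eq_iff, e2]
  · rw [mul_smul, f1, inv_smul_eq_iff, f2]

end Cfsg.Agent.Lib.Helper1.Sz
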