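import Mathlib
import Cfsg.Prelude.Def_LieExceptional
import Cfsg.Agent.Lib.Helper1.Sz3

set_option autoImplicit false

namespace Cfsg.Agent.Lib.Helper1.Sz

open Matrix
open scoped Pointwise

variable {F : Type*} [Field F] [Fintype F] {m : ℕ}

theorem Dat.exists_ne (D : Dat F m) : ∃ c : F, c ≠ 0 ∧ c ≠ 1 := by
  classical
  by_contra h
  push_neg at h
  have hsub : (Finset.univ : Finset F) ⊆ {0, 1} := by
    intro c _
    by_cases hc : c = 0
    · simp [hc]
    · simp [h c hc]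
  have h1 := Finset.card_le_card hsub
  have h2 : ({0, 1} : Finset F).card ≤ 2 := Finset.card_le_two
  have h3 := D.card_gt
  have h4 : 0 < 2 ^ (m + 1) := by positivity
  rw [Finset.card_univ] at h1
  omega

theorem Dat.exists_unit_ne (D : Dat F m) : ∃ t : Fˣ, t ≠ 1 := by
  obtain ⟨c, hc0, hc1⟩ := D.exists_ne
  exact ⟨Units.mk0 c hc0, fun h => hc1 (by simpa using congrArg Units.val h)⟩

theorem Dat.unit_pow_card (D : Dat F m) (t : Fˣ) : t ^ (2 ^ (2 * m + 1)) = t := by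
  apply Units.ext
  rw [Units.val_pow_eq_pow_val, ← D.hF, FiniteField.pow_card]

theorem Dat.unit_eq_one (D : Dat F m) {t : Fˣ} (e : D.θ t ^ 2 * (t : F) ^ 2 = 1) : t = 1 := by
  apply Units.ext
  rw [Units.val_one]
  have e1 : D.θ t * (t : F) = 1 := D.eq_one_of_sq (by rw [mul_pow]; exact e)
  have e2 : (t : F) ^ 2 * D.θ t = 1 := by
    have := congrArg D.θ e1
    rw [map_mul, D.hθ, map_one] at this
    linear_combination this
  have h3 : (t : F) * (D.θ t * (t : F)) = 1 := by linear_combination e2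
  rw [e1, mul_one] at h3
  exact h3

theorem Dat.unit_sq_ne (D : Dat F m) {t : Fˣ} (ht : t ≠ 1) : (t : F) ^ 2 + 1 ≠ 0 := by
  intro h
  apply ht
  apply Units.ext
  rw [Units.val_one]
  apply D.eq_one_of_sq
  linear_combination h - D.h2

theorem Dat.unit_th_ne (D : Dat F m) {t : Fˣ} (ht : t ≠ 1) :
    D.θ t ^ 2 * (t : F) ^ 2 + 1 ≠ 0 := by
  intro h
  apply ht
  apply D.unit_eq_one
  linear_combination h - D.h2

theorem Ts_fix (D : Dat F m) {a b x y : F} (h : Ts D a b • pt D x y = pt D x y) :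
    a = 0 ∧ b = 0 := by
  rw [Ts_pt] at h
  obtain ⟨h1, h2⟩ := pt_inj D h
  have ha : a = 0 := by linear_combination h1
  subst ha
  refine ⟨rfl, ?_⟩
  simp only [map_zero, zero_mul, add_zero] at h2
  linear_combination h2

theorem Hs_fix (D : Dat F m) {t : Fˣ} {x y : F} (hxy : x ≠ 0 ∨ y ≠ 0)
    (h : Hs D t • pt D x y = pt D x y) : t = 1 := by
  rw [Hs_pt] at h
  obtain ⟨h1, h2⟩ := pt_inj D h
  rcases hxy with hx | hy
  · apply Units.ext
    rw [Units.val_one]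
    have h3 : (t : F) ^ 2 = 1 := by
      have : ((t : F) ^ 2 - 1) * x = 0 := by linear_combination h1
      rcases mul_eq_zero.mp this with h | h
      · linear_combination h
      · exact absurd h hx
    exact D.eq_one_of_sq h3
  · apply D.unit_eq_one
    have : (D.θ t ^ 2 * (t : F) ^ 2 - 1) * y = 0 := by linear_combination h2
    rcases mul_eq_zero.mp this with h | h
    · linear_combination h
    · exact absurd h hy

theorem fix3 (D : Dat F m) {g : Matrix.SpecialLinearGroup (Fin 4) F} (hg : g ∈ Cfsg.Sz F m)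
    {a b c : Projectivization F (Fin 4 → F)} (ha : a ∈ Cfsg.suzukiOvoid F m)
    (hb : b ∈ Cfsg.suzukiOvoid F m) (hc : c ∈ Cfsg.suzukiOvoid F m)
    (hab : a ≠ b) (hbc : b ≠ c) (hac : a ≠ c) (fa : g • a = a) (fb : g • b = b)
    (fc : g • c = c) : g = 1 := by
  obtain ⟨k, hk, e1, e2⟩ := two_trans0 D ha hb hab
  have hg' : k * g * k⁻¹ ∈ Cfsg.Sz F m :=
    Subgroup.mul_mem _ (Subgroup.mul_mem _ hk hg) (Subgroup.inv_mem _ hk)
  have f1 : (k * g * k⁻¹) • (pI : Projectivization F (Fin 4 → F)) = pI := by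
    rw [mul_smul, mul_smul, ← e1, inv_smul_smul, fa]
  have f0 : (k * g * k⁻¹) • pt D 0 0 = pt D 0 0 := by
    rw [mul_smul, mul_smul, ← e2, inv_smul_smul, fb]
  obtain ⟨t, ht⟩ := stab2 D hg' f1 f0
  have hkc := smul_mem hk hc
  rcases (mem_ovoid D _).mp hkc with h | ⟨x, y, h⟩
  · exfalso
    rw [← e1] at h
    exact hac (MulAction.injective k h).symm
  · have hxy : x ≠ 0 ∨ y ≠ 0 := by
      by_contra hcon
      simp only [not_or, not_not] at hcon
      obtain ⟨rfl, rfl⟩ := hcon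
      rw [← e2] at h
      exact hbc (MulAction.injective k h).symm
    have f2 : Hs D t • pt D x y = pt D x y := by
      rw [← ht, ← h, mul_smul, mul_smul, inv_smul_smul, fc]
    have h1 := Hs_fix D hxy f2
    subst h1
    rw [Hs_one] at ht
    have e : g = k⁻¹ * (k * g * k⁻¹) * k := by group
    rw [e, ht]
    group

def tG (D : Dat F m) (a b : F) : Cfsg.Sz F m := ⟨Ts D a b, Ts_mem D a b⟩

def hG (D : Dat F m) (t : Fˣ) : Cfsg.Sz F m := ⟨Hs D t, Hs_mem D t⟩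

def wG (D : Dat F m) : Cfsg.Sz F m := ⟨Ws D, Ws_mem D⟩

theorem tG_mul (D : Dat F m) (a b c d : F) :
    tG D a b * tG D c d = tG D (a + c) (b + d + D.θ a * c) := Subtype.ext (Ts_mul D a b c d)

theorem tG_zero (D : Dat F m) : tG D 0 0 = 1 := Subtype.ext (Ts_zero D)

theorem tG_inv (D : Dat F m) (a b : F) : (tG D a b)⁻¹ = tG D a (b + D.θ a * a) :=
  Subtype.ext (Ts_inv D a b)

theorem tG_inj (D : Dat F m) {a b c d : F} (h : tG D a b = tG D c d) : a = c ∧ b = d := by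
  have h' : Ts D a b = Ts D c d := congrArg Subtype.val h
  have h0 := congrArg (fun g => g • pt D 0 0) h'
  simp only [Ts_pt] at h0
  obtain ⟨h1, h2⟩ := pt_inj D h0
  simp only [zero_add, mul_zero, add_zero] at h1 h2
  exact ⟨h1, h2⟩

theorem tG_sq (D : Dat F m) (a b : F) : tG D a b * tG D a b = tG D 0 (D.θ a * a) := by
  rw [tG_mul]
  congr 1
  · exact D.add_self a
  · rw [D.add_self b, zero_add]

theorem tG_pow_four (D : Dat F m) (a b : F) : tG D a b ^ 4 = 1 := by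
  have e : tG D a b ^ 4 = (tG D a b * tG D a b) * (tG D a b * tG D a b) := by
    simp only [pow_succ, pow_zero, one_mul, mul_assoc]
  rw [e, tG_sq, tG_sq, ← tG_zero D]
  congr 1
  simp

theorem hG_mul (D : Dat F m) (s t : Fˣ) : hG D s * hG D t = hG D (s * t) :=
  Subtype.ext (Hs_mul D s t)

theorem hG_one (D : Dat F m) : hG D 1 = 1 := Subtype.ext (Hs_one D)

def hGHom (D : Dat F m) : Fˣ →* Cfsg.Sz F m where
  toFun := hG D
  map_one' := hG_one D
  map_mul' s t := (hG_mul D s t).symm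

theorem hG_pow (D : Dat F m) (t : Fˣ) (k : ℕ) : hG D t ^ k = hG D (t ^ k) :=
  (map_pow (hGHom D) t k).symm

theorem hG_inv (D : Dat F m) (t : Fˣ) : (hG D t)⁻¹ = hG D t⁻¹ :=
  (map_inv (hGHom D) t).symm

theorem hG_inj (D : Dat F m) {s t : Fˣ} (h : hG D s = hG D t) : s = t :=
  Hs_inj D (congrArg Subtype.val h)

theorem hG_tG (D : Dat F m) (t : Fˣ) (a b : F) :
    hG D t * tG D a b * (hG D t)⁻¹ = tG D ((t : F) ^ 2 * a) (D.θ t ^ 2 * (t : F) ^ 2 * b) := by
  rw [mul_inv_eq_iff_eq_mul]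
  exact Subtype.ext (Hs_Ts D t a b)

theorem wG_mul (D : Dat F m) : wG D * wG D = 1 := Subtype.ext (Ws_mul D)

theorem wG_hG (D : Dat F m) (t : Fˣ) : wG D * hG D t * (wG D * hG D t) = 1 := by
  have h : wG D * hG D t * wG D = hG D t⁻¹ := Subtype.ext (Ws_Hs D t)
  calc wG D * hG D t * (wG D * hG D t) = (wG D * hG D t * wG D) * hG D t := by group
    _ = 1 := by rw [h, hG_mul]; simp [hG_one]

theorem stab1G (D : Dat F m) (g : Cfsg.Sz F m)
    (h : (g : Matrix.SpecialLinearGroup (Fin 4) F) • (pI : Projectivization F (Fin 4 → F)) = pI) :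
    ∃ (a b : F) (t : Fˣ), g = tG D a b * hG D t := by
  obtain ⟨a, b, t, e⟩ := stab1 D g.2 h
  exact ⟨a, b, t, Subtype.ext e⟩

theorem normal_trans (D : Dat F m) {N : Subgroup (Cfsg.Sz F m)} (hN : N.Normal) (hne : N ≠ ⊥)
    {q : Projectivization F (Fin 4 → F)} (hq : q ∈ Cfsg.suzukiOvoid F m) :
    ∃ n ∈ N, (n : Matrix.SpecialLinearGroup (Fin 4) F) •
      (pI : Projectivization F (Fin 4 → F)) = q := by
  obtain ⟨⟨n0, hn0⟩, hn01⟩ := (Subgroup.ne_bot_iff_exists_ne_one).mp hne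
  have hn01' : n0 ≠ 1 := fun h => hn01 (Subtype.ext h)
  have hmv : ∃ p ∈ Cfsg.suzukiOvoid F m,
      (n0 : Matrix.SpecialLinearGroup (Fin 4) F) • p ≠ p := by
    by_contra hcon
    push_neg at hcon
    apply hn01'
    apply Subtype.ext
    have hne1 : pt D 0 0 ≠ pt D 1 0 := fun h => by
      have := (pt_inj D h).1
      exact zero_ne_one this
    have f1 : (n0 : Matrix.SpecialLinearGroup (Fin 4) F) •
        (pI : Projectivization F (Fin 4 → F)) = pI := hcon pI (pI_mem (F := F) (m := m))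
    have f2 : (n0 : Matrix.SpecialLinearGroup (Fin 4) F) • pt D 0 0 = pt D 0 0 :=
      hcon _ (pt_mem D 0 0)
    have f3 : (n0 : Matrix.SpecialLinearGroup (Fin 4) F) • pt D 1 0 = pt D 1 0 :=
      hcon _ (pt_mem D 1 0)
    exact fix3 D n0.2 (pI_mem (F := F) (m := m)) (pt_mem D 0 0) (pt_mem D 1 0)
      (pt_ne_pI D 0 0).symm hne1 (pt_ne_pI D 1 0).symm f1 f2 f3
  obtain ⟨p, hp, hpm⟩ := hmv
  by_cases hqI : q = pI
  · exact ⟨1, N.one_mem, by rw [hqI]; exact one_smul _ _⟩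
  · obtain ⟨k, hk, e1, e2⟩ := two_trans D hp (smul_mem n0.2 hp) (Ne.symm hpm) pI_mem hq
      (Ne.symm hqI)
    obtain ⟨kG, hkG⟩ : ∃ kG : Cfsg.Sz F m, (kG : Matrix.SpecialLinearGroup (Fin 4) F) = k :=
      ⟨⟨k, hk⟩, rfl⟩
    refine ⟨kG * n0 * kG⁻¹, hN.conj_mem n0 hn0 kG, ?_⟩
    show ((kG : Matrix.SpecialLinearGroup (Fin 4) F) *
      (n0 : Matrix.SpecialLinearGroup (Fin 4) F) *
      (kG : Matrix.SpecialLinearGroup (Fin 4) F)⁻¹) • pI = q
    rw [hkG]
    rw [mul_smul, mul_smul, ← e1, inv_smul_smul, e2]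

theorem normal_decomp (D : Dat F m) {N : Subgroup (Cfsg.Sz F m)} (hN : N.Normal) (hne : N ≠ ⊥)
    (g : Cfsg.Sz F m) : ∃ n ∈ N, ∃ (a b : F) (t : Fˣ), g = n * tG D a b * hG D t := by
  obtain ⟨n, hn, e⟩ := normal_trans D hN hne (smul_mem g.2 (pI_mem (F := F) (m := m)))
  have h : ((n⁻¹ * g : Cfsg.Sz F m) : Matrix.SpecialLinearGroup (Fin 4) F) •
      (pI : Projectivization F (Fin 4 → F)) = pI := by
    show ((n : Matrix.SpecialLinearGroup (Fin 4) F)⁻¹ * g) • pI = pI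
    rw [mul_smul, inv_smul_eq_iff, e]
  obtain ⟨a, b, t, e2⟩ := stab1G D _ h
  exact ⟨n, hn, a, b, t, by rw [mul_assoc, ← e2]; group⟩

theorem no_regular (D : Dat F m) {N : Subgroup (Cfsg.Sz F m)} (hN : N.Normal)
    (hfree : ∀ n ∈ N, (n : Matrix.SpecialLinearGroup (Fin 4) F) •
      (pI : Projectivization F (Fin 4 → F)) = pI → n = 1)
    (hmove : ∃ n ∈ N, n ≠ 1) : False := by
  obtain ⟨n0, hn0, hn01⟩ := hmove
  have claimA : ∀ a b : F, ∀ n ∈ N, n ≠ 1 → tG D a b * n = n * tG D a b → a = 0 ∧ b = 0 := by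
    intro a b n hn hn1 hcomm
    have hmem := smul_mem n.2 (pI_mem (F := F) (m := m))
    rcases (mem_ovoid D _).mp hmem with h | ⟨x, y, h⟩
    · exact absurd (hfree n hn h) hn1
    · apply Ts_fix D (x := x) (y := y)
      rw [← h, ← mul_smul]
      have e : Ts D a b * (n : Matrix.SpecialLinearGroup (Fin 4) F) = n * Ts D a b :=
        congrArg Subtype.val hcomm
      rw [e, mul_smul, Ts_pI]
  have claimB : ∀ b : F, b ≠ 0 → ∀ x ∈ N, tG D 0 b * x * (tG D 0 b)⁻¹ = x⁻¹ := by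
    intro b hb x hx
    have hzz : tG D 0 b * tG D 0 b = 1 := by
      rw [tG_sq, ← tG_zero D]
      congr 1
      simp
    have hzi : (tG D 0 b)⁻¹ = tG D 0 b := inv_eq_of_mul_eq_one_right hzz
    let ψ : N → N := fun n => ⟨(n : Cfsg.Sz F m)⁻¹ * (tG D 0 b * n * (tG D 0 b)⁻¹),
      N.mul_mem (N.inv_mem n.2) (hN.conj_mem n n.2 _)⟩
    have hinj : Function.Injective ψ := by
      intro n k h
      have h' : (n : Cfsg.Sz F m)⁻¹ * (tG D 0 b * n * (tG D 0 b)⁻¹)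
          = (k : Cfsg.Sz F m)⁻¹ * (tG D 0 b * k * (tG D 0 b)⁻¹) := congrArg Subtype.val h
      have h2 : (n : Cfsg.Sz F m)⁻¹ * tG D 0 b * n = (k : Cfsg.Sz F m)⁻¹ * tG D 0 b * k := by
        have := congrArg (· * tG D 0 b) h'
        simpa [mul_assoc] using this
      have hc : tG D 0 b * ((k : Cfsg.Sz F m) * (n : Cfsg.Sz F m)⁻¹)
          = ((k : Cfsg.Sz F m) * (n : Cfsg.Sz F m)⁻¹) * tG D 0 b := by
        calc tG D 0 b * ((k : Cfsg.Sz F m) * (n : Cfsg.Sz F m)⁻¹)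
            = k * ((k : Cfsg.Sz F m)⁻¹ * tG D 0 b * k) * (n : Cfsg.Sz F m)⁻¹ := by group
          _ = k * ((n : Cfsg.Sz F m)⁻¹ * tG D 0 b * n) * (n : Cfsg.Sz F m)⁻¹ := by rw [h2]
          _ = ((k : Cfsg.Sz F m) * (n : Cfsg.Sz F m)⁻¹) * tG D 0 b := by group
      by_contra hne
      have hne' : (k : Cfsg.Sz F m) * (n : Cfsg.Sz F m)⁻¹ ≠ 1 := fun h1 =>
        hne (Subtype.ext (mul_inv_eq_one.mp h1).symm)
      exact hb (claimA 0 b _ (N.mul_mem k.2 (N.inv_mem n.2)) hne' hc).2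
    obtain ⟨n, hn⟩ := (Finite.injective_iff_surjective.mp hinj) ⟨x, hx⟩
    have hx' : x = (n : Cfsg.Sz F m)⁻¹ * (tG D 0 b * n * (tG D 0 b)⁻¹) :=
      (congrArg Subtype.val hn).symm
    have e : tG D 0 b * (n : Cfsg.Sz F m) * (tG D 0 b)⁻¹ = (tG D 0 b)⁻¹ * n * tG D 0 b := by
      rw [hzi]
    rw [hx']
    conv_lhs => rw [e]
    group
  obtain ⟨c, hc0, hc1⟩ := D.exists_ne
  have h1 := claimB 1 one_ne_zero n0 hn0
  have h2 := claimB c hc0 n0 hn0
  have hcomm : tG D 0 (1 + c) * n0 = n0 * tG D 0 (1 + c) := by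
    have e : tG D 0 (1 + c) = tG D 0 1 * tG D 0 c := by
      rw [tG_mul]
      congr 1 <;> simp
    rw [e]
    have a2 : tG D 0 c * n0 = n0⁻¹ * tG D 0 c := by rw [← h2]; group
    have h1' := congrArg (·⁻¹) h1
    simp only [_root_.mul_inv_rev, inv_inv] at h1'
    have a1 : tG D 0 1 * n0⁻¹ = n0 * tG D 0 1 := by
      calc tG D 0 1 * n0⁻¹ = (tG D 0 1 * (n0⁻¹ * (tG D 0 1)⁻¹)) * tG D 0 1 := by group
        _ = n0 * tG D 0 1 := by rw [h1']
    calc tG D 0 1 * tG D 0 c * n0 = tG D 0 1 * (tG D 0 c * n0) := by group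
      _ = tG D 0 1 * n0⁻¹ * tG D 0 c := by rw [a2]; group
      _ = n0 * (tG D 0 1 * tG D 0 c) := by rw [a1]; group
  have h3 := (claimA 0 (1 + c) n0 hn0 hn01 hcomm).2
  exact hc1 (by linear_combination h3 - D.h2)

end Cfsg.Agent.Lib.Helper1.Sz
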