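import Mathlib
import Cfsg.Prelude.Def_LieExceptional
import Cfsg.Agent.Lib.Helper1.Sz4

set_option autoImplicit false

namespace Cfsg.Agent.Lib.Helper1.Sz

open Matrix
open scoped Pointwise

variable {F : Type*} [Field F] [Fintype F] {m : ℕ}

def UG (D : Dat F m) : Subgroup (Cfsg.Sz F m) where
  carrier := {g | ∃ a b : F, g = tG D a b}
  mul_mem' := by
    rintro _ _ ⟨a, b, rfl⟩ ⟨c, d, rfl⟩
    exact ⟨_, _, tG_mul D a b c d⟩
  one_mem' := ⟨0, 0, (tG_zero D).symm⟩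
  inv_mem' := by
    rintro _ ⟨a, b, rfl⟩
    exact ⟨_, _, tG_inv D a b⟩

theorem tG_mem_UG (D : Dat F m) (a b : F) : tG D a b ∈ UG D := ⟨a, b, rfl⟩

theorem tG_comm_eq (D : Dat F m) {t : Fˣ} (ht : t ≠ 1) (a b : F) :
    ∃ a' b' : F, tG D a b = hG D t * tG D a' b' * (hG D t)⁻¹ * (tG D a' b')⁻¹ := by
  have hκ1 := D.unit_sq_ne ht
  have hκ2 := D.unit_th_ne ht
  refine ⟨a / ((t : F) ^ 2 + 1), (b + D.θ a * (a / ((t : F) ^ 2 + 1))) /
    (D.θ t ^ 2 * (t : F) ^ 2 + 1), ?_⟩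
  set a' := a / ((t : F) ^ 2 + 1) with ha'
  set b' := (b + D.θ a * a') / (D.θ t ^ 2 * (t : F) ^ 2 + 1) with hb'
  have e1 : ((t : F) ^ 2 + 1) * a' = a := by rw [ha']; field_simp
  have e2 : (D.θ t ^ 2 * (t : F) ^ 2 + 1) * b' = b + D.θ a * a' := by rw [hb']; field_simp
  have e3 : D.θ a = (D.θ t ^ 2 + 1) * D.θ a' := by
    rw [← e1]
    simp only [map_mul, map_add, map_pow, map_one]
  rw [hG_tG, tG_inv, tG_mul]
  have h2 := D.h2
  congr 1
  · linear_combination (-1 : F) * e1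
  · rw [map_mul, map_pow]
    grind

theorem normal_top (D : Dat F m) {N : Subgroup (Cfsg.Sz F m)} (hN : N.Normal) (hne : N ≠ ⊥) :
    N = ⊤ := by
  have hNM : N ≤ N ⊔ UG D := le_sup_left
  have hUM : ∀ a b, tG D a b ∈ N ⊔ UG D := fun a b =>
    (le_sup_right : UG D ≤ N ⊔ UG D) (tG_mem_UG D a b)
  have hsplit : ∀ x ∈ N ⊔ UG D, ∃ n ∈ N, ∃ a b : F, x = n * tG D a b := by
    intro x hx
    haveI := hN
    have hx' : x ∈ ((N : Set (Cfsg.Sz F m)) * (UG D : Set (Cfsg.Sz F m))) := by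
      rw [← Subgroup.normal_mul]
      exact hx
    obtain ⟨n, hn, u, ⟨a, b, rfl⟩, rfl⟩ := Set.mem_mul.mp hx'
    exact ⟨n, hn, a, b, rfl⟩
  have hMn : ∀ x ∈ N ⊔ UG D, ∀ g : Cfsg.Sz F m, g * x * g⁻¹ ∈ N ⊔ UG D := by
    intro x hx g
    obtain ⟨n', hn', a', b', rfl⟩ := hsplit x hx
    obtain ⟨n, hn, a, b, t, rfl⟩ := normal_decomp D hN hne g
    have e : n * tG D a b * hG D t * (n' * tG D a' b') * (n * tG D a b * hG D t)⁻¹
        = ((n * tG D a b * hG D t) * n' * (n * tG D a b * hG D t)⁻¹) *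
          (n * (tG D a b * (hG D t * tG D a' b' * (hG D t)⁻¹) * (tG D a b)⁻¹) * n⁻¹) := by
      group
    rw [e, hG_tG]
    exact Subgroup.mul_mem _ (hNM (hN.conj_mem n' hn' _))
      (Subgroup.mul_mem _ (Subgroup.mul_mem _ (hNM hn)
        (Subgroup.mul_mem _ (Subgroup.mul_mem _ (hUM _ _) (hUM _ _))
          (Subgroup.inv_mem _ (hUM _ _)))) (Subgroup.inv_mem _ (hNM hn)))
  have hH2 : ∀ t : Fˣ, hG D (t * t) ∈ N ⊔ UG D → hG D t ∈ N ⊔ UG D := by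
    intro t h
    have h1 := Subgroup.pow_mem _ h (2 ^ (2 * m))
    rw [hG_pow] at h1
    have e : (t * t) ^ 2 ^ (2 * m) = t := by
      rw [← pow_two, ← pow_mul]
      have : 2 * 2 ^ (2 * m) = 2 ^ (2 * m + 1) := by ring
      rw [this, D.unit_pow_card]
    rwa [e] at h1
  have hinv : ∀ g : Cfsg.Sz F m, g * g = 1 → g ∈ N ⊔ UG D := by
    intro g hgg
    obtain ⟨n, hn, a, b, t, rfl⟩ := normal_decomp D hN hne g
    have hxM : n * tG D a b ∈ N ⊔ UG D := Subgroup.mul_mem _ (hNM hn) (hUM a b)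
    have h1 : hG D t = (n * tG D a b * hG D t * (n * tG D a b))⁻¹ :=
      eq_inv_of_mul_eq_one_right (by rw [← hgg]; group)
    have h2 : hG D t * hG D t = (hG D t * (n * tG D a b)⁻¹ * (hG D t)⁻¹) * (n * tG D a b)⁻¹ := by
      nth_rewrite 2 [h1]
      group
    have h3 : hG D (t * t) ∈ N ⊔ UG D := by
      rw [← hG_mul, h2]
      exact Subgroup.mul_mem _ (hMn _ (Subgroup.inv_mem _ hxM) _) (Subgroup.inv_mem _ hxM)
    exact Subgroup.mul_mem _ hxM (hH2 t h3)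
  have hW : wG D ∈ N ⊔ UG D := hinv _ (wG_mul D)
  have hH : ∀ t, hG D t ∈ N ⊔ UG D := by
    intro t
    have h1 := hinv (wG D * hG D t) (wG_hG D t)
    have e : hG D t = (wG D)⁻¹ * (wG D * hG D t) := by group
    rw [e]
    exact Subgroup.mul_mem _ (Subgroup.inv_mem _ hW) h1
  have hNU : ∀ g : Cfsg.Sz F m, ∃ n ∈ N, ∃ a b : F, g = n * tG D a b := by
    intro g
    apply hsplit
    obtain ⟨n, hn, a, b, t, rfl⟩ := normal_decomp D hN hne g
    exact Subgroup.mul_mem _ (Subgroup.mul_mem _ (hNM hn) (hUM a b)) (hH t)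
  have h4 : ∀ t : Fˣ, hG D (t ^ 4) ∈ N := by
    intro t
    obtain ⟨n, hn, a, b, e⟩ := hNU (hG D t)
    haveI := hN
    have h5 : ((hG D t ^ 4 : Cfsg.Sz F m) : Cfsg.Sz F m ⧸ N) = 1 := by
      rw [QuotientGroup.mk_pow, e, QuotientGroup.mk_mul, (QuotientGroup.eq_one_iff n).mpr hn,
        one_mul, ← QuotientGroup.mk_pow, tG_pow_four, QuotientGroup.mk_one]
    have h6 := (QuotientGroup.eq_one_iff _).mp h5
    rwa [hG_pow] at h6
  have hHN : ∀ t : Fˣ, hG D t ∈ N := by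
    intro t
    have e : (t ^ 2 ^ (2 * m - 1)) ^ 4 = t := by
      rw [← pow_mul]
      have h7 : 2 * m - 1 + 2 = 2 * m + 1 := by have := D.hm; omega
      have : 2 ^ (2 * m - 1) * 4 = 2 ^ (2 * m + 1) := by
        rw [← h7, pow_add]
        norm_num
      rw [this, D.unit_pow_card]
    have := h4 (t ^ 2 ^ (2 * m - 1))
    rwa [e] at this
  have hUN : ∀ a b : F, tG D a b ∈ N := by
    intro a b
    obtain ⟨t, ht⟩ := D.exists_unit_ne
    obtain ⟨a', b', e⟩ := tG_comm_eq D ht a b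
    rw [e, mul_assoc, mul_assoc]
    refine N.mul_mem (hHN t) ?_
    rw [← mul_assoc]
    exact hN.conj_mem _ (N.inv_mem (hHN t)) _
  rw [eq_top_iff]
  intro g _
  obtain ⟨n, hn, a, b, rfl⟩ := hNU g
  exact N.mul_mem hn (hUN a b)

theorem simple (D : Dat F m) : IsSimpleGroup (Cfsg.Sz F m) := by
  haveI : Nontrivial (Cfsg.Sz F m) := by
    obtain ⟨t, ht⟩ := D.exists_unit_ne
    exact ⟨⟨hG D t, 1, fun h => ht (hG_inj D (h.trans (hG_one D).symm))⟩⟩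
  refine ⟨fun N hN => ?_⟩
  by_cases h : N = ⊥
  · exact Or.inl h
  · exact Or.inr (normal_top D hN h)

end Cfsg.Agent.Lib.Helper1.Sz
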