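import Mathlib
import Cfsg.Prelude.Def_LieExceptional
import Cfsg.Agent.Lib.Helper1.Sz5

set_option autoImplicit false

namespace Cfsg.Agent.Lib.Helper1.Sz

open Matrix
open scoped Pointwise commutatorElement

variable {F : Type*} [Field F] [Fintype F] {m : ℕ}

theorem mem_smul_sylow {G : Type*} [Group G] {p : ℕ} (g : G) (P : Sylow p G) (x : G) :
    x ∈ (g • P : Sylow p G) ↔ g⁻¹ * x * g ∈ P := by
  rw [Sylow.smul_def, ← SetLike.mem_coe, ← Sylow.coe_coe, Sylow.pointwise_smul_def,
    SetLike.mem_coe, Subgroup.mem_pointwise_smul_iff_inv_smul_mem]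
  simp only [MulAut.smul_def, MulAut.inv_apply, MulAut.conj_symm_apply]
  exact Iff.rfl

theorem sylow_of_card {G : Type*} [Group G] [Finite G] {p : ℕ} [Fact p.Prime] (H : Subgroup G)
    {k r : ℕ} (hH : Nat.card H = p ^ k) (hG : Nat.card G = p ^ k * r) (hr : ¬ p ∣ r) :
    ∃ P : Sylow p G, (P : Subgroup G) = H := by
  have hp := (Fact.out : p.Prime)
  have hr0 : r ≠ 0 := fun h => hr (h ▸ dvd_zero p)
  refine ⟨Sylow.ofCard H ?_, rfl⟩
  rw [hH, hG, Nat.factorization_mul (pow_ne_zero _ hp.ne_zero) hr0,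
    Nat.Prime.factorization_pow hp]
  simp [Nat.factorization_eq_zero_of_not_dvd hr]

theorem card_UG (D : Dat F m) : Nat.card (UG D) = 2 ^ (2 * (2 * m + 1)) := by
  have hb : Function.Bijective (fun x : F × F => (⟨tG D x.1 x.2, tG_mem_UG D _ _⟩ : UG D)) := by
    constructor
    · intro x y h
      have h' := tG_inj D (congrArg Subtype.val h)
      exact Prod.ext h'.1 h'.2
    · rintro ⟨_, a, b, rfl⟩
      exact ⟨(a, b), rfl⟩
  rw [← Nat.card_eq_of_bijective _ hb, Nat.card_prod, Nat.card_eq_fintype_card, D.hF]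
  ring

theorem odd_part (m : ℕ) : ¬ 2 ∣ ((2 ^ (2 * m + 1)) ^ 2 + 1) * (2 ^ (2 * m + 1) - 1) := by
  intro h
  have hq : 2 ^ (2 * m + 1) = 2 * 2 ^ (2 * m) := by ring
  have hk : 1 ≤ 2 ^ (2 * m) := Nat.one_le_two_pow
  rcases (Nat.Prime.dvd_mul Nat.prime_two).mp h with h | h
  · have e : (2 ^ (2 * m + 1)) ^ 2 = 2 * (2 ^ (2 * m) * 2 ^ (2 * m + 1)) := by
      rw [sq]
      nth_rewrite 1 [hq]
      ring
    rw [e] at h
    omega
  · rw [hq] at h
    omega

theorem exists_sylow_UG (D : Dat F m)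
    (hG : Nat.card (Cfsg.Sz F m) = (2 ^ (2 * m + 1)) ^ 2 * ((2 ^ (2 * m + 1)) ^ 2 + 1)
      * (2 ^ (2 * m + 1) - 1)) :
    ∃ Q : Sylow 2 (Cfsg.Sz F m), (Q : Subgroup (Cfsg.Sz F m)) = UG D := by
  apply sylow_of_card (UG D) (card_UG D) (r := ((2 ^ (2 * m + 1)) ^ 2 + 1) * (2 ^ (2 * m + 1) - 1))
  · rw [hG]
    ring
  · exact odd_part m

theorem suz2 (D : Dat F m) {V : Type*} [Group V] (τ : F → F → V)
    (hinj : ∀ a b c d, τ a b = τ c d → a = c ∧ b = d) (hsurj : ∀ v, ∃ a b, v = τ a b)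
    (hmul : ∀ a b c d, τ a b * τ c d = τ (a + c) (b + d + D.θ a * c)) :
    Nat.card V = (2 ^ (2 * m + 1)) ^ 2 ∧ Monoid.exponent V = 4 ∧
      Subgroup.center V = commutator V ∧ Nat.card (Subgroup.center V) = 2 ^ (2 * m + 1) := by
  have h2 := D.h2
  have h1 : τ 0 0 = 1 := by
    have : τ 0 0 * τ 0 0 = τ 0 0 * 1 := by
      rw [hmul, mul_one]
      congr 1 <;> simp
    exact mul_left_cancel this
  have hsq : ∀ a b, τ a b * τ a b = τ 0 (D.θ a * a) := by
    intro a b
    rw [hmul]
    congr 1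
    · exact D.add_self a
    · rw [D.add_self b, zero_add]
  have hpow4 : ∀ v : V, v ^ 4 = 1 := by
    intro v
    obtain ⟨a, b, rfl⟩ := hsurj v
    have e : τ a b ^ 4 = (τ a b * τ a b) * (τ a b * τ a b) := by
      simp only [pow_succ, pow_zero, one_mul, mul_assoc]
    rw [e, hsq, hsq, ← h1]
    congr 1
    simp
  have hfix : ∀ c0 : F, D.θ c0 = c0 → c0 = 0 ∨ c0 = 1 := by
    intro c0 h
    have h3 : c0 ^ 2 = c0 := by rw [← D.hθ, h, h]
    have : c0 * (c0 - 1) = 0 := by linear_combination h3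
    rcases mul_eq_zero.mp this with h | h
    · exact Or.inl h
    · exact Or.inr (by linear_combination h)
  have hcen : ∀ a b, τ a b ∈ Subgroup.center V ↔ a = 0 := by
    intro a b
    rw [Subgroup.mem_center_iff]
    constructor
    · intro h
      have k1 := h (τ 1 0)
      rw [hmul, hmul] at k1
      have k1' := (hinj _ _ _ _ k1).2
      simp only [map_one, zero_add, add_zero, one_mul, mul_one] at k1'
      have ha : D.θ a = a := by linear_combination -k1'
      obtain ⟨c0, hc0, hc1⟩ := D.exists_ne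
      have k2 := h (τ c0 0)
      rw [hmul, hmul] at k2
      have k2' := (hinj _ _ _ _ k2).2
      simp only [zero_add, add_zero] at k2'
      by_contra ha0
      have h3 : D.θ c0 = c0 := by
        have : a * (D.θ c0 - c0) = 0 := by rw [ha] at k2'; linear_combination k2'
        rcases mul_eq_zero.mp this with h | h
        · exact absurd h ha0
        · linear_combination h
      rcases hfix c0 h3 with h | h
      · exact hc0 h
      · exact hc1 h
    · rintro rfl g
      obtain ⟨c, d, rfl⟩ := hsurj g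
      rw [hmul, hmul]
      congr 1
      · ring
      · simp
        ring
  have hcomm : ∀ a b c d, ⁅τ a b, τ c d⁆ = τ 0 (D.θ a * c + D.θ c * a) := by
    intro a b c d
    have e : τ a b * τ c d = τ 0 (D.θ a * c + D.θ c * a) * (τ c d * τ a b) := by
      rw [hmul, hmul, hmul]
      congr 1
      · ring
      · simp
        grind
    rw [commutatorElement_def, e]
    group
  refine ⟨?_, ?_, ?_, ?_⟩
  · have hb : Function.Bijective (fun x : F × F => τ x.1 x.2) :=
      ⟨fun x y h => Prod.ext (hinj _ _ _ _ h).1 (hinj _ _ _ _ h).2, fun v => by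
        obtain ⟨a, b, rfl⟩ := hsurj v
        exact ⟨(a, b), rfl⟩⟩
    rw [← Nat.card_eq_of_bijective _ hb, Nat.card_prod, Nat.card_eq_fintype_card, D.hF]
    ring
  · have hd : Monoid.exponent V ∣ 4 := Monoid.exponent_dvd_of_forall_pow_eq_one hpow4
    have hnd : ¬ Monoid.exponent V ∣ 2 := by
      intro h
      have h3 := Monoid.exponent_dvd_iff_forall_pow_eq_one.mp h (τ 1 0)
      rw [pow_two, hsq, ← h1] at h3
      have h4 := (hinj _ _ _ _ h3).2
      simp at h4
    obtain ⟨k, hk, hk2⟩ := (Nat.dvd_prime_pow Nat.prime_two).mp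
      (show Monoid.exponent V ∣ 2 ^ 2 from hd)
    interval_cases k
    · exact absurd (hk2 ▸ (by norm_num : (2 : ℕ) ^ 0 ∣ 2)) hnd
    · exact absurd (hk2 ▸ (by norm_num : (2 : ℕ) ^ 1 ∣ 2)) hnd
    · rw [hk2]
      norm_num
  · apply le_antisymm
    · intro z hz
      obtain ⟨a, b, rfl⟩ := hsurj z
      have ha := (hcen a b).mp hz
      subst ha
      by_cases hb : b = 0
      · subst hb
        rw [h1]
        exact Subgroup.one_mem _
      · obtain ⟨c0, hc0, hc1⟩ := D.exists_ne
        have hi : c0 + D.θ c0 ≠ 0 := by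
          intro h
          have h3 : D.θ c0 = c0 := by linear_combination h - c0 * h2
          rcases hfix c0 h3 with h | h
          · exact hc0 h
          · exact hc1 h
        set l := b / (c0 + D.θ c0) with hl
        have hl0 : l ≠ 0 := div_ne_zero hb hi
        have hθl0 : D.θ l ≠ 0 := by simpa using hl0
        have key : D.θ (D.θ l / l) * (D.θ l / l * c0) + D.θ (D.θ l / l * c0) * (D.θ l / l)
            = b := by
          rw [map_mul, map_div₀, D.hθ]
          have : b = l * (c0 + D.θ c0) := by rw [hl]; field_simp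
          rw [this]
          field_simp
        rw [← key, ← hcomm (D.θ l / l) 0 (D.θ l / l * c0) 0, commutator_def]
        exact Subgroup.commutator_mem_commutator (Subgroup.mem_top _) (Subgroup.mem_top _)
    · rw [commutator_def, Subgroup.commutator_le]
      intro g1 _ g2 _
      obtain ⟨a, b, rfl⟩ := hsurj g1
      obtain ⟨c, d, rfl⟩ := hsurj g2
      rw [hcomm]
      exact (hcen _ _).mpr rfl
  · have hb : Function.Bijective
        (fun b : F => (⟨τ 0 b, (hcen 0 b).mpr rfl⟩ : Subgroup.center V)) := by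
      constructor
      · intro b b' h
        exact (hinj _ _ _ _ (congrArg Subtype.val h)).2
      · rintro ⟨z, hz⟩
        obtain ⟨a, b, rfl⟩ := hsurj z
        have ha := (hcen a b).mp hz
        subst ha
        exact ⟨b, rfl⟩
    rw [← Nat.card_eq_of_bijective _ hb, Nat.card_eq_fintype_card, D.hF]

theorem sylow2 (D : Dat F m)
    (hG : Nat.card (Cfsg.Sz F m) = (2 ^ (2 * m + 1)) ^ 2 * ((2 ^ (2 * m + 1)) ^ 2 + 1)
      * (2 ^ (2 * m + 1) - 1)) (P : Sylow 2 (Cfsg.Sz F m)) :
    Nat.card P = (2 ^ (2 * m + 1)) ^ 2 ∧ Monoid.exponent P = 4 ∧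
      Subgroup.center P = commutator P ∧ Nat.card (Subgroup.center P) = 2 ^ (2 * m + 1) := by
  obtain ⟨Q, hQ⟩ := exists_sylow_UG D hG
  obtain ⟨g, hg⟩ := MulAction.exists_smul_eq (Cfsg.Sz F m) Q P
  have hmemP : ∀ a b, g * tG D a b * g⁻¹ ∈ P := by
    intro a b
    rw [← hg, mem_smul_sylow]
    have e : g⁻¹ * (g * tG D a b * g⁻¹) * g = tG D a b := by group
    rw [e]
    change tG D a b ∈ (Q : Subgroup (Cfsg.Sz F m))
    rw [hQ]
    exact tG_mem_UG D a b
  apply suz2 D (fun a b => (⟨g * tG D a b * g⁻¹, hmemP a b⟩ : P))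
  · intro a b c d h
    have h' : g * tG D a b * g⁻¹ = g * tG D c d * g⁻¹ := congrArg Subtype.val h
    exact tG_inj D (by simpa using h')
  · rintro ⟨v, hv⟩
    have hv' := hv
    rw [← hg, mem_smul_sylow] at hv'
    change g⁻¹ * v * g ∈ (Q : Subgroup (Cfsg.Sz F m)) at hv'
    rw [hQ] at hv'
    obtain ⟨a, b, e⟩ := hv'
    refine ⟨a, b, Subtype.ext ?_⟩
    show v = g * tG D a b * g⁻¹
    rw [← e]
    group
  · intro a b c d
    apply Subtype.ext
    show (g * tG D a b * g⁻¹) * (g * tG D c d * g⁻¹) = g * tG D (a + c) (b + d + D.θ a * c) * g⁻¹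
    rw [← tG_mul]
    group

end Cfsg.Agent.Lib.Helper1.Sz
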