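import Mathlib
import Cfsg.Prelude.Def_LieExceptional
import Cfsg.Agent.Lib.Helper1.Sz6

set_option autoImplicit false

namespace Cfsg.Agent.Lib.Helper1.Sz

open Matrix
open scoped Pointwise

variable {F : Type*} [Field F] [Fintype F] {m : ℕ}

theorem sylow_cyclic_of_cyclic {G : Type*} [Group G] [Finite G] {p : ℕ} [Fact p.Prime]
    (C : Subgroup G) [IsCyclic C]
    (h : (Nat.card G).factorization p = (Nat.card C).factorization p) (P : Sylow p G) :
    IsCyclic P := by
  have S : Sylow p C := default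
  have hS : Nat.card S = p ^ (Nat.card C).factorization p := Sylow.card_eq_multiplicity S
  have hS' : Nat.card ((S : Subgroup C).map C.subtype) = p ^ (Nat.card G).factorization p := by
    rw [h, ← hS]
    exact Subgroup.card_map_of_injective (Subgroup.subtype_injective C)
  haveI : IsCyclic (S : Subgroup C) := Subgroup.isCyclic _
  have hcyc : IsCyclic ((S : Subgroup C).map C.subtype) :=
    isCyclic_of_surjective
      ((S : Subgroup C).equivMapOfInjective C.subtype (Subgroup.subtype_injective C)).toMonoidHom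
      (MulEquiv.surjective _)
  have e : P ≃* (Sylow.ofCard ((S : Subgroup C).map C.subtype) hS' : Sylow p G) := Sylow.equiv P _
  haveI : IsCyclic (Sylow.ofCard ((S : Subgroup C).map C.subtype) hS' : Sylow p G) := hcyc
  exact isCyclic_of_surjective e.symm.toMonoidHom e.symm.surjective

theorem fact_mul_of_not_dvd {p a b : ℕ} (ha : a ≠ 0) (hb : ¬ p ∣ b) :
    (a * b).factorization p = a.factorization p := by
  rw [Nat.factorization_mul ha (fun h => hb (by rw [h]; exact dvd_zero p))]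
  simp [Nat.factorization_eq_zero_of_not_dvd hb]

theorem sylow_cyclic_A (D : Dat F m)
    (hG : Nat.card (Cfsg.Sz F m) = (2 ^ (2 * m + 1)) ^ 2 * ((2 ^ (2 * m + 1)) ^ 2 + 1)
      * (2 ^ (2 * m + 1) - 1)) {p : ℕ} [Fact p.Prime] (hp : p ≠ 2)
    (hp2 : ¬ p ∣ (2 ^ (2 * m + 1)) ^ 2 + 1) (P : Sylow p (Cfsg.Sz F m)) : IsCyclic P := by
  have hinj : Function.Injective (hGHom D) := fun s t h => hG_inj D h
  haveI : IsCyclic (hGHom D).range :=
    isCyclic_of_surjective (hGHom D).rangeRestrict (hGHom D).rangeRestrict_surjective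
  apply sylow_cyclic_of_cyclic (hGHom D).range
  have hcard : Nat.card (hGHom D).range = 2 ^ (2 * m + 1) - 1 := by
    rw [← Nat.card_congr (MonoidHom.ofInjective hinj).toEquiv, Nat.card_units,
      Nat.card_eq_fintype_card, D.hF]
  rw [hcard, hG]
  have hp' := (Fact.out : p.Prime)
  have h1 : ¬ p ∣ (2 ^ (2 * m + 1)) ^ 2 := by
    intro h
    have h3 := hp'.dvd_of_dvd_pow (hp'.dvd_of_dvd_pow h)
    exact hp ((Nat.prime_dvd_prime_iff_eq hp' Nat.prime_two).mp h3)
  have hq1 : 2 ^ (2 * m + 1) - 1 ≠ 0 := by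
    have : 2 ≤ 2 ^ (2 * m + 1) := by
      calc 2 = 2 ^ 1 := by norm_num
        _ ≤ 2 ^ (2 * m + 1) := Nat.pow_le_pow_right (by norm_num) (by omega)
    omega
  rw [mul_assoc, mul_comm, fact_mul_of_not_dvd (by positivity) h1, mul_comm,
    fact_mul_of_not_dvd hq1 hp2]

theorem sylow_cyclic_B (D : Dat F m) {p : ℕ} [Fact p.Prime] (hp : p ≠ 2)
    (hp2 : p ∣ (2 ^ (2 * m + 1)) ^ 2 + 1) (P : Sylow p (Cfsg.Sz F m)) : IsCyclic P := by
  classical
  have hp' := (Fact.out : p.Prime)
  haveI : CharP F 2 := CharTwo.of_one_ne_zero_of_two_eq_zero one_ne_zero D.h2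
  have hfr : Module.finrank F (FiniteField.Extension F 2 4) = 4 :=
    FiniteField.finrank_extension F 2 4
  let b : Module.Basis (Fin 4) F (FiniteField.Extension F 2 4) :=
    Module.finBasisOfFinrankEq F _ hfr
  let φ : (FiniteField.Extension F 2 4)ˣ →* Matrix.GeneralLinearGroup (Fin 4) F :=
    Units.map (Algebra.leftMulMatrix b).toRingHom.toMonoidHom
  have hφ : Function.Injective φ := Units.map_injective (Algebra.leftMulMatrix_injective b)
  haveI : IsCyclic φ.range := isCyclic_of_surjective φ.rangeRestrict φ.rangeRestrict_surjective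
  have hQ2 : 2 ≤ 2 ^ (2 * m + 1) := by
    calc 2 = 2 ^ 1 := by norm_num
      _ ≤ 2 ^ (2 * m + 1) := Nat.pow_le_pow_right (by norm_num) (by omega)
  generalize hQ : 2 ^ (2 * m + 1) = Q at hp2 hQ2
  have hcardF : Fintype.card F = Q := by rw [D.hF, hQ]
  have hcardC : Nat.card φ.range = Q ^ 4 - 1 := by
    rw [← Nat.card_congr (MonoidHom.ofInjective hφ).toEquiv, Nat.card_units,
      FiniteField.natCard_extension, Nat.card_eq_fintype_card, hcardF]
  have hcardG : Nat.card (Matrix.GeneralLinearGroup (Fin 4) F) =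
      (Q ^ 4 - 1) * (Q ^ 4 - Q) * (Q ^ 4 - Q ^ 2) * (Q ^ 4 - Q ^ 3) := by
    rw [Matrix.card_GL_field, Fin.prod_univ_four, hcardF]
    simp
  have hx : ((Q : ℕ) : ZMod p) ^ 2 + 1 = 0 := by
    have := (ZMod.natCast_eq_zero_iff _ p).mpr hp2
    push_cast at this
    exact this
  have h20 : (2 : ZMod p) ≠ 0 := by
    intro h
    have h3 : ((2 : ℕ) : ZMod p) = 0 := by exact_mod_cast h
    rw [ZMod.natCast_eq_zero_iff] at h3
    exact hp ((Nat.prime_dvd_prime_iff_eq hp' Nat.prime_two).mp h3)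
  have le1 : Q ≤ Q ^ 4 := Nat.le_self_pow (by norm_num) Q
  have le2 : Q ^ 2 ≤ Q ^ 4 := Nat.pow_le_pow_right (by omega) (by norm_num)
  have le3 : Q ^ 3 ≤ Q ^ 4 := Nat.pow_le_pow_right (by omega) (by norm_num)
  have nd1 : ¬ p ∣ Q ^ 4 - Q := by
    intro h
    have h' := (ZMod.natCast_eq_zero_iff _ p).mpr h
    rw [Nat.cast_sub le1, Nat.cast_pow] at h'
    apply h20
    linear_combination hx - ((Q : ZMod p) + 1) * (((Q : ZMod p) ^ 2 - 1) * hx - h')
  have nd2 : ¬ p ∣ Q ^ 4 - Q ^ 2 := by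
    intro h
    have h' := (ZMod.natCast_eq_zero_iff _ p).mpr h
    rw [Nat.cast_sub le2, Nat.cast_pow, Nat.cast_pow] at h'
    apply h20
    linear_combination h' - ((Q : ZMod p) ^ 2 - 2) * hx
  have nd3 : ¬ p ∣ Q ^ 4 - Q ^ 3 := by
    intro h
    have h' := (ZMod.natCast_eq_zero_iff _ p).mpr h
    rw [Nat.cast_sub le3, Nat.cast_pow, Nat.cast_pow] at h'
    apply h20
    linear_combination hx - ((Q : ZMod p) - 1) * (h' - ((Q : ZMod p) ^ 2 - (Q : ZMod p) - 1) * hx)
  have hA : Q ^ 4 - 1 ≠ 0 := by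
    have : 2 ≤ Q ^ 4 := le_trans hQ2 le1
    omega
  have key : ∀ R : Sylow p (Matrix.GeneralLinearGroup (Fin 4) F), IsCyclic R := fun R =>
    sylow_cyclic_of_cyclic φ.range (by
      rw [hcardC, hcardG, fact_mul_of_not_dvd _ nd3, fact_mul_of_not_dvd _ nd2,
        fact_mul_of_not_dvd hA nd1]
      · exact Nat.mul_ne_zero hA (fun h => nd1 (h ▸ dvd_zero p))
      · exact Nat.mul_ne_zero (Nat.mul_ne_zero hA (fun h => nd1 (h ▸ dvd_zero p)))
          (fun h => nd2 (h ▸ dvd_zero p))) R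
  have hι : Function.Injective ((Matrix.SpecialLinearGroup.toGL).comp (Cfsg.Sz F m).subtype :
      Cfsg.Sz F m →* Matrix.GeneralLinearGroup (Fin 4) F) :=
    Matrix.SpecialLinearGroup.toGL_injective.comp (Subgroup.subtype_injective _)
  have hPg : IsPGroup p ((P : Subgroup (Cfsg.Sz F m)).map
      ((Matrix.SpecialLinearGroup.toGL).comp (Cfsg.Sz F m).subtype)) := P.isPGroup'.map _
  obtain ⟨R, hR⟩ := hPg.exists_le_sylow
  haveI := key R
  let ψ : P →* R :=
    { toFun := fun x => ⟨((Matrix.SpecialLinearGroup.toGL).comp (Cfsg.Sz F m).subtype) x,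
        hR (Subgroup.mem_map_of_mem _ x.2)⟩
      map_one' := Subtype.ext (map_one _)
      map_mul' := fun x y => Subtype.ext (map_mul _ _ _) }
  exact isCyclic_of_injective ψ (fun x y h => Subtype.ext (hι (congrArg Subtype.val h)))

end Cfsg.Agent.Lib.Helper1.Sz
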