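import Mathlib
import Cfsg.Prelude.Def_LieExceptional
import Cfsg.Agent.Lib.Helper1.Sz7

set_option autoImplicit false

namespace Cfsg.Agent.Lib.Helper1.Sz

open Matrix
open scoped Pointwise

variable {F : Type*} [Field F] [Fintype F] {m : ℕ}

theorem nilpotent_of_comm {K : Type*} [Group K] (h : ∀ x y : K, x * y = y * x) :
    Group.IsNilpotent K := by
  letI : CommGroup K := { (inferInstance : Group K) with mul_comm := h }
  exact CommGroup.isNilpotent

theorem exists_sylow_le {G : Type*} [Group G] [Finite G] {p : ℕ} [Fact p.Prime]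
    (C : Subgroup G)
    (h : (Nat.card G).factorization p = (Nat.card C).factorization p) :
    ∃ Q : Sylow p G, (Q : Subgroup G) ≤ C := by
  have S : Sylow p C := default
  have hS : Nat.card S = p ^ (Nat.card C).factorization p := Sylow.card_eq_multiplicity S
  have hS' : Nat.card ((S : Subgroup C).map C.subtype) = p ^ (Nat.card G).factorization p := by
    rw [h, ← hS]
    exact Subgroup.card_map_of_injective (Subgroup.subtype_injective C)
  refine ⟨Sylow.ofCard ((S : Subgroup C).map C.subtype) hS', ?_⟩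
  rintro _ ⟨y, _, rfl⟩
  exact y.2

theorem exists_conj_mem {G : Type*} [Group G] [Finite G] {p : ℕ} [Fact p.Prime]
    (Q : Sylow p G) {x : G} (hx : orderOf x = p) : ∃ k : G, k * x * k⁻¹ ∈ Q := by
  have hP : IsPGroup p (Subgroup.zpowers x) :=
    IsPGroup.of_card (n := 1) (by rw [Nat.card_zpowers, hx, pow_one])
  obtain ⟨R, hR⟩ := hP.exists_le_sylow
  obtain ⟨k, hk⟩ := MulAction.exists_smul_eq G R Q
  refine ⟨k, ?_⟩
  have hxR : x ∈ R := hR (Subgroup.mem_zpowers x)
  rw [← hk, mem_smul_sylow]
  have e : k⁻¹ * (k * x * k⁻¹) * k = x := by group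
  rw [e]
  exact hxR

theorem cent_tG (D : Dat F m) {a b : F} (hab : a ≠ 0 ∨ b ≠ 0) {c : Cfsg.Sz F m}
    (hc : c * tG D a b = tG D a b * c) : ∃ a' b' : F, c = tG D a' b' := by
  have hfix : (c : Matrix.SpecialLinearGroup (Fin 4) F) •
      (pI : Projectivization F (Fin 4 → F)) = pI := by
    have hmem := smul_mem c.2 (pI_mem (F := F) (m := m))
    rcases (mem_ovoid D _).mp hmem with h | ⟨x, y, h⟩
    · exact h
    · exfalso
      have e : Ts D a b * (c : Matrix.SpecialLinearGroup (Fin 4) F) = c * Ts D a b :=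
        (congrArg Subtype.val hc).symm
      have h1 : Ts D a b • pt D x y = pt D x y := by
        rw [← h, ← mul_smul, e, mul_smul, Ts_pI]
      obtain ⟨ha, hb⟩ := Ts_fix D h1
      rcases hab with h | h
      · exact h ha
      · exact h hb
  obtain ⟨a', b', s, rfl⟩ := stab1G D c hfix
  have h1 : hG D s * tG D a b = tG D ((s : F) ^ 2 * a) (D.θ s ^ 2 * (s : F) ^ 2 * b) * hG D s := by
    rw [← hG_tG]
    group
  have h2 : tG D a' b' * tG D ((s : F) ^ 2 * a) (D.θ s ^ 2 * (s : F) ^ 2 * b)
      = tG D a b * tG D a' b' := by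
    have h3 : tG D a' b' * tG D ((s : F) ^ 2 * a) (D.θ s ^ 2 * (s : F) ^ 2 * b) * hG D s
        = tG D a b * tG D a' b' * hG D s := by
      rw [mul_assoc, ← h1, ← mul_assoc, hc, mul_assoc]
    exact mul_right_cancel h3
  rw [tG_mul, tG_mul] at h2
  obtain ⟨e1, e2⟩ := tG_inj D h2
  have hs : s = 1 := by
    by_cases ha : a = 0
    · subst ha
      have hb : b ≠ 0 := by
        rcases hab with h | h
        · exact absurd rfl h
        · exact h
      apply D.unit_eq_one
      simp only [mul_zero, map_zero, zero_mul, add_zero] at e2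
      have h4 : (D.θ s ^ 2 * (s : F) ^ 2 - 1) * b = 0 := by linear_combination e2
      rcases mul_eq_zero.mp h4 with h | h
      · linear_combination h
      · exact absurd h hb
    · apply Units.ext
      rw [Units.val_one]
      apply D.eq_one_of_sq
      have h4 : ((s : F) ^ 2 - 1) * a = 0 := by linear_combination e1
      rcases mul_eq_zero.mp h4 with h | h
      · linear_combination h
      · exact absurd h ha
  subst hs
  exact ⟨a', b', by rw [hG_one, mul_one]⟩

theorem cent_hG (D : Dat F m) {t : Fˣ} (ht : t ≠ 1) {c : Cfsg.Sz F m}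
    (hc : c * hG D t = hG D t * c) : ∃ s : Fˣ, c = hG D s := by
  have e : Hs D t * (c : Matrix.SpecialLinearGroup (Fin 4) F) = c * Hs D t :=
    (congrArg Subtype.val hc).symm
  have hfixed : ∀ p ∈ Cfsg.suzukiOvoid F m, Hs D t • p = p → p = pI ∨ p = pt D 0 0 := by
    intro p hp hfp
    rcases (mem_ovoid D p).mp hp with h | ⟨x, y, h⟩
    · exact Or.inl h
    · right
      subst h
      by_contra hne
      have hxy : x ≠ 0 ∨ y ≠ 0 := by
        by_contra hcon
        simp only [not_or, not_not] at hcon
        obtain ⟨rfl, rfl⟩ := hcon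
        exact hne rfl
      exact ht (Hs_fix D hxy hfp)
  have hI := hfixed _ (smul_mem c.2 (pI_mem (F := F) (m := m)))
    (by rw [← mul_smul, e, mul_smul, Hs_pI])
  have h0 := hfixed _ (smul_mem c.2 (pt_mem D 0 0))
    (by rw [← mul_smul, e, mul_smul, Hs_pt0])
  have hne : (c : Matrix.SpecialLinearGroup (Fin 4) F) • (pI : Projectivization F (Fin 4 → F))
      ≠ (c : Matrix.SpecialLinearGroup (Fin 4) F) • pt D 0 0 := fun h =>
    pt_ne_pI D 0 0 (MulAction.injective _ h).symm
  rcases hI with hI | hI
  · rcases h0 with h0 | h0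
    · exact absurd (hI.trans h0.symm) hne
    · obtain ⟨s, hs⟩ := stab2 D c.2 hI h0
      exact ⟨s, Subtype.ext hs⟩
  · rcases h0 with h0 | h0
    · exfalso
      have f1 : ((wG D * c : Cfsg.Sz F m) : Matrix.SpecialLinearGroup (Fin 4) F) •
          (pI : Projectivization F (Fin 4 → F)) = pI := by
        show (Ws D * (c : Matrix.SpecialLinearGroup (Fin 4) F)) • pI = pI
        rw [mul_smul, hI, Ws_pt0]
      have f0 : ((wG D * c : Cfsg.Sz F m) : Matrix.SpecialLinearGroup (Fin 4) F) •
          pt D 0 0 = pt D 0 0 := by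
        show (Ws D * (c : Matrix.SpecialLinearGroup (Fin 4) F)) • pt D 0 0 = pt D 0 0
        rw [mul_smul, h0, Ws_pI]
      obtain ⟨s, hs⟩ := stab2 D (wG D * c).2 f1 f0
      have hs' : wG D * c = hG D s := Subtype.ext hs
      have hwi : (wG D)⁻¹ = wG D := inv_eq_of_mul_eq_one_right (wG_mul D)
      have hc' : c = wG D * hG D s := by
        rw [← hs', ← mul_assoc, wG_mul, one_mul]
      have hw : wG D * hG D t * wG D = hG D t⁻¹ := Subtype.ext (Ws_Hs D t)
      have h3 : hG D t * wG D = wG D * hG D t⁻¹ := by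
        rw [← hw, ← mul_assoc, ← mul_assoc, wG_mul, one_mul]
      rw [hc'] at hc
      have h4 : wG D * (hG D s * hG D t) = wG D * (hG D t⁻¹ * hG D s) := by
        rw [← mul_assoc, hc, ← mul_assoc, h3, mul_assoc]
      have h5 := hG_inj D (by simpa [hG_mul] using mul_left_cancel h4)
      have h6 : t * t = 1 := by
        have : s * t = s * t⁻¹ := by rw [h5, mul_comm]
        have h7 := mul_left_cancel this
        nth_rewrite 2 [h7]
        exact mul_inv_cancel t
      apply ht
      apply Units.ext
      rw [Units.val_one]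
      apply D.eq_one_of_sq
      rw [sq, ← Units.val_mul, h6, Units.val_one]
    · exact absurd (hI.trans h0.symm) hne

end Cfsg.Agent.Lib.Helper1.Sz
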