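import Mathlib
import Cfsg.Prelude.Def_LieExceptional
import Cfsg.Agent.Lib.Helper1.Sz8

set_option autoImplicit false

namespace Cfsg.Agent.Lib.Helper1.Sz

open Matrix
open scoped Pointwise

variable {F : Type*} [Field F] [Fintype F] {m : ℕ}

theorem not_dvd_pow_sub {p Q : ℕ} [Fact p.Prime] (hp : p ≠ 2) (hQ2 : 2 ≤ Q)
    (hp2 : p ∣ Q ^ 2 + 1) {i j : ℕ} (hij : i < j) (hj : j < 4) : ¬ p ∣ Q ^ j - Q ^ i := by
  have hp' := (Fact.out : p.Prime)
  have hx : ((Q : ℕ) : ZMod p) ^ 2 + 1 = 0 := by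
    have := (ZMod.natCast_eq_zero_iff _ p).mpr hp2
    push_cast at this
    exact this
  have h20 : (2 : ZMod p) ≠ 0 := by
    intro h
    have h3 : ((2 : ℕ) : ZMod p) = 0 := by exact_mod_cast h
    rw [ZMod.natCast_eq_zero_iff] at h3
    exact hp ((Nat.prime_dvd_prime_iff_eq hp' Nat.prime_two).mp h3)
  intro h
  have h' := (ZMod.natCast_eq_zero_iff _ p).mpr h
  rw [Nat.cast_sub (Nat.pow_le_pow_right (by omega) hij.le), Nat.cast_pow, Nat.cast_pow] at h'
  apply h20
  interval_cases j <;> interval_cases i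
  · linear_combination hx - ((Q : ZMod p) + 1) * h'
  · linear_combination hx - h'
  · linear_combination hx - ((Q : ZMod p) - 1) * (hx - h')
  · linear_combination hx - ((Q : ZMod p) - 1) * ((Q : ZMod p) * hx - h')
  · linear_combination 2 * hx - (Q : ZMod p) * ((Q : ZMod p) * hx - h')
  · linear_combination hx - ((Q : ZMod p) + 1) * (((Q : ZMod p) - 1) * hx - h')

theorem not_dvd_pow_four_sub {p Q : ℕ} [Fact p.Prime] (hp : p ≠ 2) (hQ2 : 2 ≤ Q)
    (hp2 : p ∣ Q ^ 2 + 1) {i : ℕ} (hi0 : 0 < i) (hi : i < 4) : ¬ p ∣ Q ^ 4 - Q ^ i := by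
  have hp' := (Fact.out : p.Prime)
  have hx : ((Q : ℕ) : ZMod p) ^ 2 + 1 = 0 := by
    have := (ZMod.natCast_eq_zero_iff _ p).mpr hp2
    push_cast at this
    exact this
  have h20 : (2 : ZMod p) ≠ 0 := by
    intro h
    have h3 : ((2 : ℕ) : ZMod p) = 0 := by exact_mod_cast h
    rw [ZMod.natCast_eq_zero_iff] at h3
    exact hp ((Nat.prime_dvd_prime_iff_eq hp' Nat.prime_two).mp h3)
  intro h
  have h' := (ZMod.natCast_eq_zero_iff _ p).mpr h
  rw [Nat.cast_sub (Nat.pow_le_pow_right (by omega) (by omega)), Nat.cast_pow, Nat.cast_pow] at h'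
  apply h20
  interval_cases i
  · linear_combination hx - ((Q : ZMod p) + 1) * (((Q : ZMod p) ^ 2 - 1) * hx - h')
  · linear_combination h' - ((Q : ZMod p) ^ 2 - 2) * hx
  · linear_combination hx - ((Q : ZMod p) - 1) *
      (h' - ((Q : ZMod p) ^ 2 - (Q : ZMod p) - 1) * hx)

theorem cent_comm_GL (D : Dat F m) {p : ℕ} [Fact p.Prime] (hp : p ≠ 2)
    (hp2 : p ∣ (2 ^ (2 * m + 1)) ^ 2 + 1) {x : Matrix.GeneralLinearGroup (Fin 4) F}
    (hx : orderOf x = p) {c c' : Matrix.GeneralLinearGroup (Fin 4) F}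
    (hc : c * x = x * c) (hc' : c' * x = x * c') : c * c' = c' * c := by
  classical
  have hp' := (Fact.out : p.Prime)
  haveI : CharP F 2 := CharTwo.of_one_ne_zero_of_two_eq_zero one_ne_zero D.h2
  have hfr : Module.finrank F (FiniteField.Extension F 2 4) = 4 :=
    FiniteField.finrank_extension F 2 4
  haveI : CharP (FiniteField.Extension F 2 4) 2 :=
    charP_of_injective_algebraMap (algebraMap F (FiniteField.Extension F 2 4)).injective 2
  let b : Module.Basis (Fin 4) F (FiniteField.Extension F 2 4) :=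
    Module.finBasisOfFinrankEq F _ hfr
  let φ : (FiniteField.Extension F 2 4)ˣ →* Matrix.GeneralLinearGroup (Fin 4) F :=
    Units.map (Algebra.leftMulMatrix b).toRingHom.toMonoidHom
  have hφ : Function.Injective φ := Units.map_injective (Algebra.leftMulMatrix_injective b)
  have hQ2 : 2 ≤ 2 ^ (2 * m + 1) := by
    calc 2 = 2 ^ 1 := by norm_num
      _ ≤ 2 ^ (2 * m + 1) := Nat.pow_le_pow_right (by norm_num) (by omega)
  have hcardF : Fintype.card F = 2 ^ (2 * m + 1) := D.hF
  have hcardC : Nat.card φ.range = (2 ^ (2 * m + 1)) ^ 4 - 1 := by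
    rw [← Nat.card_congr (MonoidHom.ofInjective hφ).toEquiv, Nat.card_units,
      FiniteField.natCard_extension, Nat.card_eq_fintype_card, hcardF]
  have hcardG : Nat.card (Matrix.GeneralLinearGroup (Fin 4) F) =
      ((2 ^ (2 * m + 1)) ^ 4 - 1) * ((2 ^ (2 * m + 1)) ^ 4 - 2 ^ (2 * m + 1)) *
      ((2 ^ (2 * m + 1)) ^ 4 - (2 ^ (2 * m + 1)) ^ 2) *
      ((2 ^ (2 * m + 1)) ^ 4 - (2 ^ (2 * m + 1)) ^ 3) := by
    rw [Matrix.card_GL_field, Fin.prod_univ_four, hcardF]
    simp
  have nd : ∀ i : ℕ, 0 < i → i < 4 →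
      ¬ p ∣ (2 ^ (2 * m + 1)) ^ 4 - (2 ^ (2 * m + 1)) ^ i :=
    fun i hi0 hi => not_dvd_pow_four_sub hp hQ2 hp2 hi0 hi
  have hA : (2 ^ (2 * m + 1)) ^ 4 - 1 ≠ 0 := by
    have : 2 ≤ (2 ^ (2 * m + 1)) ^ 4 := le_trans hQ2 (Nat.le_self_pow (by norm_num) _)
    omega
  have nd1' : ¬ p ∣ (2 ^ (2 * m + 1)) ^ 4 - 2 ^ (2 * m + 1) := by
    have := nd 1 (by norm_num) (by norm_num)
    rwa [pow_one] at this
  have heq : (Nat.card (Matrix.GeneralLinearGroup (Fin 4) F)).factorization p
      = (Nat.card φ.range).factorization p := by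
    rw [hcardC, hcardG, fact_mul_of_not_dvd _ (nd 3 (by norm_num) (by norm_num)),
      fact_mul_of_not_dvd _ (nd 2 (by norm_num) (by norm_num)), fact_mul_of_not_dvd hA nd1']
    · exact Nat.mul_ne_zero hA (fun h => nd1' (by rw [h]; exact dvd_zero p))
    · exact Nat.mul_ne_zero (Nat.mul_ne_zero hA (fun h => nd1' (by rw [h]; exact dvd_zero p)))
        (fun h => nd 2 (by norm_num) (by norm_num) (by rw [h]; exact dvd_zero p))
  obtain ⟨Q', hQ'⟩ := exists_sylow_le φ.range heq
  obtain ⟨k, hk⟩ := exists_conj_mem Q' hx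
  obtain ⟨κ, hκ⟩ := hQ' hk
  have hκp : κ ^ p = 1 := by
    apply hφ
    rw [map_pow, hκ, map_one]
    have e : (k * x * k⁻¹) ^ p = k * x ^ p * k⁻¹ := by
      rw [← MulAut.conj_apply, ← map_pow, MulAut.conj_apply]
    rw [e, ← hx, pow_orderOf_eq_one]
    group
  have hκ1 : κ ≠ 1 := by
    rintro rfl
    rw [map_one] at hκ
    have hx1 : x = 1 := by
      have e : x = k⁻¹ * (k * x * k⁻¹) * k := by group
      rw [e, ← hκ]
      group
    rw [hx1, orderOf_one] at hx
    exact hp'.one_lt.ne hx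
  have hκord : orderOf κ = p := orderOf_eq_prime hκp hκ1
  have hinjκ : Function.Injective (fun j : Fin 4 =>
      ((κ : FiniteField.Extension F 2 4)) ^ ((2 ^ (2 * m + 1)) ^ (j : ℕ))) := by
    have key : ∀ i j : Fin 4, i < j →
        ((κ : FiniteField.Extension F 2 4)) ^ ((2 ^ (2 * m + 1)) ^ (i : ℕ)) ≠
        ((κ : FiniteField.Extension F 2 4)) ^ ((2 ^ (2 * m + 1)) ^ (j : ℕ)) := by
      intro i j hij h
      have hle : (2 ^ (2 * m + 1)) ^ (i : ℕ) ≤ (2 ^ (2 * m + 1)) ^ (j : ℕ) :=
        Nat.pow_le_pow_right (by omega) (le_of_lt hij)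
      have h1 : κ ^ ((2 ^ (2 * m + 1)) ^ (j : ℕ) - (2 ^ (2 * m + 1)) ^ (i : ℕ)) = 1 := by
        rw [pow_sub _ hle]
        apply Units.ext
        rw [Units.val_mul, Units.val_pow_eq_pow_val, ← h, ← Units.val_pow_eq_pow_val,
          ← Units.val_mul, mul_inv_cancel]
      have h2 := orderOf_dvd_of_pow_eq_one h1
      rw [hκord] at h2
      exact not_dvd_pow_sub hp hQ2 hp2 (show (i : ℕ) < (j : ℕ) from hij) j.2 h2
    intro i j h
    by_contra hne
    rcases lt_or_gt_of_ne hne with h1 | h1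
    · exact key i j h1 h
    · exact key j i h1 h.symm
  have hli : LinearIndependent F (fun i : Fin 4 => (κ : FiniteField.Extension F 2 4) ^ (i : ℕ)) := by
    rw [Fintype.linearIndependent_iff]
    intro a ha
    have ha' : ∑ i : Fin 4, algebraMap F (FiniteField.Extension F 2 4) (a i) *
        (κ : FiniteField.Extension F 2 4) ^ (i : ℕ) = 0 := by
      rw [← ha]
      exact Finset.sum_congr rfl (fun i _ => (Algebra.smul_def _ _).symm)
    have hf0 : (∑ i : Fin 4, Polynomial.C (algebraMap F (FiniteField.Extension F 2 4) (a i)) *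
        Polynomial.X ^ (i : ℕ)) = 0 := by
      by_contra hf
      apply hf
      apply Polynomial.eq_zero_of_natDegree_lt_card_of_eval_eq_zero _ hinjκ
      · intro j
        simp only [Polynomial.eval_finset_sum, Polynomial.eval_mul, Polynomial.eval_C,
          Polynomial.eval_pow, Polynomial.eval_X]
        have he : (2 ^ (2 * m + 1)) ^ (j : ℕ) = 2 ^ ((2 * m + 1) * (j : ℕ)) := by
          rw [pow_mul]
        have h3 : (∑ i : Fin 4, algebraMap F (FiniteField.Extension F 2 4) (a i) *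
            (κ : FiniteField.Extension F 2 4) ^ (i : ℕ)) ^ (2 ^ ((2 * m + 1) * (j : ℕ))) = 0 := by
          rw [ha', zero_pow (by positivity)]
        rw [sum_pow_char_pow] at h3
        rw [← h3, he]
        apply Finset.sum_congr rfl
        intro i _
        rw [mul_pow, ← map_pow, ← he, ← hcardF, FiniteField.pow_card_pow, ← pow_mul, ← pow_mul]
        ring
      · rw [Fintype.card_fin]
        exact (Polynomial.natDegree_lt_iff_degree_lt hf).mpr (Polynomial.degree_sum_fin_lt _)
    intro i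
    have h4 := congrArg (fun g => Polynomial.coeff g (i : ℕ)) hf0
    simp only [Polynomial.finsetSum_coeff, Polynomial.coeff_C_mul_X_pow, Polynomial.coeff_zero,
      Fin.val_inj, Finset.sum_ite_eq, Finset.mem_univ, if_true] at h4
    exact (map_eq_zero _).mp h4
  have hspan : Submodule.span F (Set.range
      (fun i : Fin 4 => (κ : FiniteField.Extension F 2 4) ^ (i : ℕ))) = ⊤ :=
    hli.span_eq_top_of_card_eq_finrank' (by rw [Fintype.card_fin, hfr])
  have hcent : ∀ M : Matrix (Fin 4) (Fin 4) F,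
      M * Algebra.leftMulMatrix b (κ : FiniteField.Extension F 2 4) =
        Algebra.leftMulMatrix b (κ : FiniteField.Extension F 2 4) * M →
      ∃ y : FiniteField.Extension F 2 4, M = Algebra.leftMulMatrix b y := by
    intro M hM
    obtain ⟨τ, hτ⟩ : ∃ τ : FiniteField.Extension F 2 4 →ₗ[F] FiniteField.Extension F 2 4,
        LinearMap.toMatrix b b τ = M := ⟨(LinearMap.toMatrix b b).symm M, by simp⟩
    have h1 : τ ∘ₗ Algebra.lmul F _ (κ : FiniteField.Extension F 2 4) =
        Algebra.lmul F _ (κ : FiniteField.Extension F 2 4) ∘ₗ τ := by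
      apply (LinearMap.toMatrix b b).injective
      rw [LinearMap.toMatrix_comp b b b, LinearMap.toMatrix_comp b b b, hτ,
        ← Algebra.leftMulMatrix_apply]
      exact hM
    have h2 : ∀ z, τ ((κ : FiniteField.Extension F 2 4) * z) =
        (κ : FiniteField.Extension F 2 4) * τ z := fun z => by
      have := congrArg (fun f => f z) h1
      simpa using this
    have h3 : ∀ (i : ℕ) z, τ ((κ : FiniteField.Extension F 2 4) ^ i * z) =
        (κ : FiniteField.Extension F 2 4) ^ i * τ z := by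
      intro i
      induction i with
      | zero => intro z; simp
      | succ i ih =>
        intro z
        rw [pow_succ, mul_assoc, ih, h2, ← mul_assoc]
    have h4 : ∀ y z, τ (y * z) = y * τ z := by
      intro y
      have hy : y ∈ Submodule.span F (Set.range
          (fun i : Fin 4 => (κ : FiniteField.Extension F 2 4) ^ (i : ℕ))) := by
        rw [hspan]
        exact Submodule.mem_top
      induction hy using Submodule.span_induction with
      | mem y hy =>
        obtain ⟨i, rfl⟩ := hy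
        exact h3 _
      | zero => intro z; simp
      | add u v _ _ hu hv => intro z; rw [add_mul, map_add, hu, hv, add_mul]
      | smul r u _ hu => intro z; rw [smul_mul_assoc, map_smul, hu, smul_mul_assoc]
    refine ⟨τ 1, ?_⟩
    rw [← hτ, Algebra.leftMulMatrix_apply]
    congr 1
    ext y
    have := h4 y 1
    rw [mul_one] at this
    rw [this]
    simp [mul_comm]
  have hconj : ∀ d : Matrix.GeneralLinearGroup (Fin 4) F, d * x = x * d →
      ∃ y : FiniteField.Extension F 2 4,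
        ((k * d * k⁻¹ : Matrix.GeneralLinearGroup (Fin 4) F) : Matrix (Fin 4) (Fin 4) F) =
          Algebra.leftMulMatrix b y := by
    intro d hd
    apply hcent
    have e : (k * d * k⁻¹) * φ κ = φ κ * (k * d * k⁻¹) := by
      rw [hκ]
      calc k * d * k⁻¹ * (k * x * k⁻¹) = k * (d * x) * k⁻¹ := by group
        _ = k * (x * d) * k⁻¹ := by rw [hd]
        _ = k * x * k⁻¹ * (k * d * k⁻¹) := by group
    exact congrArg Units.val e
  obtain ⟨y, hy⟩ := hconj c hc
  obtain ⟨y', hy'⟩ := hconj c' hc'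
  have hcomm : (k * c * k⁻¹) * (k * c' * k⁻¹) = (k * c' * k⁻¹) * (k * c * k⁻¹) := by
    apply Units.ext
    show ((k * c * k⁻¹ : Matrix.GeneralLinearGroup (Fin 4) F) : Matrix (Fin 4) (Fin 4) F) *
        ((k * c' * k⁻¹ : Matrix.GeneralLinearGroup (Fin 4) F) : Matrix (Fin 4) (Fin 4) F) =
      ((k * c' * k⁻¹ : Matrix.GeneralLinearGroup (Fin 4) F) : Matrix (Fin 4) (Fin 4) F) *
        ((k * c * k⁻¹ : Matrix.GeneralLinearGroup (Fin 4) F) : Matrix (Fin 4) (Fin 4) F)
    rw [hy, hy', ← map_mul, ← map_mul, mul_comm]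
  calc c * c' = k⁻¹ * ((k * c * k⁻¹) * (k * c' * k⁻¹)) * k := by group
    _ = k⁻¹ * ((k * c' * k⁻¹) * (k * c * k⁻¹)) * k := by rw [hcomm]
    _ = c' * c := by group

end Cfsg.Agent.Lib.Helper1.Sz
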