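import Mathlib
import Cfsg.Prelude.Def_LieExceptional
import Cfsg.Agent.Lib.Helper1.Sz9

set_option autoImplicit false

namespace Cfsg.Agent.Lib.Helper1.Sz

open Matrix
open scoped Pointwise

variable {F : Type*} [Field F] [Fintype F] {m : ℕ}

theorem fact_eq_A (D : Dat F m)
    (hG : Nat.card (Cfsg.Sz F m) = (2 ^ (2 * m + 1)) ^ 2 * ((2 ^ (2 * m + 1)) ^ 2 + 1)
      * (2 ^ (2 * m + 1) - 1)) {p : ℕ} [Fact p.Prime] (hp : p ≠ 2)
    (hp2 : ¬ p ∣ (2 ^ (2 * m + 1)) ^ 2 + 1) :
    (Nat.card (Cfsg.Sz F m)).factorization p =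
      (Nat.card (hGHom D).range).factorization p := by
  have hinj : Function.Injective (hGHom D) := fun s t h => hG_inj D h
  have hcard : Nat.card (hGHom D).range = 2 ^ (2 * m + 1) - 1 := by
    rw [← Nat.card_congr (MonoidHom.ofInjective hinj).toEquiv, Nat.card_units,
      Nat.card_eq_fintype_card, D.hF]
  rw [hcard, hG]
  have hp' := (Fact.out : p.Prime)
  have h1 : ¬ p ∣ (2 ^ (2 * m + 1)) ^ 2 := by
    intro h
    have h3 := hp'.dvd_of_dvd_pow (hp'.dvd_of_dvd_pow h)
    exact hp ((Nat.prime_dvd_prime_iff_eq hp' Nat.prime_two).mp h3)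
  have hq1 : 2 ^ (2 * m + 1) - 1 ≠ 0 := by
    have : 2 ≤ 2 ^ (2 * m + 1) := by
      calc 2 = 2 ^ 1 := by norm_num
        _ ≤ 2 ^ (2 * m + 1) := Nat.pow_le_pow_right (by norm_num) (by omega)
    omega
  rw [mul_assoc, mul_comm, fact_mul_of_not_dvd (by positivity) h1, mul_comm,
    fact_mul_of_not_dvd hq1 hp2]

theorem cn (D : Dat F m)
    (hcardG : Nat.card (Cfsg.Sz F m) = (2 ^ (2 * m + 1)) ^ 2 * ((2 ^ (2 * m + 1)) ^ 2 + 1)
      * (2 ^ (2 * m + 1) - 1)) : Cfsg.IsCNGroup (Cfsg.Sz F m) := by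
  intro g hg
  have hn1 : orderOf g ≠ 1 := fun h => hg (orderOf_eq_one_iff.mp h)
  have hn0 : orderOf g ≠ 0 := (orderOf_pos g).ne'
  obtain ⟨p, hpp, hpn⟩ := Nat.exists_prime_and_dvd hn1
  haveI : Fact p.Prime := ⟨hpp⟩
  have hord : orderOf (g ^ (orderOf g / p)) = p := orderOf_pow_orderOf_div hn0 hpn
  generalize hg'def : g ^ (orderOf g / p) = g' at hord
  have hg'1 : g' ≠ 1 := fun h => by
    rw [h, orderOf_one] at hord
    exact hpp.one_lt.ne hord
  have hcent : ∀ c ∈ Subgroup.centralizer ({g} : Set (Cfsg.Sz F m)), c * g' = g' * c := by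
    intro c hc
    have h1 : g * c = c * g := Subgroup.mem_centralizer_iff.mp hc g (Set.mem_singleton g)
    rw [← hg'def]
    exact ((Commute.pow_left h1 _).eq).symm
  have hconj : ∀ (k c u : Cfsg.Sz F m), c * g' = g' * c → u = k * g' * k⁻¹ →
      (k * c * k⁻¹) * u = u * (k * c * k⁻¹) := by
    intro k c u h1 hu
    rw [hu]
    calc k * c * k⁻¹ * (k * g' * k⁻¹) = k * (c * g') * k⁻¹ := by group
      _ = k * (g' * c) * k⁻¹ := by rw [h1]
      _ = k * g' * k⁻¹ * (k * c * k⁻¹) := by group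
  by_cases hp2 : p = 2
  · subst hp2
    obtain ⟨Q, hQ⟩ := exists_sylow_UG D hcardG
    obtain ⟨k, hk⟩ := exists_conj_mem Q hord
    have hk' : k * g' * k⁻¹ ∈ UG D := by
      rw [← hQ]
      exact hk
    obtain ⟨a, b, hab⟩ := hk'
    have hab0 : a ≠ 0 ∨ b ≠ 0 := by
      by_contra hcon
      simp only [not_or, not_not] at hcon
      obtain ⟨rfl, rfl⟩ := hcon
      rw [tG_zero] at hab
      apply hg'1
      have e : g' = k⁻¹ * (k * g' * k⁻¹) * k := by group
      rw [e, hab]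
      group
    have hpg : IsPGroup 2 (Subgroup.centralizer ({g} : Set (Cfsg.Sz F m))) := by
      intro c
      refine ⟨2, Subtype.ext ?_⟩
      obtain ⟨a', b', e⟩ := cent_tG D hab0 (hconj k c.1 _ (hcent c.1 c.2) hab.symm)
      show (c.1) ^ 2 ^ 2 = 1
      have e2 : c.1 = k⁻¹ * tG D a' b' * k⁻¹⁻¹ := by
        rw [← e]
        group
      rw [e2, conj_pow, show (2 : ℕ) ^ 2 = 4 from rfl, tG_pow_four]
      group
    exact hpg.isNilpotent
  · by_cases hq : p ∣ (2 ^ (2 * m + 1)) ^ 2 + 1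
    · apply nilpotent_of_comm
      intro c c'
      apply Subtype.ext
      have hι : Function.Injective ((Matrix.SpecialLinearGroup.toGL).comp (Cfsg.Sz F m).subtype :
          Cfsg.Sz F m →* Matrix.GeneralLinearGroup (Fin 4) F) :=
        Matrix.SpecialLinearGroup.toGL_injective.comp (Subgroup.subtype_injective _)
      have hordι : orderOf (((Matrix.SpecialLinearGroup.toGL).comp (Cfsg.Sz F m).subtype :
          Cfsg.Sz F m →* Matrix.GeneralLinearGroup (Fin 4) F) g') = p := by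
        rw [orderOf_injective _ hι, hord]
      have h1 : ((Matrix.SpecialLinearGroup.toGL).comp (Cfsg.Sz F m).subtype :
          Cfsg.Sz F m →* Matrix.GeneralLinearGroup (Fin 4) F) c.1 *
          ((Matrix.SpecialLinearGroup.toGL).comp (Cfsg.Sz F m).subtype :
          Cfsg.Sz F m →* Matrix.GeneralLinearGroup (Fin 4) F) g' =
          ((Matrix.SpecialLinearGroup.toGL).comp (Cfsg.Sz F m).subtype :
          Cfsg.Sz F m →* Matrix.GeneralLinearGroup (Fin 4) F) g' *
          ((Matrix.SpecialLinearGroup.toGL).comp (Cfsg.Sz F m).subtype :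
          Cfsg.Sz F m →* Matrix.GeneralLinearGroup (Fin 4) F) c.1 := by
        rw [← map_mul, ← map_mul, hcent c.1 c.2]
      have h2 : ((Matrix.SpecialLinearGroup.toGL).comp (Cfsg.Sz F m).subtype :
          Cfsg.Sz F m →* Matrix.GeneralLinearGroup (Fin 4) F) c'.1 *
          ((Matrix.SpecialLinearGroup.toGL).comp (Cfsg.Sz F m).subtype :
          Cfsg.Sz F m →* Matrix.GeneralLinearGroup (Fin 4) F) g' =
          ((Matrix.SpecialLinearGroup.toGL).comp (Cfsg.Sz F m).subtype :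
          Cfsg.Sz F m →* Matrix.GeneralLinearGroup (Fin 4) F) g' *
          ((Matrix.SpecialLinearGroup.toGL).comp (Cfsg.Sz F m).subtype :
          Cfsg.Sz F m →* Matrix.GeneralLinearGroup (Fin 4) F) c'.1 := by
        rw [← map_mul, ← map_mul, hcent c'.1 c'.2]
      have h3 := cent_comm_GL D hp2 hq hordι h1 h2
      apply hι
      show ((Matrix.SpecialLinearGroup.toGL).comp (Cfsg.Sz F m).subtype :
          Cfsg.Sz F m →* Matrix.GeneralLinearGroup (Fin 4) F) (c.1 * c'.1) =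
        ((Matrix.SpecialLinearGroup.toGL).comp (Cfsg.Sz F m).subtype :
          Cfsg.Sz F m →* Matrix.GeneralLinearGroup (Fin 4) F) (c'.1 * c.1)
      rw [map_mul, map_mul]
      exact h3
    · obtain ⟨Q, hQ⟩ := exists_sylow_le (hGHom D).range (fact_eq_A D hcardG hp2 hq)
      obtain ⟨k, hk⟩ := exists_conj_mem Q hord
      obtain ⟨t, ht⟩ := hQ hk
      have ht' : hG D t = k * g' * k⁻¹ := ht
      have ht1 : t ≠ 1 := by
        rintro rfl
        rw [hG_one] at ht'
        apply hg'1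
        have e : g' = k⁻¹ * (k * g' * k⁻¹) * k := by group
        rw [e, ← ht']
        group
      have key : ∀ d ∈ Subgroup.centralizer ({g} : Set (Cfsg.Sz F m)),
          ∃ s, k * d * k⁻¹ = hG D s := fun d hd =>
        cent_hG D ht1 (hconj k d _ (hcent d hd) ht')
      apply nilpotent_of_comm
      intro c c'
      apply Subtype.ext
      show c.1 * c'.1 = c'.1 * c.1
      obtain ⟨s, hs⟩ := key c.1 c.2
      obtain ⟨s', hs'⟩ := key c'.1 c'.2
      have hcomm : (k * c.1 * k⁻¹) * (k * c'.1 * k⁻¹) = (k * c'.1 * k⁻¹) * (k * c.1 * k⁻¹) := by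
        rw [hs, hs', hG_mul, hG_mul, mul_comm]
      calc c.1 * c'.1 = k⁻¹ * ((k * c.1 * k⁻¹) * (k * c'.1 * k⁻¹)) * k := by group
        _ = k⁻¹ * ((k * c'.1 * k⁻¹) * (k * c.1 * k⁻¹)) * k := by rw [hcomm]
        _ = c'.1 * c.1 := by group

end Cfsg.Agent.Lib.Helper1.Sz
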